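import Mathlib
import Cfsg.Agent.OT.Defs
import Cfsg.Agent.GT.FrobeniusBasic
import Cfsg.Agent.GT.MinNormal

/-!
# Basic facts on the minimal configuration
-/

set_option autoImplicit false

namespace Cfsg.Agent.OT

open Subgroup MulAction Cfsg.Agent.TT Cfsg.Agent.Perm Cfsg.Agent.Perm.TT Cfsg.Agent.Loc.Mss
open Cfsg.Agent.Perm.TwoCount Cfsg.Agent.Perm.RankOne

universe u v

variable {G : Type u} {X : Type v} [Group G] [Finite G] [MulAction G X] [Finite X]
  {N R : X → Subgroup G} {x y : X}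

set_option linter.unusedSectionVars false

/-- An element of prime order acting without fixed points on `R`. -/
theorem not_dvd_of_fpf {D : Subgroup G} {f : G} {p : ℕ} (hp : p.Prime) (ho : orderOf f = p)
    (hn : f ∈ 𝐍[D]) (hf : ∀ k ∈ zpowers f, k ≠ 1 → ∀ r ∈ D, Commute r k → r = 1) :
    ¬ p ∣ Nat.card D := fun e => by
  have h1 := GT.Frob.card_dvd_card_sub_one_of_fpf (A := zpowers f) (K := D) (zpowers_le.2 hn)
    fun k hk k1 => eq_bot_iff.2 fun r hr =>
      hf k hk k1 r hr.1 (mem_centralizer_singleton_iff.1 hr.2)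
  rw [Nat.card_zpowers, ho] at h1
  have h2 : 1 ≤ Nat.card D := Nat.card_pos
  have := Nat.dvd_sub e h1
  rw [Nat.sub_sub_self h2] at this
  exact hp.one_lt.ne' (Nat.dvd_one.1 this)

theorem TI.exists_prime (h : TI N) (hxy : x ≠ y) {p : ℕ} (hp : p.Prime)
    (hd : p ∣ Nat.card (Kp N x y)) : ∃ f ∈ Kp N y x, orderOf f = p := by
  have := Fact.mk hp
  rw [← h.fam.card_Kp h.two hxy hxy.symm] at hd
  obtain ⟨f, hf⟩ := exists_prime_orderOf_dvd_card' p hd
  exact ⟨f, f.2, by rw [orderOf_coe, hf]⟩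

theorem Cfg.not_dvd (h : Cfg N R) (hxy : x ≠ y) {p : ℕ} (hp : p.Prime)
    (hd : p ∣ Nat.card (Kp N x y)) : ¬ p ∣ Nat.card (R x) := by
  obtain ⟨f, hf, ho⟩ := h.toTI.exists_prime hxy hp hd
  exact not_dvd_of_fpf hp ho (h.famR.mem_norm hf.2) fun k hk k1 r hr c =>
    h.fpf hxy (zpowers_le.2 hf hk) k1 hr c

theorem Cfg.nil (h : Cfg N R) (hxy : x ≠ y) : Group.IsNilpotent (R x) := by
  obtain ⟨p, hp, hd⟩ := Nat.exists_prime_and_dvd (n := Nat.card (Kp N x y))
    fun e => h.nsr hxy (card_eq_one.1 e)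
  obtain ⟨f, hf, ho⟩ := h.toTI.exists_prime hxy hp hd
  refine isNilpotent_of_fixedPointFree (h.famR.mem_norm hf.2) (ho ▸ hp) fun r hr c =>
    h.fpf hxy hf ?_ hr c.symm
  rintro rfl
  exact hp.one_lt.ne (by rw [← ho, orderOf_one])

/-- A subgroup of `N x` normalized by the normalizer of `N x` is everything or lies in `R x`. -/
theorem Cfg.max' (h : Cfg N R) {M : Subgroup G} (hM : M ≤ N x) (hn : 𝐍[N x] ≤ 𝐍[M]) :
    M = N x ∨ M ≤ R x :=
  h.max x M hM (ni_of_norm ((h.fam.stab_le_norm x).trans hn))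

theorem Cfg.R_ne (h : Cfg N R) (hxy : x ≠ y) : R x ≠ N x := fun e => by
  obtain ⟨k, hk, hy, k1⟩ := h.exists_mem hxy
  exact k1 (h.eq_one hxy (e ▸ hk) hy)

/-- A solvable subgroup normalized by the non-solvable group `N x` lies in `R x`. -/
theorem Cfg.rad (h : Cfg N R) (hs : ¬ Group.IsSolvable (N x)) {S : Subgroup G} (hS : S ≤ N x)
    (hn : N x ≤ 𝐍[S]) (hsol : Group.IsSolvable S) : S ≤ R x := by
  obtain ⟨M, ⟨m1, m2, m3⟩, hmax⟩ := Set.Finite.exists_maximal
    (s := {M : Subgroup G | M ≤ N x ∧ N x ≤ 𝐍[M] ∧ Group.IsSolvable M}) (Set.toFinite _)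
    ⟨S, hS, hn, hsol⟩
  have key : ∀ T ≤ N x, N x ≤ 𝐍[T] → Group.IsSolvable T → T ≤ M := fun T t1 t2 t3 =>
    le_sup_left.trans (hmax ⟨sup_le t1 m1, norm_sup t2 m2,
      GT.isSolvable_sup_of_le_normalizer (t1.trans m2)⟩ le_sup_right)
  have hni : NI x M := fun g hg m hm => by
    have e : cj(g, N x) = N x := by rw [h.fam.cj_eq, hg]
    refine key cj(g, M) (e ▸ map_mono m1) ?_ ?_ ⟨m, hm, rfl⟩
    · rw [← e]; exact map_norm_le _ m2
    · exact Group.isSolvable_of_surjective (MonoidHom.subgroupMap_surjective _ M)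
  rcases h.max x M m1 hni with e | e
  · exact absurd (e ▸ m3) hs
  · exact (key S hS hn hsol).trans e

end Cfsg.Agent.OT
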