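import Mathlib
import Cfsg.Agent.OT.Defs

/-!
# The split configuration: elementary facts
-/

set_option autoImplicit false

namespace Cfsg.Agent.OT

open Subgroup MulAction Cfsg.Agent.TT Cfsg.Agent.Perm Cfsg.Agent.Perm.TT Cfsg.Agent.Loc.Mss
open Cfsg.Agent.Perm.TwoCount Cfsg.Agent.Perm.RankOne

universe u v

variable {G : Type u} {X : Type v} [Group G] [Finite G] [MulAction G X] [Finite X]
  {N R : X → Subgroup G} {x y : X} {a f : G} {p : ℕ} [Fact p.Prime]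

set_option linter.unusedSectionVars false
set_option linter.unusedVariables false

theorem RF.fix_eq (h : RF R) (hxy : x ≠ y) {U : Set G} (hU : ∀ u ∈ U, u • x = x ∧ u • y = y)
    {c : X} (hc : c ≠ x) : (∀ u ∈ U, u • c = c) ↔ ∃ r ∈ R x ⊓ centralizer U, r • y = c := by
  constructor
  · intro e
    obtain ⟨r, hr, rfl⟩ := h.reg x y c hxy.symm hc
    exact ⟨r, ⟨hr, fun u hu =>
      ((h.fix_iff hxy.symm hr (hU u hu).1 (hU u hu).2).1 (e u hu)).eq.symm⟩, rfl⟩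
  · rintro ⟨r, hr, rfl⟩ u hu
    exact (h.fix_iff hxy.symm hr.1 (hU u hu).1 (hU u hu).2).2 (hr.2 u hu).symm

theorem RF.ncard_fix (h : RF R) (hxy : x ≠ y) {U : Set G} (hU : ∀ u ∈ U, u • x = x ∧ u • y = y) :
    {c : X | ∀ u ∈ U, u • c = c}.ncard = Nat.card ↥(R x ⊓ centralizer U) + 1 := by
  have e : {c : X | ∀ u ∈ U, u • c = c} =
      insert x ((fun r : G => r • y) '' ((R x ⊓ centralizer U : Subgroup G) : Set G)) := by
    ext c
    by_cases hc : c = x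
    · subst hc
      simp only [Set.mem_ofPred_eq, Set.mem_insert_iff, true_or, iff_true]
      exact fun u hu => (hU u hu).1
    · simp only [Set.mem_ofPred_eq, Set.mem_insert_iff, hc, false_or]
      exact h.fix_eq hxy hU hc
  rw [e, Set.ncard_insert_of_notMem, Set.InjOn.ncard_image, ← Nat.card_coe_set_eq]
  · rfl
  · exact fun r hr r' hr' e => h.eq_of_smul hxy.symm hr.1 hr'.1 e
  · rintro ⟨r, hr, e⟩
    exact h.smul_ne hxy.symm hr.1 e

theorem RF.card_cent (h : RF R) (hxy : x ≠ y) {U : Set G} (hU : ∀ u ∈ U, u • x = x ∧ u • y = y) :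
    Nat.card ↥(R y ⊓ centralizer U) = Nat.card ↥(R x ⊓ centralizer U) := by
  have h1 := h.ncard_fix hxy hU
  have h2 := h.ncard_fix hxy.symm (U := U) fun u hu => (hU u hu).symm
  omega

theorem RF.card_eq (h : RF R) (hxy : x ≠ y) : Nat.card X = Nat.card (R x) + 1 := by
  have h1 := h.ncard_fix hxy (U := ∅) (by simp)
  have e : centralizer (∅ : Set G) = ⊤ := eq_top_iff.2 fun g _ u hu => hu.elim
  rw [e, inf_top_eq] at h1
  rw [← h1, ← Set.ncard_univ]
  congr 1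
  ext c
  simp

theorem cent_smul_fix {U : Set G} {g : G} (hg : g ∈ centralizer U) {c : X}
    (hc : c ∈ {c : X | ∀ u ∈ U, u • c = c}) : g • c ∈ {c : X | ∀ u ∈ U, u • c = c} :=
  fun u hu => smul_fix_of_commute (hg u hu).symm (hc u hu)

theorem RF.t2 (h : RF R) (hxy : x ≠ y) {U : Set G} (hU : ∀ u ∈ U, u • x = x ∧ u • y = y)
    (h1 : R x ⊓ centralizer U ≠ ⊥) :
    T2 ((R x ⊓ centralizer U) ⊔ (R y ⊓ centralizer U)) {c : X | ∀ u ∈ U, u • c = c} := by
  have hU' : ∀ u ∈ U, u • y = y ∧ u • x = x := fun u hu => (hU u hu).symm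
  have hle : (R x ⊓ centralizer U) ⊔ (R y ⊓ centralizer U) ≤ centralizer U :=
    sup_le inf_le_right inf_le_right
  refine T2.of_base (a := x) (b := y) (fun g hg c hc => cent_smul_fix (hle hg) hc) ?_
  intro c hc d hd hcd
  have key : ∃ g ∈ (R x ⊓ centralizer U) ⊔ (R y ⊓ centralizer U), g • x = c := by
    by_cases e : c = y
    · obtain ⟨⟨r, hr⟩, r1⟩ := (Subgroup.ne_bot_iff_exists_ne_one).1 h1
      have r1' : r⁻¹ ≠ 1 := fun e => r1 (Subtype.ext (inv_eq_one.1 e))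
      have hz : r⁻¹ • y ≠ y := fun e => r1' (h.sr x _ (inv_mem hr.1) y hxy.symm e)
      obtain ⟨r', hr', e'⟩ := (h.fix_eq hxy.symm hU' hz).1
        (cent_smul_fix (inv_mem hr.2) fun u hu => (hU u hu).2)
      exact ⟨r * r', mul_mem (mem_sup_left hr) (mem_sup_right hr'), by
        rw [mul_smul, e', smul_inv_smul, e]⟩
    · obtain ⟨r, hr, e'⟩ := (h.fix_eq hxy.symm hU' e).1 hc
      exact ⟨r, mem_sup_right hr, e'⟩
  obtain ⟨g, hg, rfl⟩ := key
  obtain ⟨r, hr, e⟩ := (h.fix_eq hxy hU (c := g⁻¹ • d)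
    (fun e => hcd (by rw [← e, smul_inv_smul]))).1 (cent_smul_fix (inv_mem (hle hg)) hd)
  exact ⟨g * r, mul_mem hg (mem_sup_left hr), by rw [mul_smul, h.fam.le x r hr.1], by
    rw [mul_smul, e, smul_inv_smul]⟩

theorem RF.t2' (h : RF R) (hxy : x ≠ y) {U : Set G} (hU : ∀ u ∈ U, u • x = x ∧ u • y = y)
    (h1 : R x ⊓ centralizer U ≠ ⊥) : T2 (centralizer U) {c : X | ∀ u ∈ U, u • c = c} :=
  ⟨fun _ hg _ hc => cent_smul_fix hg hc, fun c hc d hd c' hc' d' hd' e e' => by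
    obtain ⟨g, hg, k⟩ := (h.t2 hxy hU h1).tr c hc d hd c' hc' d' hd' e e'
    exact ⟨g, (sup_le inf_le_right inf_le_right : _ ≤ centralizer U) hg, k⟩⟩

theorem RF.exists_swap (h : RF R) (hxy : x ≠ y) {U : Set G} (hU : ∀ u ∈ U, u • x = x ∧ u • y = y)
    (h1 : R x ⊓ centralizer U ≠ ⊥) :
    ∃ s ∈ (R x ⊓ centralizer U) ⊔ (R y ⊓ centralizer U), s • x = y ∧ s • y = x :=
  (h.t2 hxy hU h1).tr x (fun u hu => (hU u hu).1) y (fun u hu => (hU u hu).2) y
    (fun u hu => (hU u hu).2) x (fun u hu => (hU u hu).1) hxy hxy.symm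

/-- The two-point stabilizer acts faithfully on `R x`. -/
theorem RF.faith (h : RF R) (hxy : x ≠ y) {g : G} (gx : g • x = x) (gy : g • y = y)
    (hc : ∀ r ∈ R x, Commute r g) : g = 1 := by
  refine h.two.faith g fun c => ?_
  by_cases e : c = x
  · rw [e, gx]
  · obtain ⟨r, hr, rfl⟩ := h.reg x y c hxy.symm e
    exact smul_fix_of_commute (hc r hr) gy

omit [Finite G] [Fact p.Prime] in
theorem pw_mod {g : G} (hg : orderOf g = p) (n : ℕ) : g ^ (n % p) = g ^ n :=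
  hg ▸ pow_mod_orderOf g n

omit [Finite G] [Fact p.Prime] in
theorem pw_p {g : G} (hg : orderOf g = p) : g ^ p = 1 := hg ▸ pow_orderOf_eq_one g

omit [Finite G] in
theorem pw_add {g : G} (hg : orderOf g = p) (i j : ZMod p) :
    g ^ (i + j).val = g ^ i.val * g ^ j.val := by
  rw [ZMod.val_add, ← pow_add, pw_mod hg]

omit [Finite G] in
theorem pw_mul {g : G} (hg : orderOf g = p) (i j : ZMod p) :
    g ^ (i * j).val = (g ^ i.val) ^ j.val := by
  rw [ZMod.val_mul, ← pow_mul, pw_mod hg]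

omit [Finite G] in
theorem exists_pw {g k : G} (hg : orderOf g = p) (hk : k ∈ zpowers g) :
    ∃ i : ZMod p, k = g ^ i.val := by
  obtain ⟨n, rfl⟩ := mem_zpowers_iff.1 hk
  refine ⟨(n : ZMod p), ?_⟩
  rw [← zpow_natCast, ZMod.val_intCast, ← hg, zpow_mod_orderOf]

omit [Finite G] in
theorem pw_one (g : G) : g ^ (1 : ZMod p).val = g := by
  rw [ZMod.val_one, pow_one]

omit [Finite G] in
theorem pw_zero (g : G) : g ^ (0 : ZMod p).val = 1 := by
  rw [ZMod.val_zero, pow_zero]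

omit [Finite G] in
theorem pw_eq_one {g : G} (hg : orderOf g = p) {i : ZMod p} : g ^ i.val = 1 ↔ i = 0 := by
  rw [← orderOf_dvd_iff_pow_eq_one, hg, ← ZMod.natCast_eq_zero_iff, ZMod.natCast_zmod_val]

omit [Finite G] in
theorem pw_inv_pw {g : G} (hg : orderOf g = p) {i : ZMod p} (hi : i ≠ 0) :
    (g ^ i.val) ^ (i⁻¹).val = g := by
  rw [← pw_mul hg, mul_inv_cancel₀ hi, pw_one]

omit [Finite G] in
theorem pw_neg {g : G} (hg : orderOf g = p) (i : ZMod p) : g ^ (-i).val = (g ^ i.val)⁻¹ := by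
  rw [eq_inv_iff_mul_eq_one, ← pw_add hg, neg_add_cancel, pw_zero]

omit [Finite G] in
theorem pw_ne_one {g : G} (hg : orderOf g = p) : g ≠ 1 := fun e =>
  (Fact.out : p.Prime).one_lt.ne (by rw [← hg, e, orderOf_one])

omit [Finite G] in
theorem commute_of_pw {g r : G} (hg : orderOf g = p) {i : ZMod p} (hi : i ≠ 0)
    (hc : Commute r (g ^ i.val)) : Commute r g := by
  have := hc.pow_right (i⁻¹).val
  rwa [pw_inv_pw hg hi] at this

omit [Finite G] [Finite X] in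
theorem fix_of_pw {g : G} (hg : orderOf g = p) {i : ZMod p} (hi : i ≠ 0) {c : X}
    (hc : g ^ i.val • c = c) : g • c = c := by
  have : (g ^ i.val) ^ (i⁻¹).val ∈ stabilizer G c := pow_mem (show _ ∈ stabilizer G c from hc) _
  rwa [pw_inv_pw hg hi] at this

theorem SS.inf_eq_one (h : SS R x y a f p) {k : G} (ha : k ∈ zpowers a) (hf : k ∈ zpowers f) :
    k = 1 := by
  obtain ⟨i, rfl⟩ := exists_pw h.of hf
  by_contra e
  have hi : i ≠ 0 := fun e' => e ((pw_eq_one h.of).2 e')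
  have := pow_mem ha (i⁻¹).val
  rw [pw_inv_pw h.of hi] at this
  exact h.nm this

theorem SS.comm (h : SS R x y a f p) : Commute a f := by
  have e := h.inf_eq_one (k := a * f * a⁻¹ * f⁻¹)
    (by simpa [mul_assoc] using
      mul_mem (mem_zpowers a) (inv_mem (h.na f h.fx h.fy)))
    (mul_mem (h.nf a h.ax h.ay) (inv_mem (mem_zpowers f)))
  rw [mul_inv_eq_one, mul_inv_eq_iff_eq_mul] at e
  exact e

theorem SS.exists_H (h : SS R x y a f p) {g : G} (gx : g • x = x) (gy : g • y = y) :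
    ∃ α β : ZMod p, α ≠ 0 ∧ β ≠ 0 ∧ g * a * g⁻¹ = a ^ α.val ∧ g * f * g⁻¹ = f ^ β.val := by
  obtain ⟨α, hα⟩ := exists_pw h.oa (h.na g gx gy)
  obtain ⟨β, hβ⟩ := exists_pw h.of (h.nf g gx gy)
  refine ⟨α, β, fun e => ?_, fun e => ?_, hα, hβ⟩
  · rw [e, pw_zero] at hα
    exact pw_ne_one h.oa (by simpa using hα)
  · rw [e, pw_zero] at hβ
    exact pw_ne_one h.of (by simpa using hβ)

theorem SS.exists_S (h : SS R x y a f p) {s : G} (sx : s • x = y) (sy : s • y = x) :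
    ∃ i j : ZMod p, i ≠ 0 ∧ j ≠ 0 ∧ s * a * s⁻¹ = f ^ i.val ∧ s * f * s⁻¹ = a ^ j.val := by
  obtain ⟨α, hα⟩ := exists_pw h.of (h.sa s sx sy)
  obtain ⟨β, hβ⟩ := exists_pw h.oa (h.sf s sx sy)
  refine ⟨α, β, fun e => ?_, fun e => ?_, hα, hβ⟩
  · rw [e, pw_zero] at hα
    exact pw_ne_one h.oa (by simpa using hα)
  · rw [e, pw_zero] at hβ
    exact pw_ne_one h.of (by simpa using hβ)

theorem SS.fixf (h : SS R x y a f p) (c : X) (hc : f • c = c) : c = x ∨ c = y := by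
  obtain ⟨s, sx, sy⟩ := h.two.two h.ne h.ne.symm
  obtain ⟨i, j, -, hj, -, e⟩ := h.exists_S sx sy
  have h1 : a ^ j.val • s • c = s • c := by rw [← e]; exact conj_smul_iff.2 hc
  rcases h.fixa _ (fix_of_pw h.oa hj h1) with k | k
  · exact Or.inr (smul_left_cancel s (k.trans sy.symm))
  · exact Or.inl (smul_left_cancel s (k.trans sx.symm))

theorem SS.symm (h : SS R x y a f p) : SS R y x a f p :=
  { h.toRF with
    ne := h.ne.symm, odd := h.odd, oa := h.oa, of := h.of, ax := h.ay, ay := h.ax, fx := h.fy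
    fy := h.fx, na := fun g h1 h2 => h.na g h2 h1, nf := fun g h1 h2 => h.nf g h2 h1
    sa := fun g h1 h2 => h.sa g h2 h1, sf := fun g h1 h2 => h.sf g h2 h1, nm := h.nm
    fixa := fun c hc => (h.fixa c hc).symm }

theorem SS.swap (h : SS R x y a f p) : SS R x y f a p :=
  { h.toRF with
    ne := h.ne, odd := h.odd, oa := h.of, of := h.oa, ax := h.fx, ay := h.fy, fx := h.ax
    fy := h.ay, na := h.nf, nf := h.na, sa := h.sf, sf := h.sa
    nm := fun e => pw_ne_one h.oa (h.inf_eq_one (mem_zpowers a) e)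
    fixa := h.fixf }

theorem SS.pw_inj (h : SS R x y a f p) {i j i' j' : ZMod p}
    (e : a ^ i.val * f ^ j.val = a ^ i'.val * f ^ j'.val) : i = i' ∧ j = j' := by
  have e1 : a ^ (-i' + i).val = f ^ (j' + -j).val := by
    rw [pw_add h.oa, pw_add h.of, pw_neg h.oa, pw_neg h.of, inv_mul_eq_iff_eq_mul, ← mul_assoc,
      ← e, mul_inv_cancel_right]
  have e2 := h.inf_eq_one (k := a ^ (-i' + i).val) (pow_mem (mem_zpowers a) _)
    (e1 ▸ pow_mem (mem_zpowers f) _)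
  have e3 := e1.symm.trans e2
  rw [pw_eq_one h.oa] at e2
  rw [pw_eq_one h.of] at e3
  exact ⟨by linear_combination e2, by linear_combination -e3⟩

theorem SS.wl_pw (h : SS R x y a f p) (m i : ZMod p) :
    wl a f m ^ i.val = a ^ i.val * f ^ (m * i).val := by
  rw [wl, (h.comm.pow_right _).mul_pow, pw_mul h.of]

theorem SS.orderOf_wl (h : SS R x y a f p) (m : ZMod p) : orderOf (wl a f m) = p := by
  refine orderOf_eq_prime ?_ fun e => ?_
  · rw [wl, (h.comm.pow_right _).mul_pow, ← pow_mul, mul_comm, pow_mul, pw_p h.oa, pw_p h.of]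
    simp
  · have := h.pw_inj (i := 1) (j := m) (i' := 0) (j' := 0)
      (by rw [pw_one, pw_zero, pw_zero, one_mul]; exact e)
    exact one_ne_zero this.1

theorem SS.wl_fix (h : SS R x y a f p) (m : ZMod p) : wl a f m • x = x ∧ wl a f m • y = y :=
  ⟨mul_mem (show a ∈ stabilizer G x from h.ax) (pow_mem (show f ∈ stabilizer G x from h.fx) _),
    mul_mem (show a ∈ stabilizer G y from h.ay) (pow_mem (show f ∈ stabilizer G y from h.fy) _)⟩

theorem SS.conj_wl_H' (h : SS R x y a f p) {g : G} {α β : ZMod p}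
    (ha : g * a * g⁻¹ = a ^ α.val) (hf : g * f * g⁻¹ = f ^ β.val) (m : ZMod p) :
    g * wl a f m * g⁻¹ = a ^ α.val * f ^ (β * m).val := by
  rw [pw_mul h.of, ← ha, ← hf, conj_pow, wl]
  group

theorem SS.conj_wl_S' (h : SS R x y a f p) {s : G} {i j : ZMod p}
    (ha : s * a * s⁻¹ = f ^ i.val) (hf : s * f * s⁻¹ = a ^ j.val) (t : ZMod p) :
    s * wl a f t * s⁻¹ = a ^ (j * t).val * f ^ i.val := by
  rw [(h.comm.pow_pow _ _).eq, pw_mul h.oa, ← ha, ← hf, conj_pow, wl]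
  group

theorem SS.conj_wl_H (h : SS R x y a f p) {g : G} {α β : ZMod p} (hα : α ≠ 0)
    (ha : g * a * g⁻¹ = a ^ α.val) (hf : g * f * g⁻¹ = f ^ β.val) (m : ZMod p) :
    g * wl a f m * g⁻¹ = wl a f (β * m / α) ^ α.val := by
  rw [h.conj_wl_H' ha hf, h.wl_pw, div_mul_cancel₀ _ hα]

theorem SS.conj_wl_S (h : SS R x y a f p) {s : G} {i j : ZMod p} (hj : j ≠ 0)
    (ha : s * a * s⁻¹ = f ^ i.val) (hf : s * f * s⁻¹ = a ^ j.val) {t : ZMod p} (ht : t ≠ 0) :
    s * wl a f t * s⁻¹ = wl a f (i / (j * t)) ^ (j * t).val := by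
  rw [h.conj_wl_S' ha hf, h.wl_pw, div_mul_cancel₀ _ (mul_ne_zero hj ht)]

/-- A swapping element centralizing `a f ^ m` acts as a reflection. -/
theorem SS.refl (h : SS R x y a f p) {s : G} (sx : s • x = y) (sy : s • y = x) {m : ZMod p}
    (hc : Commute s (wl a f m)) : s * a * s⁻¹ = f ^ m.val ∧ s * f * s⁻¹ = a ^ (m⁻¹).val := by
  obtain ⟨i, j, -, -, ha, hf⟩ := h.exists_S sx sy
  have e := h.conj_wl_S' ha hf m
  rw [hc.eq, mul_inv_cancel_right] at e
  obtain ⟨e1, e2⟩ := h.pw_inj (i := 1) (j := m) (i' := j * m) (j' := i) (by rw [pw_one]; exact e)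
  rw [ha, hf, ← e2, eq_inv_of_mul_eq_one_left e1.symm]
  exact ⟨rfl, rfl⟩

/-- An element of the two-point stabilizer centralizing `a f ^ m`, `m ≠ 0`, lies in `C0`. -/
theorem SS.mem_C0_of (h : SS R x y a f p) {g : G} (gx : g • x = x) (gy : g • y = y) {m : ZMod p}
    (hm : m ≠ 0) (hc : Commute g (wl a f m)) : g ∈ C0 x y a f := by
  obtain ⟨α, β, -, -, ha, hf⟩ := h.exists_H gx gy
  have e := h.conj_wl_H' ha hf m
  rw [hc.eq, mul_inv_cancel_right] at e
  obtain ⟨e1, e2⟩ := h.pw_inj (i := 1) (j := m) (i' := α) (j' := β * m) (by rw [pw_one]; exact e)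
  have e3 : β = 1 := mul_right_cancel₀ hm (by rw [← e2, one_mul])
  rw [← e1, pw_one, mul_inv_eq_iff_eq_mul] at ha
  rw [e3, pw_one, mul_inv_eq_iff_eq_mul] at hf
  exact mem_C0.2 ⟨⟨gx, gy⟩, ha, hf⟩

theorem SS.commute_wl (h : SS R x y a f p) {c : G} (hc : c ∈ C0 x y a f) (m : ZMod p) :
    Commute c (wl a f m) :=
  (mem_C0.1 hc).2.1.mul_right ((mem_C0.1 hc).2.2.pow_right _)

omit [Finite G] in
theorem commute_conj_of {g c k k' : G} (hc : Commute c k') (e : g⁻¹ * k * g⁻¹⁻¹ ∈ zpowers k') :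
    Commute (g * c * g⁻¹) k := by
  obtain ⟨n, hn⟩ := mem_zpowers_iff.1 e
  have := (hc.zpow_right n).conj g
  rwa [hn, show g * (g⁻¹ * k * g⁻¹⁻¹) * g⁻¹ = k by group] at this

theorem SS.conj_C0_H (h : SS R x y a f p) {g c : G} (gx : g • x = x) (gy : g • y = y)
    (hc : c ∈ C0 x y a f) : g * c * g⁻¹ ∈ C0 x y a f := by
  obtain ⟨⟨cx, cy⟩, ca, cf⟩ := mem_C0.1 hc
  have gx' : g⁻¹ • x = x := inv_smul_eq_iff.2 gx.symm
  have gy' : g⁻¹ • y = y := inv_smul_eq_iff.2 gy.symm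
  exact mem_C0.2 ⟨⟨conj_smul_iff'.2 (by rw [gx', cx]), conj_smul_iff'.2 (by rw [gy', cy])⟩,
    commute_conj_of ca (h.na _ gx' gy'), commute_conj_of cf (h.nf _ gx' gy')⟩

theorem SS.conj_C0_S (h : SS R x y a f p) {g c : G} (gx : g • x = y) (gy : g • y = x)
    (hc : c ∈ C0 x y a f) : g * c * g⁻¹ ∈ C0 x y a f := by
  obtain ⟨⟨cx, cy⟩, ca, cf⟩ := mem_C0.1 hc
  have gx' : g⁻¹ • x = y := inv_smul_eq_iff.2 gy.symm
  have gy' : g⁻¹ • y = x := inv_smul_eq_iff.2 gx.symm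
  exact mem_C0.2 ⟨⟨conj_smul_iff'.2 (by rw [gx', cy]), conj_smul_iff'.2 (by rw [gy', cx])⟩,
    commute_conj_of cf (h.sa _ gx' gy'), commute_conj_of ca (h.sf _ gx' gy')⟩

theorem SS.eq_one_of_commute_a (h : SS R x y a f p) {r : G} (hr : r ∈ R x) (hc : Commute r a) :
    r = 1 := by
  rcases h.fixa _ (smul_fix_of_commute hc h.ay) with e | e
  · exact absurd e (h.smul_ne h.ne.symm hr)
  · exact h.sr x r hr y h.ne.symm e

theorem SS.eq_one_of_commute_f (h : SS R x y a f p) {r : G} (hr : r ∈ R x) (hc : Commute r f) :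
    r = 1 := h.swap.eq_one_of_commute_a hr hc

theorem SS.zero_not_mem (h : SS R x y a f p) : (0 : ZMod p) ∉ Tw (R x) a f p := fun e =>
  e (eq_bot_iff.2 fun r hr => h.eq_one_of_commute_a hr.1 (by
    have := (mem_Dm.1 hr).2
    rwa [wl, pw_zero, mul_one] at this))

theorem SS.Dm_inf (h : SS R x y a f p) {m m' : ZMod p} (hm : m ≠ m') :
    Dm (R x) a f m ⊓ Dm (R x) a f m' = ⊥ := by
  refine eq_bot_iff.2 fun r hr => h.eq_one_of_commute_f hr.1.1
    (commute_of_pw h.of (i := -m + m') (fun e => hm (by linear_combination -e)) ?_)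
  have := (mem_Dm.1 hr.1).2.inv_right.mul_right (mem_Dm.1 hr.2).2
  rwa [pw_add h.of, pw_neg h.of, show (f ^ m.val)⁻¹ * f ^ m'.val = (wl a f m)⁻¹ * wl a f m' by
    simp [wl, mul_assoc]]

theorem SS.Dm_ne (h : SS R x y a f p) (m : ZMod p) : Dm (R x) a f m ≠ R x := fun e =>
  pw_ne_one (h.orderOf_wl m) (h.faith h.ne (h.wl_fix m).1 (h.wl_fix m).2 fun _ hr =>
    (mem_Dm.1 (e.symm ▸ hr)).2)

theorem SS.card_Dm (h : SS R x y a f p) (m : ZMod p) :
    Nat.card (Dm (R y) a f m) = Nat.card (Dm (R x) a f m) :=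
  h.card_cent h.ne (U := {wl a f m}) fun _ hu => hu ▸ h.wl_fix m

theorem SS.Tw_eq (h : SS R x y a f p) : Tw (R y) a f p = Tw (R x) a f p := by
  ext m
  simp only [Tw, Set.mem_ofPred_eq, ne_eq, ← card_eq_one, h.card_Dm m]

theorem SS.mem_Tw_of (h : SS R x y a f p) {g : G} {z : X} (gx : g • x = z) {m m' i : ZMod p}
    (hi : i ≠ 0) (e : g * wl a f m * g⁻¹ = wl a f m' ^ i.val) (hm : m ∈ Tw (R x) a f p) :
    m' ∈ Tw (R z) a f p := by
  obtain ⟨⟨r, hr⟩, r1⟩ := (Subgroup.ne_bot_iff_exists_ne_one).1 hm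
  refine (Subgroup.ne_bot_iff_exists_ne_one).2 ⟨⟨g * r * g⁻¹, mem_Dm.2
    ⟨h.fam.conj' gx hr.1, commute_of_pw (h.orderOf_wl m') hi ?_⟩⟩, fun k => r1 ?_⟩
  · rw [← e]
    exact (mem_Dm.1 hr).2.conj g
  · have : g * r * g⁻¹ = 1 := congrArg Subtype.val k
    exact Subtype.ext (by simpa using this)

theorem SS.mem_Tw_H (h : SS R x y a f p) {g : G} (gx : g • x = x) (gy : g • y = y)
    {α β : ZMod p} (hα : α ≠ 0) (ha : g * a * g⁻¹ = a ^ α.val) (hf : g * f * g⁻¹ = f ^ β.val)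
    {m : ZMod p} (hm : m ∈ Tw (R x) a f p) : β * m / α ∈ Tw (R x) a f p :=
  h.mem_Tw_of gx hα (h.conj_wl_H hα ha hf m) hm

theorem SS.mem_Tw_S (h : SS R x y a f p) {s : G} (sx : s • x = y) (sy : s • y = x)
    {i j : ZMod p} (hj : j ≠ 0) (ha : s * a * s⁻¹ = f ^ i.val) (hf : s * f * s⁻¹ = a ^ j.val)
    {t : ZMod p} (ht : t ∈ Tw (R x) a f p) : i / (j * t) ∈ Tw (R x) a f p := by
  have t0 : t ≠ 0 := fun e => h.zero_not_mem (e ▸ ht)
  rw [← h.Tw_eq]
  exact h.mem_Tw_of sx (mul_ne_zero hj t0) (h.conj_wl_S hj ha hf t0) ht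

end Cfsg.Agent.OT
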