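import Mathlib
import Cfsg.Agent.OT.S0A
import Cfsg.Agent.FT.Wielandt
import Cfsg.Agent.GT.FrobeniusBasic

/-!
# The split configuration: the product formula and the induction step
-/

set_option autoImplicit false

namespace Cfsg.Agent.OT

open Subgroup MulAction Cfsg.Agent.TT Cfsg.Agent.Perm Cfsg.Agent.Perm.TT Cfsg.Agent.Loc.Mss
open Cfsg.Agent.Perm.TwoCount Cfsg.Agent.Perm.RankOne

universe u v

variable {G : Type u} {X : Type v} [Group G] [Finite G] [MulAction G X] [Finite X]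
  {N R : X → Subgroup G} {x y : X} {a f : G} {p : ℕ} [Fact p.Prime]

set_option linter.unusedSectionVars false

theorem SS.nil (h : SS R x y a f p) : Group.IsNilpotent (R x) :=
  isNilpotent_of_fixedPointFree (h.fam.mem_norm h.ax) (h.oa ▸ Fact.out)
    fun _ hr c => h.eq_one_of_commute_a hr c.symm

theorem SS.dvd_sub_one_of (h : SS R x y a f p) {D : Subgroup G} (hD : D ≤ R x) (hn : a ∈ 𝐍[D]) :
    p ∣ Nat.card D - 1 := by
  have := GT.Frob.card_dvd_card_sub_one_of_fpf (A := zpowers a) (K := D) (zpowers_le.2 hn)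
    fun k hk k1 => eq_bot_iff.2 fun r hr => by
      obtain ⟨i, rfl⟩ := exists_pw h.oa hk
      exact h.eq_one_of_commute_a (hD hr.1) (commute_of_pw h.oa
        (fun e => k1 ((pw_eq_one h.oa).2 e)) (mem_centralizer_singleton_iff.1 hr.2))
  rwa [Nat.card_zpowers, h.oa] at this

theorem SS.cop (h : SS R x y a f p) : ¬ p ∣ Nat.card (R x) := fun e => by
  have h1 := h.dvd_sub_one_of le_rfl (h.fam.mem_norm h.ax)
  have h2 : 1 ≤ Nat.card (R x) := Nat.card_pos
  have := (Nat.dvd_sub e h1)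
  rw [Nat.sub_sub_self h2] at this
  exact (Fact.out : p.Prime).one_lt.ne' (Nat.dvd_one.1 this)

theorem mem_norm_cent_of {g w : G} (hg : g * w * g⁻¹ ∈ zpowers w) (hg' : g⁻¹ * w * g⁻¹⁻¹ ∈ zpowers w) :
    g ∈ 𝐍[centralizer {w}] := by
  rw [mem_normalizer_iff]
  refine fun c => ⟨fun hc => mem_centralizer_singleton_iff.2
    (commute_conj_of (mem_centralizer_singleton_iff.1 hc) hg'), fun hc => ?_⟩
  have := commute_conj_of (g := g⁻¹) (k := w) (mem_centralizer_singleton_iff.1 hc)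
    (by simpa using hg)
  exact mem_centralizer_singleton_iff.2 (by simpa [mul_assoc] using this.eq)

theorem mem_norm_inf {g : G} {A B : Subgroup G} (hA : g ∈ 𝐍[A]) (hB : g ∈ 𝐍[B]) : g ∈ 𝐍[A ⊓ B] :=
  norm_inf (zpowers_le.2 hA) (zpowers_le.2 hB) (mem_zpowers g)

theorem mem_norm_cent_of_commute {g w : G} (hg : Commute g w) : g ∈ 𝐍[centralizer {w}] :=
  le_normalizer (mem_centralizer_singleton_iff.2 hg)

theorem SS.a_comm_wl (h : SS R x y a f p) (m : ZMod p) : Commute a (wl a f m) :=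
  (Commute.refl a).mul_right (h.comm.pow_right _)

theorem SS.dvd_sub_one (h : SS R x y a f p) (m : ZMod p) :
    p ∣ Nat.card (Dm (R x) a f m) - 1 :=
  h.dvd_sub_one_of inf_le_left
    (mem_norm_inf (h.fam.mem_norm h.ax) (mem_norm_cent_of_commute (h.a_comm_wl m)))

theorem SS.not_hasReg (h : SS R x y a f p) : ¬ HasReg G X := by
  rintro ⟨V, hV, h1, h2⟩
  obtain ⟨e, he, ex⟩ := h1 x y
  have e1 : e⁻¹ * (a * e * a⁻¹) = 1 := h2 x _ (mul_mem (inv_mem he) (hV.conj_mem e he a)) (by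
    rw [mul_smul, mul_smul, mul_smul, inv_smul_eq_iff.2 h.ax.symm, ex, h.ay, ← ex,
      inv_smul_smul])
  rw [inv_mul_eq_one, eq_mul_inv_iff_mul_eq] at e1
  rcases h.fixa _ (smul_fix_of_commute e1 h.ay) with k | k
  · have := h.sa e ex k
    rw [e1, mul_inv_cancel_right] at this
    exact h.swap.nm this
  · rw [h2 y e he k, one_smul] at ex
    exact h.ne ex

theorem SS.mem_line (h : SS R x y a f p) {i j m : ZMod p} :
    a ^ i.val * f ^ j.val ∈ zpowers (wl a f m) ↔ m * i = j := by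
  constructor
  · intro k
    obtain ⟨t, ht⟩ := exists_pw (h.orderOf_wl m) k
    rw [h.wl_pw] at ht
    obtain ⟨rfl, rfl⟩ := h.pw_inj ht
    rfl
  · rintro rfl
    rw [← h.wl_pw]
    exact pow_mem (mem_zpowers _) _

theorem SS.mem_line_f (h : SS R x y a f p) {i j : ZMod p} :
    a ^ i.val * f ^ j.val ∈ zpowers f ↔ i = 0 := by
  constructor
  · intro k
    obtain ⟨t, ht⟩ := exists_pw h.of k
    exact (h.pw_inj (i' := 0) (j' := t) (by rw [ht, pw_zero, one_mul])).1
  · rintro rfl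
    rw [pw_zero, one_mul]
    exact pow_mem (mem_zpowers _) _

theorem SS.eq_one_iff (h : SS R x y a f p) {i j : ZMod p} :
    a ^ i.val * f ^ j.val = 1 ↔ i = 0 ∧ j = 0 :=
  ⟨fun e => h.pw_inj (by rw [e, pw_zero, pw_zero, one_mul]), by
    rintro ⟨rfl, rfl⟩; rw [pw_zero, pw_zero, one_mul]⟩

theorem pg_zpowers {g : G} (hg : orderOf g = p) : IsPGroup p (zpowers g) :=
  IsPGroup.of_card (n := 1) (by rw [Nat.card_zpowers, hg, pow_one])

theorem cent_zpowers (g : G) : centralizer (zpowers g : Set G) = centralizer {g} := by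
  rw [zpowers_eq_closure, centralizer_closure]

theorem SS.prod (h : SS R x y a f p) :
    ∏ m : ZMod p, Nat.card (Dm (R x) a f m) = Nat.card (R x) := by
  classical
  have hp : p.Prime := Fact.out
  have hfa : zpowers f ≤ 𝐍[zpowers a] := norm_of_cent (zpowers_le.2 (by
    rw [cent_zpowers]; exact mem_centralizer_singleton_iff.2 h.comm.symm))
  set F := zpowers a ⊔ zpowers f with hF
  have haF : a ∈ F := mem_sup_left (mem_zpowers a)
  have hfF : f ∈ F := mem_sup_right (mem_zpowers f)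
  have hpF : IsPGroup p F := pg_sup' (pg_zpowers h.oa) (pg_zpowers h.of) hfa
  have hn : F ≤ 𝐍[R x] :=
    sup_le (zpowers_le.2 (h.fam.mem_norm h.ax)) (zpowers_le.2 (h.fam.mem_norm h.fx))
  have hc : (Nat.card (R x)).Coprime (Nat.card F) := by
    obtain ⟨k, hk⟩ := hpF.exists_card_eq
    rw [hk]
    exact ((hp.coprime_iff_not_dvd.2 h.cop).symm).pow_right _
  have := h.nil
  let A : ZMod p ⊕ Fin 3 → Subgroup G :=
    Sum.elim (fun m => zpowers (wl a f m)) ![zpowers f, ⊥, F]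
  let m : ZMod p ⊕ Fin 3 → ℕ := Sum.elim (fun _ => 1) ![1, 0, 0]
  let n : ZMod p ⊕ Fin 3 → ℕ := Sum.elim (fun _ => 0) ![0, p, 1]
  have key := FT.solvable_Wielandt_fixpoint (M := R x) (F := F) A m n (by
      rintro (i | i)
      · exact zpowers_le.2 (mul_mem haF (pow_mem hfF _))
      · fin_cases i
        · exact le_sup_right
        · exact bot_le
        · exact le_rfl) hn hc inferInstance (by
      intro v hv
      have hv' := hv
      obtain ⟨k, hk, l, hl, rfl⟩ := (mem_sup_norm hfa).1 hv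
      obtain ⟨i, rfl⟩ := exists_pw h.oa hk
      obtain ⟨j, rfl⟩ := exists_pw h.of hl
      simp only [Fintype.sum_sum_type, Fin.sum_univ_three, Set.indicator_apply, Set.mem_ofPred_eq,
        A, m, n, Sum.elim_inl, Sum.elim_inr, Matrix.cons_val_zero, Matrix.cons_val_one,
        Matrix.cons_val, h.mem_line, h.mem_line_f, mem_bot, h.eq_one_iff, hv', if_true, ite_self,
        Finset.sum_const_zero]
      by_cases hi : i = 0
      · subst hi
        by_cases hj : j = 0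
        · subst hj
          simp [ZMod.card]
        · simp [hj, Ne.symm hj]
      · simp only [hi, ← eq_div_iff hi, false_and, if_false]
        simp)
  have c1 : R x ⊓ centralizer ({f} : Set G) = ⊥ := eq_bot_iff.2 fun r hr =>
    h.eq_one_of_commute_f hr.1 (hr.2 f rfl).symm
  have c2 : R x ⊓ centralizer (F : Set G) = ⊥ := eq_bot_iff.2 fun r hr =>
    h.eq_one_of_commute_f hr.1 (hr.2 f hfF).symm
  have c3 : R x ⊓ centralizer ((⊥ : Subgroup G) : Set G) = R x := by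
    rw [show centralizer ((⊥ : Subgroup G) : Set G) = ⊤ from cent_bot, inf_top_eq]
  simp only [Fintype.prod_sum_type, Fin.prod_univ_three, A, m, n, Sum.elim_inl, Sum.elim_inr,
    Matrix.cons_val_zero, Matrix.cons_val_one, Matrix.cons_val, c1, c2, c3, card_bot, one_pow,
    zero_mul, pow_zero, mul_one, one_mul, Nat.card_zpowers, h.orderOf_wl, cent_zpowers,
    Finset.prod_const_one, Finset.prod_pow] at key
  exact Nat.pow_left_injective hp.ne_zero key

theorem SS.two_le (h : SS R x y a f p) : 2 ≤ (Tw (R x) a f p).ncard := by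
  by_contra hlt
  have hs : (Tw (R x) a f p).Subsingleton :=
    Set.ncard_le_one_iff_subsingleton.1 (by omega)
  obtain ⟨m0, hm0⟩ : ∃ m0, ∀ m ∈ Tw (R x) a f p, m = m0 := by
    rcases hs.eq_empty_or_singleton with e | ⟨m0, e⟩
    · exact ⟨0, by simp [e]⟩
    · exact ⟨m0, by simp [e]⟩
  have e := h.prod
  rw [Finset.prod_eq_single m0 (fun m _ hm => by
    have : Dm (R x) a f m = ⊥ := by_contra fun k => hm (hm0 m k)
    rw [this, card_bot]) (by simp)] at e
  exact h.Dm_ne m0 (eq_of_le_of_card_ge inf_le_left e.ge)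

theorem map_conj_mem_zpowers {C : Subgroup G} {B : Type*} [Group B] (π : C →* B) {g k l : C}
    (e : (g : G) * k * (g : G)⁻¹ ∈ zpowers (l : G)) : π g * π k * (π g)⁻¹ ∈ zpowers (π l) := by
  obtain ⟨n, hn⟩ := mem_zpowers_iff.1 e
  refine mem_zpowers_iff.2 ⟨n, ?_⟩
  rw [← map_zpow, ← map_inv, ← map_mul, ← map_mul]
  congr 1
  exact Subtype.ext hn

theorem SS.si (h : SS R x y a f p) (ih : IHS.{v} p (Nat.card G)) : SI R x y a f p := by
  refine { h with ih := fun s hs s1 => ?_ }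
  obtain ⟨⟨sx, sy⟩, sa, sf⟩ := mem_C0.1 hs
  have hU : ∀ u ∈ ({s} : Set G), u • x = x ∧ u • y = y := fun u hu => hu ▸ ⟨sx, sy⟩
  have hS : ∀ {c : X}, c ∈ {c : X | ∀ u ∈ ({s} : Set G), u • c = c} ↔ s • c = c := by simp
  by_cases h1 : R x ⊓ centralizer {s} = ⊥
  · refine ⟨0, fun c hc => ?_⟩
    by_cases e : c = x
    · rw [e, (h.wl_fix 0).1]
    · obtain ⟨r, hr, rfl⟩ := (h.fix_eq h.ne hU e).1 (hS.2 hc)
      rw [h1, mem_bot] at hr
      rw [hr, one_smul, (h.wl_fix 0).2]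
  have t2 := h.t2' h.ne hU h1
  obtain ⟨B, Δ, _, _, π, ι, k⟩ := exists_con _ _ t2.inv
  have := k.finite
  have := k.finite_pts
  obtain ⟨x', rfl⟩ := k.exists_eq (hS.2 sx)
  obtain ⟨y', rfl⟩ := k.exists_eq (hS.2 sy)
  have ha : a ∈ centralizer ({s} : Set G) := mem_centralizer_singleton_iff.2 sa.symm
  have hf : f ∈ centralizer ({s} : Set G) := mem_centralizer_singleton_iff.2 sf.symm
  obtain ⟨⟨r0, hr0⟩, r01⟩ := (Subgroup.ne_bot_iff_exists_ne_one).1 h1
  have third : ∀ {g : G} (hg : g ∈ centralizer ({s} : Set G)), orderOf g = p →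
      (∀ c : X, g • c = c → c = ι x' ∨ c = ι y') → orderOf (π ⟨g, hg⟩) = p := fun hg og fg => by
    refine orderOf_eq_prime ?_ fun e => ?_
    · rw [← map_pow, show (⟨_, hg⟩ : centralizer ({s} : Set G)) ^ p = 1 from
        Subtype.ext (pw_p og), map_one]
    · rcases fg _ (k.eq_one_iff.1 e (r0 • ι y') (t2.inv _ hr0.2 _ (hS.2 sy))) with e | e
      · exact h.smul_ne h.ne.symm hr0.1 e
      · exact r01 (Subtype.ext (h.sr _ _ hr0.1 _ h.ne.symm e))
  have oa := third ha h.oa h.fixa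
  have of := third hf h.of h.fixf
  have hm : π ⟨f, hf⟩ ∈ zpowers (π ⟨a, ha⟩) := by
    by_contra hm
    refine ih B Δ (k.card_lt (mem_centralizer_singleton_iff.2 rfl) s1 fun c hc => hS.1 hc)
      (fun z => ((R (ι z)).subgroupOf _).map π) x' y' (π ⟨a, ha⟩) (π ⟨f, hf⟩)
      { two := k.two t2, fam := ⟨?_, ?_⟩, sr := ?_, reg := ?_, ne := fun e => h.ne (congrArg ι e)
        odd := h.odd, oa := oa, of := of, ax := k.smul_iff.2 h.ax, ay := k.smul_iff.2 h.ay
        fx := k.smul_iff.2 h.fx, fy := k.smul_iff.2 h.fy, na := ?_, nf := ?_, sa := ?_, sf := ?_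
        nm := hm, fixa := fun c hc =>
          (h.fixa _ (k.smul_iff.1 hc)).imp (fun e => k.inj e) fun e => k.inj e }
    · rintro z _ ⟨r, hr, rfl⟩
      exact k.smul_iff.2 (h.fam.le _ _ hr)
    · rintro β z _ ⟨r, hr, rfl⟩
      obtain ⟨g, rfl⟩ := k.surj β
      refine ⟨g * r * g⁻¹, ?_, by simp⟩
      show (g : G) * r * (g : G)⁻¹ ∈ R _
      rw [k.smul]
      exact h.fam.conj _ _ _ hr
    · rintro z _ ⟨r, hr, rfl⟩ c hc e
      rw [show r = 1 from Subtype.ext (h.sr _ _ hr _ (k.inj.ne hc) (k.smul_iff.1 e)), map_one]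
    · intro z c d hc hd
      obtain ⟨r, hr, e⟩ := h.reg (ι z) (ι c) (ι d) (k.inj.ne hc) (k.inj.ne hd)
      have hrs : Commute r s := (h.fix_iff (k.inj.ne hc) hr (hS.1 (k.mem z)) (hS.1 (k.mem c))).1
        (by rw [e]; exact hS.1 (k.mem d))
      exact ⟨π ⟨r, mem_centralizer_singleton_iff.2 hrs⟩, ⟨_, hr, rfl⟩, k.smul_iff.2 e⟩
    all_goals
      intro β b1 b2
      obtain ⟨g, rfl⟩ := k.surj β
      refine map_conj_mem_zpowers π ?_
    · exact h.na _ (k.smul_iff.1 b1) (k.smul_iff.1 b2)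
    · exact h.nf _ (k.smul_iff.1 b1) (k.smul_iff.1 b2)
    · exact h.sa _ (k.smul_iff.1 b1) (k.smul_iff.1 b2)
    · exact h.sf _ (k.smul_iff.1 b1) (k.smul_iff.1 b2)
  obtain ⟨i, hi⟩ := exists_pw oa hm
  have i0 : i ≠ 0 := fun e => pw_ne_one of (by rw [hi, e, pw_zero])
  have e : π (⟨a, ha⟩ * ⟨f, hf⟩ ^ (-i⁻¹).val) = 1 := by
    rw [map_mul, map_pow, hi, ← pw_mul oa, mul_neg, mul_inv_cancel₀ i0, pw_neg oa, pw_one,
      mul_inv_cancel]
  exact ⟨-i⁻¹, fun c hc => k.eq_one_iff.1 e c (hS.2 hc)⟩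

theorem SI.le_Dm (h : SI R x y a f p) {s : G} (hs : s ∈ C0 x y a f) (h1 : s ≠ 1) :
    ∃ m : ZMod p, R x ⊓ centralizer {s} ≤ Dm (R x) a f m ∧
      R y ⊓ centralizer {s} ≤ Dm (R y) a f m := by
  obtain ⟨m, hm⟩ := h.ih s hs h1
  obtain ⟨⟨sx, sy⟩, -, -⟩ := mem_C0.1 hs
  obtain ⟨wx, wy⟩ := h.toSS.wl_fix m
  refine ⟨m, fun r hr => mem_Dm.2 ⟨hr.1, ?_⟩, fun r hr => mem_Dm.2 ⟨hr.1, ?_⟩⟩
  · exact (h.fix_iff h.ne.symm hr.1 wx wy).1
      (hm _ (smul_fix_of_commute (mem_centralizer_singleton_iff.1 hr.2) sy))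
  · exact (h.fix_iff h.ne hr.1 wy wx).1
      (hm _ (smul_fix_of_commute (mem_centralizer_singleton_iff.1 hr.2) sx))

theorem SI.tw (h : SI R x y a f p) {s : G} (hs : s ∈ C0 x y a f) {m m' : ZMod p} (hm : m ≠ m')
    {r r' : G} (hr : r ∈ Dm (R x) a f m) (hr' : r' ∈ Dm (R x) a f m') (r1 : r ≠ 1) (r1' : r' ≠ 1)
    (c : Commute r s) (c' : Commute r' s) : s = 1 := by
  by_contra s1
  obtain ⟨m0, k, -⟩ := h.le_Dm hs s1
  have key : ∀ {t : ZMod p} {b : G}, b ∈ Dm (R x) a f t → b ≠ 1 → Commute b s → t = m0 :=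
    fun hb b1 cb => by_contra fun e => b1 (mem_bot.1 (h.toSS.Dm_inf e ▸
      ⟨hb, k ⟨hb.1, mem_centralizer_singleton_iff.2 cb⟩⟩))
  exact hm ((key hr r1 c).trans (key hr' r1' c').symm)

end Cfsg.Agent.OT
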