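import Mathlib
import Cfsg.Agent.OT.Basic
import Cfsg.Agent.OT.EB
import Cfsg.Agent.GT.FrobeniusFpf
import Cfsg.Agent.GT.CoprimeFixed
import Cfsg.Agent.FT.Quot

/-!
# The non-solvable configuration
-/

set_option autoImplicit false

namespace Cfsg.Agent.OT

open Subgroup MulAction Cfsg.Agent.TT Cfsg.Agent.Perm Cfsg.Agent.Perm.TT Cfsg.Agent.Loc.Mss
open Cfsg.Agent.Perm.TwoCount Cfsg.Agent.Perm.RankOne Cfsg.Agent.GT
open scoped commutatorElement

universe u v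

variable {G : Type u} {X : Type v} [Group G] [Finite G] [MulAction G X] [Finite X]
  {N R : X → Subgroup G} {x y : X}

namespace E0

theorem odd (h : Cfg N R) (hxy : x ≠ y) (he : Even (Nat.card (Kp N x y))) :
    Odd (Nat.card (R x)) :=
  Nat.not_even_iff_odd.1 fun e =>
    h.not_dvd hxy Nat.prime_two (even_iff_two_dvd.1 he) (even_iff_two_dvd.1 e)

omit [Finite X] in
theorem inv (h : Cfg N R) (hxy : x ≠ y) {f r : G} (hf : f ∈ Kp N y x) (h2 : orderOf f = 2)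
    (hr : r ∈ R x) : f * r * f⁻¹ = r⁻¹ :=
  (Frob.conj_eq_inv_of_fpf (K := R x) (h.famR.mem_norm hf.2) (sq_of_two h2)
    (eq_bot_iff.2 fun _ hr => h.fpf hxy hf (ne_one_of_two h2) hr.1
      (mem_centralizer_singleton_iff.1 hr.2))).1 r hr

omit [Finite G] [Finite X] in
theorem N_norm (h : Cfg N R) (x : X) : N x ≤ 𝐍[R x] := fun n hn =>
  h.famR.mem_norm (h.fam.le x n hn)

omit [Finite G] [Finite X] in
theorem comm_of_inv {a b r : G} (h1 : a * r⁻¹ * a⁻¹ = r⁻¹⁻¹) (h2 : b * r * b⁻¹ = r⁻¹) :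
    Commute r (a * b) := by
  have : a * b * r * (a * b)⁻¹ = r := by
    calc a * b * r * (a * b)⁻¹ = a * (b * r * b⁻¹) * a⁻¹ := by group
      _ = r := by rw [h2, h1, inv_inv]
  rw [mul_inv_eq_iff_eq_mul] at this
  exact this.symm

theorem nonis (h : Cfg N R) (hxy : x ≠ y) (hs : ¬ Group.IsSolvable (N x)) {f : G}
    (hf : f ∈ Kp N y x) (h2 : orderOf f = 2) :
    ∃ n ∈ N x, n ∉ Kp N x y ∧ Commute f (n * f * n⁻¹) := by
  by_contra! hcon
  have f1 := ne_one_of_two h2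
  have fN : f ∈ 𝐍[N x] := h.fam.mem_norm hf.2
  obtain ⟨s, sx, sy⟩ := h.two.two hxy hxy.symm
  have hiso : cj(s, Kp N x y) = Kp N y x := by rw [h.fam.cj_Kp, sx, sy]
  have he : Even (Nat.card (Kp N x y)) := by
    rw [← card_cj _ s, hiso, even_iff_two_dvd, ← h2]
    exact Subgroup.orderOf_dvd_natCard _ hf
  have k1 : ∀ g ∈ N x ⊔ zpowers f, Commute f (g * f * g⁻¹) → g * f * g⁻¹ = f := fun g hg hc => by
    obtain ⟨n, hn, i, rfl⟩ := (PG.mem_sup_zpowers_of_mem_normalizer fN).1 hg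
    have e : n * f ^ i * f * (n * f ^ i)⁻¹ = n * f * n⁻¹ := by group
    rw [e] at hc ⊢
    rw [((h.cen hxy hf f1 hn).2 (by_contra fun e => hcon n hn e hc)).eq, mul_inv_cancel_right]
  obtain ⟨S, hS1, hS⟩ := Syl.exists_ge (p := 2) (P := zpowers f) (L := N x ⊔ zpowers f)
    (IsPGroup.of_card (n := 1) (by rw [Nat.card_zpowers, h2, pow_one])) le_sup_right
  have fS := hS1 (mem_zpowers f)
  have k2 : S ≤ S ⊓ centralizer {f} := by
    by_contra hne
    obtain ⟨b, hb, b1, b2⟩ := exists_norm_not_mem hS.pg inf_le_left hne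
    have := k1 b (hS.le hb) (mem_centralizer_singleton_iff.1 (conj_mem_of_norm b2
      (show f ∈ S ⊓ centralizer {f} from ⟨fS, mem_centralizer_singleton_iff.2 rfl⟩)).2).symm
    exact b1 ⟨hb, mem_centralizer_singleton_iff.2 (mul_inv_eq_iff_eq_mul.1 this)⟩
  obtain ⟨O, -, hn, ho, h3⟩ := zstar_in hS h2 fS fun g hg hm =>
    k1 g hg (mem_centralizer_singleton_iff.1 (k2 hm).2).symm
  have hO : O ⊓ N x ≤ R x := h.rad hs inf_le_right (norm_inf (le_sup_left.trans hn) le_normalizer)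
    (S0205.result (ho.of_dvd_nat (card_dvd_of_le inf_le_left)))
  have k3 : ∀ n ∈ N x, ∃ r ∈ R x, ∃ k ∈ Kp N x y, r * k = n := fun n hn => by
    have m : f * n * f⁻¹ * n⁻¹ ∈ R x :=
      hO ⟨h3 n (mem_sup_left hn), (N x).mul_mem (conj_mem_of_norm fN hn) ((N x).inv_mem hn)⟩
    obtain ⟨r, hr, c, hc, e⟩ := CopAct.exists_eq_mul_centralizer (A := zpowers f) (N := R x)
      (zpowers_le.2 (h.famR.mem_norm hf.2))
      (by rw [Nat.card_zpowers, h2]; exact Nat.coprime_two_left.2 (odd h hxy he))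
      (Or.inr (S0205.result (odd h hxy he))) (k := n) fun a ha => by
        rw [← mem_powers_iff_mem_zpowers] at ha
        obtain ⟨i, rfl⟩ := ha
        show ⁅n, f ^ i⁆ ∈ R x
        rw [← pow_mod_orderOf, h2]
        rcases Nat.mod_two_eq_zero_or_one i with e | e <;> rw [e]
        · rw [pow_zero, commutatorElement_one_right]
          exact one_mem _
        · simpa [commutatorElement_def, mul_assoc] using inv_mem m
    refine ⟨r, hr, c, (h.cen hxy hf f1 ?_).1 (hc f (mem_zpowers f)).symm, e⟩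
    rw [← e] at hn
    exact ((N x).mul_mem_cancel_left (h.le x hr)).1 hn
  have R1 : R x ≠ ⊥ := fun e => hxy (h.fam.eq_of_fix h.two (h.ne_bot hxy) fun n hn => by
    obtain ⟨r, hr, k, hk, rfl⟩ := k3 n hn
    rw [e, mem_bot] at hr
    rw [hr, one_mul]
    exact hk.2).symm
  obtain ⟨⟨r, hr⟩, r1⟩ := (Subgroup.ne_bot_iff_exists_ne_one).1 R1
  have k4 : ∀ g ∈ Kp N y x, orderOf g = 2 → g = f := fun g hg g2 => by
    by_contra hne
    refine r1 (Subtype.ext (h.fpf hxy (mul_mem hg hf) (fun e => hne ?_) hr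
      (comm_of_inv (inv h hxy hg g2 (inv_mem hr)) (inv h hxy hf h2 hr))))
    rw [eq_inv_of_mul_eq_one_left e, inv_two h2]
  have ha : s⁻¹ * f * s ∈ Kp N x y := mem_cj.1 (hiso ▸ hf)
  have a2 : orderOf (s⁻¹ * f * s) = 2 := by simpa using two_conj h2 s⁻¹
  have k5 : ∀ k ∈ Kp N x y, Commute (s⁻¹ * f * s) k := fun k hk => by
    have := k4 _ (hiso ▸ conj_mem_cj (mul_mem (mul_mem hk ha) (inv_mem hk)))
      (two_conj (two_conj a2 k) s)
    have e : k * (s⁻¹ * f * s) * k⁻¹ = s⁻¹ * f * s := by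
      conv_rhs => rw [← this]
      group
    exact (mul_inv_eq_iff_eq_mul.1 e).symm
  generalize s⁻¹ * f * s = a at ha a2 k5
  have aR : a ∈ 𝐍[R x] := N_norm h x ha.1
  refine ne_one_of_two a2 (h.eq_one hxy (h.rad hs (S := R x ⊔ zpowers a)
    (sup_le (h.le x) (zpowers_le.2 ha.1))
    (PG.le_normalizer_sup_zpowers (N_norm h x) aR fun n hn => ?_)
    (FT.isSolvable_sup (zpowers_le.2 aR) (S0205.result (odd h hxy he)) inferInstance)
    (mem_sup_right (mem_zpowers a))) ha.2)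
  obtain ⟨r, hr, k, hk, rfl⟩ := k3 n hn
  have e : ⁅a, r * k⁆ = a * r * a⁻¹ * r⁻¹ := by
    rw [commutatorElement_def, mul_assoc a, mul_assoc r, ← (k5 k hk).inv_left.eq]
    group
  rw [e]
  exact mul_mem (conj_mem_of_norm aR hr) (inv_mem hr)

omit [Finite X] in
theorem ss (h : Cfg N R) (hxy : x ≠ y) (hR : R x = ⊥) (M : Subgroup G) (hM : M ≤ N x)
    (hn : N x ≤ 𝐍[M]) (hc : N x ⊓ 𝐂[M] = ⊥) : N x ≤ M := by
  obtain ⟨M0, ⟨h1, h2, h3⟩, hmin⟩ := exists_minimal_of_wellFoundedLT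
    (fun A : Subgroup G => A ≤ N x ∧ N x ≤ 𝐍[A] ∧ A ≠ ⊥) ⟨N x, le_rfl, le_normalizer, h.ne_bot hxy⟩
  rcases h.max x (ncl (stabilizer G x) M0) (ncl_le h1 (h.fam.stab_le_norm x))
    (ni_of_norm (le_norm_ncl _ _)) with e | e
  swap
  · exact absurd (le_bot_iff.1 (hR ▸ (le_ncl _ _).trans e)) h3
  rw [← e, ncl_le_iff]
  intro g hg
  have gN : cj(g⁻¹, N x) = N x := cj_of_norm (inv_mem (h.fam.stab_le_norm x hg))
  have n1 : N x ≤ 𝐍[cj(g⁻¹, M)] := by
    rw [← cj_norm, ← gN]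
    exact cj_mono _ hn
  have l1 : cj(g⁻¹, M) ≤ N x := gN ▸ cj_mono _ hM
  rw [cj_le_iff_le_inv]
  by_cases e1 : M0 ⊓ cj(g⁻¹, M) = ⊥
  · refine absurd (le_bot_iff.1 ?_) h3
    rw [← cj_bot g⁻¹, ← hc, cj_inf, cj_cent, gN]
    refine le_inf h1 (comm_eq_bot_iff.1 (le_bot_iff.1 ?_))
    rw [← e1]
    exact le_inf (comm_le_left (l1.trans h2)) (comm_le_right (h1.trans n1))
  · exact (hmin ⟨inf_le_left.trans h1, norm_inf h2 n1, e1⟩ inf_le_left).trans inf_le_right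

end E0

theorem Cfg.ev (h : Cfg N R) (hxy : x ≠ y) (hs : ¬ Group.IsSolvable (N x))
    (he : Even (Nat.card (Kp N x y))) {P Q : Subgroup G} (hP : Syl 2 P (Kp N x y))
    (hQ : Syl 2 Q (Kp N y x)) : EV (N x) (Kp N x y) (Kp N y x) (R x) P Q := by
  obtain ⟨s, sx, sy⟩ := h.two.two hxy hxy.symm
  have hiso : cj(s, Kp N x y) = Kp N y x := by rw [h.fam.cj_Kp, sx, sy]
  have Q1 : Q ≠ ⊥ := fun e => by
    have := hQ.eq_bot_iff.1 e
    rw [← hiso, card_cj, Nat.coprime_two_right] at this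
    exact Nat.not_even_iff_odd.2 this he
  obtain ⟨f, hfQ, h2, -⟩ := Inv.exists_central_of_isPGroup hQ.pg Q1
  have hf := hQ.le hfQ
  refine ⟨fun l hl => h.fam.mem_norm hl.2, fun g hg hn => h.ti hxy g hn hg.1, inf_le_left,
    fun g hg h1 n hn => h.cen hxy hg h1 hn, ⟨s, hiso⟩,
    fun f hf h1 n hn hK hc g hg g' hg' c1 c2 => h.theta hxy hf h1 hn hK hc hg hg' c1 c2,
    fun f hf h2 g hg g' hg' c1 c2 => ?_, hP, hQ, Q1, h.le x, fun l hl => h.famR.mem_norm hl.2,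
    E0.odd h hxy he, ?_, fun r hr hk => h.eq_one hxy hr hk.2, fun S h1 h2 h3 => h.rad hs h1 h2 h3,
    fun M hM => ?_, E0.ss h hxy⟩
  · obtain ⟨n, hn, hK, hc⟩ := E0.nonis h hxy hs hf h2
    have f1 := ne_one_of_two h2
    have t1 := h.theta hxy hf f1 hn hK hc hf hg' (Commute.refl f) c2
    have t2 := h.theta hxy hf f1 hn hK hc hg hg' c1 c2
    have t3 : n * g' * n⁻¹ * g'⁻¹ ∈ Kp N x y := (h.cen hxy hf f1
      (by simpa [mul_assoc] using mul_mem hn (h.fam.conj' hg'.2 (inv_mem hn)))).1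
      (t1.symm.mul_left c2.inv_left)
    simpa [mul_assoc] using (h.comm hxy t3 hg).symm.inv_right.mul_right t2
  · obtain ⟨n, hn, hK, hc⟩ := E0.nonis h hxy hs hf h2
    have f1 := ne_one_of_two h2
    have a1 : n * f * n⁻¹ * f ∈ N x := by
      have := mul_mem hn (h.fam.conj' hf.2 (inv_mem hn))
      rw [inv_two h2] at this
      simpa [mul_assoc] using this
    have a2 := (h.cen hxy hf f1 a1).1 (hc.symm.mul_left (Commute.refl f))
    have a3 : n * f * n⁻¹ * f ∈ 𝐂[R x] := fun r hr => by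
      refine (E0.comm_of_inv ?_ (E0.inv h hxy hf h2 hr)).eq
      have := E0.inv h hxy hf h2 (conj_mem_of_norm' (E0.N_norm h x hn) (inv_mem hr))
      calc n * f * n⁻¹ * r⁻¹ * (n * f * n⁻¹)⁻¹ = n * (f * (n⁻¹ * r⁻¹ * n) * f⁻¹) * n⁻¹ := by group
        _ = r⁻¹⁻¹ := by rw [this]; group
    rcases h.max x (N x ⊓ 𝐂[R x]) inf_le_left (ni_of_norm (norm_inf (h.fam.stab_le_norm x)
      (norm_cent (h.famR.stab_le_norm x)))) with e | e
    · exact cent_comm (e.ge.trans inf_le_right)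
    · have := h.eq_one hxy (e ⟨a1, a3⟩) a2.2
      rw [mul_eq_one_iff_eq_inv, inv_two h2, mul_inv_eq_iff_eq_mul] at this
      exact absurd ((h.cen hxy hf f1 hn).1 this) hK
  · rcases h.max x (closure {u | u ∈ N x ∧ orderOf u = 2}) ((closure_le _).2 fun _ hu => hu.1)
      (fun g hg m hm => by
        exact (closure_le (comap (MulAut.conj g).toMonoidHom
          (closure {u | u ∈ N x ∧ orderOf u = 2}))).2 (fun u hu =>
            subset_closure ⟨h.fam.conj' hg hu.1, two_conj hu.2 g⟩) hm) with e | e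
    · rw [← e, closure_le]
      exact fun u hu => hM u hu.1 hu.2
    · have ha : s⁻¹ * f * s ∈ Kp N x y := mem_cj.1 (hiso ▸ hf)
      have a2 : orderOf (s⁻¹ * f * s) = 2 := by simpa using two_conj h2 s⁻¹
      exact absurd (h.eq_one hxy (e (subset_closure ⟨ha.1, a2⟩)) ha.2) (ne_one_of_two a2)

end Cfsg.Agent.OT
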