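import Mathlib
import Cfsg.Agent.OT.EB
import Cfsg.Agent.S3224
import Cfsg.Agent.FG.H93Elt
import Cfsg.Agent.GT.CoprimeSylow
import Cfsg.Agent.Inv.Basic

set_option autoImplicit false

namespace Cfsg.Agent.OT

open Subgroup MulAction Cfsg.Agent.TT Cfsg.Agent.Perm Cfsg.Agent.Perm.TT Cfsg.Agent.Loc.Mss
open Cfsg.Agent.Perm.TwoCount Cfsg.Agent.Perm.RankOne

universe u v

namespace E2

variable {G : Type u} [Group G] [Finite G] {N K L R P Q T : Subgroup G}

/-- `C` is a cyclic subgroup of index at most two in `S`. -/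
structure Cy (S C : Subgroup G) : Prop where
  le : C ≤ S
  cyc : IsCyclic C
  idx : ∀ x ∈ S, ∀ y ∈ S, x ∉ C → y ∉ C → x * y ∈ C

omit [Finite G] in
theorem Cy.cj {S C : Subgroup G} (h : Cy S C) (g : G) : Cy cj(g, S) cj(g, C) where
  le := cj_mono g h.le
  cyc := by
    have := h.cyc
    exact isCyclic_of_surjective _ (C.equivMapOfInjective _ (cj_inj g)).surjective
  idx := by
    rintro _ ⟨x, hx, rfl⟩ _ ⟨y, hy, rfl⟩ h1 h2
    exact ⟨_, h.idx x hx y hy (fun e => h1 ⟨x, e, rfl⟩) (fun e => h2 ⟨y, e, rfl⟩), map_mul _ _ _⟩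

omit [Finite G] in
theorem Cy.mono {S S' C : Subgroup G} (h : Cy S C) (hS : S' ≤ S) : Cy S' (C ⊓ S') where
  le := inf_le_right
  cyc := by
    have := h.cyc
    exact isCyclic_of_injective _ (inclusion_injective (inf_le_left : C ⊓ S' ≤ C))
  idx := fun x hx y hy h1 h2 =>
    ⟨h.idx x (hS hx) y (hS hy) (fun e => h1 ⟨e, hx⟩) (fun e => h2 ⟨e, hy⟩), mul_mem hx hy⟩

omit [Finite G] in
theorem Cy.gen {S C : Subgroup G} (h : Cy S C) : ∃ c : G, C = zpowers c := by
  have := h.cyc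
  obtain ⟨c, hc⟩ := (isCyclic_iff_exists_zpowers_eq_top (α := C)).1 this
  have e := congrArg (Subgroup.map C.subtype) hc
  rw [map_subtype_top, MonoidHom.map_zpowers] at e
  exact ⟨c, e.symm⟩

omit [Finite G] in
theorem Cy.sq {S C : Subgroup G} (h : Cy S C) {x : G} (hx : x ∈ S) : x * x ∈ C := by
  by_cases e : x ∈ C
  exacts [mul_mem e e, h.idx x hx x hx e e]

omit [Finite G] in
theorem Cy.tri {S A B D : Subgroup G} (hA : Cy S A) (hB : Cy S B) (hD : Cy S D) (h1 : ¬ A ≤ B)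
    (h2 : ¬ D ≤ A) (h3 : ¬ D ≤ B) {x : G} (hx : x ∈ S) : x ∈ A ∨ x ∈ B ∨ x ∈ D := by
  by_contra! hh
  obtain ⟨c, rfl⟩ := hA.gen
  obtain ⟨d, rfl⟩ := hD.gen
  rw [zpowers_le] at h1 h2 h3
  have hc := hA.le (mem_zpowers c)
  have hd := hD.le (mem_zpowers d)
  have e2 := hB.idx x hx d hd hh.2.1 h3
  obtain ⟨k, hk⟩ := mem_zpowers_iff.1 (hA.idx x hx d hd hh.1 h2)
  rcases Int.even_or_odd' k with ⟨m, rfl | rfl⟩
  · refine hh.2.2 ((mul_mem_cancel_right (mem_zpowers d)).1 ?_)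
    rw [← hk, zpow_mul, zpow_two]
    exact zpow_mem (hD.sq hc) m
  · rw [← hk, zpow_add_one, zpow_mul, zpow_two] at e2
    exact h1 ((mul_mem_cancel_left (zpow_mem (hB.sq hc) m)).1 e2)

theorem Cy.uniq {S C : Subgroup G} (h : Cy S C) {x y : G} (hx : x ∈ C) (hy : y ∈ C)
    (x2 : orderOf x = 2) (y2 : orderOf y = 2) : x = y := by
  classical
  have := h.cyc
  have := Fintype.ofFinite C
  by_contra hne
  have h1 := IsCyclic.card_pow_eq_one_le (α := C) (n := 2) two_pos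
  have h2 : ({1, ⟨x, hx⟩, ⟨y, hy⟩} : Finset C) ⊆ Finset.univ.filter fun a : C => a ^ 2 = 1 := by
    intro z hz
    simp only [Finset.mem_insert, Finset.mem_singleton] at hz
    rcases hz with rfl | rfl | rfl <;>
      simp [Subtype.ext_iff, _root_.sq, sq_of_two x2, sq_of_two y2]
  have h3 := (Finset.card_le_card h2).trans h1
  rw [Finset.card_eq_three.2 ⟨_, _, _, ?_, ?_, ?_, rfl⟩] at h3
  · omega
  · exact fun e => ne_one_of_two x2 (congrArg Subtype.val e).symm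
  · exact fun e => ne_one_of_two y2 (congrArg Subtype.val e).symm
  · exact fun e => hne (congrArg Subtype.val e)

/-- An element of odd order with two fixed points on a 2-group with a cyclic subgroup of index
at most two. -/
theorem Cy.core {S C : Subgroup G} (hC : Cy S C) (hS : IsPGroup 2 S) {g a x : G} (hg : g ∈ 𝐍[S])
    (ho : Odd (orderOf g)) (ha : a ∈ S) (a2 : orderOf a = 2) (ca : Commute a g)
    (hf : ∀ s ∈ S, Commute s g → s = 1 ∨ s = a) (hx : x ∈ S) (x2 : orderOf x = 2) : x = a := by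
  have e1 : g * a * g⁻¹ = a := by rw [← ca.eq, mul_inv_cancel_right]
  have e2 : g⁻¹ * a * g = a := by rw [mul_assoc, ca.eq, inv_mul_cancel_left]
  by_cases hn : g ∈ 𝐍[C]
  · have := hC.cyc
    have hc := FG.H93.mem_centralizer_of_odd_of_cyclic_two (hS.to_le hC.le) hn ho
    have h1 : ∀ c ∈ C, c = 1 ∨ c = a := fun c e => hf c (hC.le e) (hc c e)
    by_contra hxa
    have hxC : x ∉ C := fun e => (h1 x e).elim (ne_one_of_two x2) hxa
    have hx' : g * x * g⁻¹ ∉ C := fun e => hxC (by simpa [mul_assoc] using conj_mem_of_norm' hn e)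
    have hi : x⁻¹ = x := inv_eq_of_mul_eq_one_right (sq_of_two x2)
    have h2 : Commute g x := by
      rcases h1 _ (hC.idx x hx _ (conj_mem_of_norm hg hx) hxC hx') with e | e
      · rw [mul_eq_one_iff_inv_eq, hi, eq_mul_inv_iff_mul_eq] at e
        exact e.symm
      · refine commute_of_commute_mul_self ho ?_
        have e3 : g * x * g⁻¹ = x * a := by rw [← e, ← mul_assoc, sq_of_two x2, one_mul]
        have : g * g * x * (g * g)⁻¹ = x := by
          calc _ = g * (g * x * g⁻¹) * g⁻¹ := by group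
            _ = g * (x * a) * g⁻¹ := by rw [e3]
            _ = (g * x * g⁻¹) * (g * a * g⁻¹) := by group
            _ = x := by rw [e3, e1, mul_assoc, sq_of_two a2, mul_one]
        rwa [mul_inv_eq_iff_eq_mul] at this
    exact (hf x hx h2.symm).elim (ne_one_of_two x2) hxa
  · have c1 := hC.cj g
    rw [cj_of_norm hg] at c1
    have c2 := c1.cj g
    rw [cj_of_norm hg] at c2
    have tri : ∀ {y : G}, y ∈ S → y ∈ C ∨ g⁻¹ * y * g ∈ C ∨ g⁻¹ * (g⁻¹ * y * g) * g ∈ C :=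
      fun hy => by
        have gg : g ∈ zpowers (g * g) := by
          rw [← _root_.sq, mem_zpowers_pow_iff]
          exact Nat.coprime_two_left.2 ho
        simpa only [mem_cj] using hC.tri c1 c2 (fun e => hn (cj_eq_iff.1 (cj_eq_of_ge e)))
          (fun e => hn (zpowers_le.2 (mem_norm_of_cj_le (cj_cj C g g ▸ e)) gg))
          (fun e => hn (mem_norm_of_cj_le (cj_le_cj.1 e))) hy
    have haC : a ∈ C := by simpa only [e2, or_self] using tri ha
    have o : ∀ {y : G}, orderOf y = 2 → orderOf (g⁻¹ * y * g) = 2 := fun {y} e => by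
      simpa using (orderOf_cj g⁻¹ y).trans e
    have b : ∀ {y : G}, g⁻¹ * y * g = a → y = a := fun {y} e => by
      rw [← e1, ← e]; group
    rcases tri hx with e | e | e
    · exact hC.uniq e haC x2 a2
    · exact b (hC.uniq e haC (o x2) a2)
    · exact b (b (hC.uniq e haC (o (o x2)) a2))

omit [Finite G] in
theorem exists_two (h : Nat.card P = 2) : ∃ a ∈ P, orderOf a = 2 ∧ ∀ p ∈ P, p = 1 ∨ p = a := by
  obtain ⟨a, a1, ha⟩ := (Nat.card_eq_two_iff' (1 : P)).1 h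
  have key : ∀ p ∈ P, p = 1 ∨ p = a := fun p hp => by
    by_cases e : p = 1
    · exact Or.inl e
    · exact Or.inr (congrArg Subtype.val (ha ⟨p, hp⟩ fun e' => e (congrArg Subtype.val e')))
  have a1' : (a : G) ≠ 1 := fun e => a1 (Subtype.ext e)
  refine ⟨a, a.2, orderOf_eq_prime ?_ a1', key⟩
  rcases key _ (mul_mem a.2 a.2) with e | e
  · rw [_root_.sq, e]
  · exact absurd (mul_eq_left.1 e) a1'

omit [Finite G] in
theorem pg_zpowers {p : ℕ} {x : G} (h : orderOf x = p) : IsPGroup p (zpowers x) :=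
  IsPGroup.of_card (n := 1) (by rw [Nat.card_zpowers, h, pow_one])

theorem conj_two (h : Syl 2 P K) {a u : G} (ha : ∀ p ∈ P, p = 1 ∨ p = a) (hu : u ∈ K)
    (u2 : orderOf u = 2) : ∃ k ∈ K, k * u * k⁻¹ = a := by
  obtain ⟨k, hk, e⟩ := h.conj_le (pg_zpowers u2) (zpowers_le.2 hu)
  refine ⟨k, hk, (ha _ (cj_le_iff.1 e u (mem_zpowers u))).resolve_left ?_⟩
  exact ne_one_of_two ((orderOf_cj k u).trans u2)

theorem exists_cy (h : ET N K L R P Q T) (h2 : Nat.card P = 2) (hne : ¬ T ⊓ N ≤ P) {f : G}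
    (hf : f ∈ Q) (f2 : orderOf f = 2) : ∃ C, Cy T C := by
  have e : centralizer {(⟨f, h.QT hf⟩ : T)} = (P ⊔ Q).subgroupOf T := by
    ext x
    rw [mem_centralizer_singleton_iff, mem_subgroupOf, Subtype.ext_iff]
    refine ⟨fun c => ?_, fun hx => (h.toEV.commV hx (mem_sup_right hf)).eq⟩
    obtain ⟨s, hs, g, hg, e⟩ := h.mem_T.1 x.2
    have c1 : Commute (s * g) f := by rw [e]; exact c
    have c2 : Commute s f := by simpa using c1.mul_left (h.toEV.commQ (inv_mem hg) hf)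
    exact e ▸ mul_mem (mem_sup_left ((h.cenT hf (ne_one_of_two f2) hs).1 c2)) (mem_sup_right hg)
  have key : ∀ x : T, Nat.card T = orderOf x * 2 → ∃ C, Cy T C := fun x hx => by
    have h3 := (zpowers x).card_mul_index
    rw [Nat.card_zpowers, hx] at h3
    have h4 := Nat.eq_of_mul_eq_mul_left (orderOf_pos x) h3
    have h5 : ∀ y : T, (y : G) ∈ zpowers (x : G) ↔ y ∈ zpowers x := fun y =>
      ⟨fun ⟨k, hk⟩ => ⟨k, Subtype.ext hk⟩, fun ⟨k, hk⟩ => ⟨k, congrArg Subtype.val hk⟩⟩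
    refine ⟨zpowers (x : G), zpowers_le.2 x.2, inferInstance, fun y hy z hz ny nz => ?_⟩
    exact (h5 (⟨y, hy⟩ * ⟨z, hz⟩)).2 ((mul_mem_iff_of_index_two h4).2
      (iff_of_false (fun e => ny ((h5 _).2 e)) (fun e => nz ((h5 _).2 e))))
  rcases S3224.result h.sylT.pg ⟨f, h.QT hf⟩ ((orderOf_mk _ _).trans f2) (by
    rw [e, Nat.card_congr (subgroupOfEquivOfLe h.VT).toEquiv, h.toEV.card_V, h2]; rfl) with
    ⟨n, ⟨e⟩⟩ | ⟨n, -, hn, x, y, hx, -⟩ | h4
  · refine key (e.symm (DihedralGroup.r 1)) ?_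
    rw [MulEquiv.orderOf_eq, DihedralGroup.orderOf_r_one, Nat.card_congr e.toEquiv,
      DihedralGroup.nat_card, mul_comm]
  · exact key x (by rw [hn, hx, pow_succ])
  · have := h.card_T
    rw [h2, h4] at this
    exact absurd (eq_of_le_of_card_ge (le_inf h.PT h.toEV.PN) (by omega)).ge hne

/-- Centralizers in `L`. -/
theorem cent_L (h : EV N K L R P Q) {f t g : G} (hf : f ∈ L) (f1 : f ≠ 1) (ht : t ∈ N)
    (htK : t ∉ K) (c : Commute f (t * f * t⁻¹)) (hg : g ∈ L) (g1 : g ≠ 1) (cg : Commute g f)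
    {l : G} (hl : l ∈ L) (cl : Commute l g) : Commute l f := by
  have c1 := h.th f hf f1 t ht htK c g hg g hg cg cg
  have c2 := h.th g hg g1 t ht htK c1 l hl f hf cl cg.symm
  have c3 := h.th g hg g1 t ht htK c1 g hg f hf (Commute.refl g) cg.symm
  have m : t * f * t⁻¹ * f⁻¹ ∈ N := by
    simpa [mul_assoc] using mul_mem ht (conj_mem_of_norm (h.nL hf) (inv_mem ht))
  have mK := (h.cen g hg g1 _ m).1 (c3.mul_right cg.inv_right).symm
  simpa [mul_assoc] using (h.comm (inv_mem mK) hl).symm.mul_right c2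

theorem central (h : ET N K L R P Q T) (h2 : Nat.card P = 2) (hne : ¬ T ⊓ N ≤ P) {a f t : G}
    (ha : a ∈ P) (a2 : orderOf a = 2) (hP : ∀ p ∈ P, p = 1 ∨ p = a) (hf : f ∈ Q)
    (f2 : orderOf f = 2) (ht : t ∈ N) (htK : t ∉ K) (c : Commute f (t * f * t⁻¹))
    (hZ : ∀ s ∈ T, Commute s a) {w : G} (hw : cj(w, K) = L) (hwa : w * a * w⁻¹ = f) :
    L ≤ centralizer {f} := by
  have fL := h.toEV.QL hf
  have aK := h.toEV.PK ha
  by_contra hL
  set B := L ⊓ centralizer {f} with hB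
  have mB : ∀ {x : G}, x ∈ B ↔ x ∈ L ∧ Commute x f := and_congr Iff.rfl mem_centralizer_singleton_iff
  obtain ⟨r, hr, hd⟩ := Nat.exists_prime_and_dvd (n := B.relIndex L)
    (fun e => hL ((relIndex_eq_one.1 e).trans inf_le_right))
  have : Fact r.Prime := ⟨hr⟩
  have nB : ∀ g ∈ B, orderOf g ≠ r := fun g hg e => by
    obtain ⟨W, hW, sW⟩ := Syl.exists_ge (pg_zpowers e) (zpowers_le.2 hg.1)
    have g1 : g ≠ 1 := fun e' => hr.ne_one (by rw [← e, e', orderOf_one])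
    obtain ⟨⟨z, hz, zc⟩, z1⟩ := ne_bot_iff_exists_ne_one.1
      (GT.PG.inf_centralizer_ne_bot_of_isPGroup sW.pg sW.pg le_normalizer
        (fun e' => g1 (mem_bot.1 (e' ▸ hW (mem_zpowers g)))))
    have z1' : z ≠ 1 := fun e' => z1 (Subtype.ext e')
    have cz : Commute z f := cent_L h.toEV fL (ne_one_of_two f2) ht htK c hg.1 g1 (mB.1 hg).2
      (sW.le hz) (zc g (hW (mem_zpowers g))).symm
    have : W ≤ B := fun x hx => mB.2 ⟨sW.le hx,
      cent_L h.toEV fL (ne_one_of_two f2) ht htK c (sW.le hz) z1' cz (sW.le hx) (zc x hx)⟩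
    exact sW.nd (hd.trans (relIndex_dvd_of_le_left L this))
  have r2 : r ≠ 2 := fun e => nB f (mB.2 ⟨fL, Commute.refl f⟩) (f2.trans e.symm)
  obtain ⟨⟨g, hg⟩, go⟩ := exists_prime_orderOf_dvd_card' (G := L) r
    (hd.trans (relIndex_dvd_card _ _))
  rw [orderOf_mk] at go
  have g1 : g ≠ 1 := fun e' => hr.ne_one (by rw [← go, e', orderOf_one])
  set D := N ⊓ centralizer {a} with hD
  have mD : ∀ {x : G}, x ∈ D ↔ x ∈ N ∧ Commute x a := and_congr Iff.rfl mem_centralizer_singleton_iff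
  have ca := h.toEV.comm aK hg
  have gD : zpowers g ≤ 𝐍[D] := zpowers_le.2 (mem_norm_of_cj_le (cj_le_iff.2 fun x hx =>
    mD.2 ⟨conj_mem_of_norm (h.nL hg) hx.1,
      (ca.symm.mul_left (mD.1 hx).2).mul_left ca.symm.inv_left⟩))
  have nD : ¬ r ∣ Nat.card D := fun hd' => by
    obtain ⟨W, hW, sW⟩ := Syl.exists_ge (L := D ⊔ zpowers g) (pg_zpowers go) le_sup_right
    have nW : W ≤ 𝐍[D] := sW.le.trans (sup_le le_normalizer gD)
    have s1 := sW.inf le_sup_left nW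
    have n1 : W ⊓ D ≠ ⊥ := fun e => hr.ne_one
      ((s1.eq_bot_iff.1 e).symm.eq_one_of_dvd hd')
    obtain ⟨x, hx, xo⟩ := GT.CopAct.exists_prime_orderOf_mem
      (GT.PG.inf_centralizer_ne_bot_of_isPGroup s1.pg (pg_zpowers go)
        (norm_inf (hW.trans le_normalizer) gD) n1)
    have xK := (h.cen g hg g1 x hx.1.2.1).1 (hx.2 g (mem_zpowers g)).symm
    obtain ⟨k, hk⟩ := pg_iff.1 s1.pg x hx.1
    have xr : orderOf x = r := (Nat.prime_dvd_prime_iff_eq xo hr).1
      (xo.dvd_of_dvd_pow (orderOf_dvd_of_pow_eq_one hk))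
    refine nB (w * x * w⁻¹) (mB.2 ⟨hw ▸ conj_mem_cj xK, ?_⟩) ((orderOf_cj w x).trans xr)
    exact hwa ▸ (mD.1 hx.1.2).2.conj w
  obtain ⟨S', hS'⟩ := GT.CopAct.exists_invariant_sylow gD
    (by rw [Nat.card_zpowers, go]; exact hr.coprime_iff_not_dvd.2 nD)
    (Or.inl (GT.CopAct.isSolvable_zpowers g)) 2
  have s1 := Syl.of_sylow_sub S'
  set S := (S' : Subgroup D).map D.subtype
  have s0 : Syl 2 (T ⊓ N) D := h.sylN.mono (fun x hx => mD.2 ⟨hx.2, hZ x hx.1⟩) inf_le_left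
  obtain ⟨d, hd, e⟩ := s0.conj_eq s1
  obtain ⟨C, hC⟩ := exists_cy h h2 hne hf f2
  have c1 := (hC.mono (inf_le_left : T ⊓ N ≤ T)).cj d
  rw [e] at c1
  have s2 : Syl 2 S N := e ▸ h.sylN.cj_mem hd.1
  have aS : a ∈ S := by
    rw [← e, mem_cj, mul_assoc, ← (mD.1 hd).2.eq, inv_mul_cancel_left]
    exact ⟨h.PT ha, h.toEV.PN ha⟩
  obtain ⟨n, -, hn, hne'⟩ := h.toEV.not_iso s2 aS a2
  refine hne' (c1.core s1.pg (hS' (mem_zpowers g)) (go ▸ hr.odd_of_ne_two r2) aS a2 ca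
    (fun s hs cs => hP s ?_) hn ((orderOf_cj n a).trans a2))
  refine h.sylP.ge_of_le (s1.pg.to_le (inf_le_left : S ⊓ K ≤ S)) (fun p hp => ?_) inf_le_right
    ⟨hs, (h.cen g hg g1 s (s2.le hs)).1 cs⟩
  rcases hP p hp with rfl | rfl
  exacts [one_mem _, ⟨aS, aK⟩]

end E2

open E2

variable {G : Type u} [Group G] [Finite G] {N K L R P Q T : Subgroup G}

theorem ET.le_of_two (h : ET N K L R P Q T) (h2 : Nat.card P = 2) : T ⊓ N ≤ P := by
  by_contra hne
  obtain ⟨a, ha, a2, hP⟩ := exists_two h2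
  obtain ⟨f, hf, f2, hQ⟩ := exists_two (h.toEV.card_PQ ▸ h2 : Nat.card Q = 2)
  obtain ⟨t, ht, htP⟩ := h.exists_P1 hne
  have f1 := ne_one_of_two f2
  have fL := h.toEV.QL hf
  have aK := h.toEV.PK ha
  have nc : ¬ Commute t f := fun c => htP ((h.cenT hf f1 ht.1).1 c)
  have e1 : t * f * t⁻¹ = a * f := by
    rcases hP _ (h.th_mem ht hf) with e | e
    · rw [mul_inv_eq_one, mul_inv_eq_iff_eq_mul] at e
      exact absurd e nc
    · exact mul_inv_eq_iff_eq_mul.1 e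
  have caf := h.toEV.comm aK fL
  have hZ : ∀ s ∈ T, Commute s a := by
    obtain ⟨⟨z, hz, zc⟩, z1⟩ := ne_bot_iff_exists_ne_one.1
      (GT.PG.inf_centralizer_ne_bot_of_isPGroup h.sylN.pg h.sylT.pg
        (norm_inf le_normalizer h.T_norm) (fun e => hne (e ▸ bot_le)))
    rcases hP z ((h.cenT hf f1 hz).1 (zc f (h.QT hf)).symm) with e | e
    · exact absurd (Subtype.ext e) z1
    · exact e ▸ zc
  obtain ⟨w, hw, hwa⟩ : ∃ w : G, cj(w, K) = L ∧ w * a * w⁻¹ = f := by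
    obtain ⟨s, hs⟩ := h.iso
    obtain ⟨l, hl, e⟩ := conj_two h.sylQ hQ (hs ▸ conj_mem_cj aK) ((orderOf_cj s a).trans a2)
    exact ⟨l * s, by rw [← cj_cj, hs, cj_of_mem hl], by rw [← e]; group⟩
  have hL := central h h2 hne ha a2 hP hf f2 ht.1.2 (fun e => nc (h.toEV.comm e fL))
    (e1 ▸ caf.symm.mul_right (Commute.refl f)) hZ hw hwa
  have hK : ∀ k ∈ K, Commute k a := fun k hk => by
    have : Commute (w * k * w⁻¹) (w * a * w⁻¹) :=
      hwa ▸ mem_centralizer_singleton_iff.1 (hL (hw ▸ conj_mem_cj hk))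
    simpa [mul_assoc] using this.conj w⁻¹
  have hK2 : ∀ u ∈ K, u * u = 1 → u = 1 ∨ u = a := fun u hu u2 => by
    by_cases u1 : u = 1
    · exact Or.inl u1
    obtain ⟨k, hk, e⟩ := conj_two h.sylP hP hu (two_of_sq u1 u2)
    rw [mul_inv_eq_iff_eq_mul, ← (hK k hk).eq] at e
    exact Or.inr (mul_left_cancel e)
  have hN : N ≤ centralizer {a} := h.gen _ fun u hu u2 => mem_centralizer_singleton_iff.2 <| by
    have X1 : zpowers (u * f) ≤ N ⊔ Q :=
      zpowers_le.2 (mul_mem (mem_sup_left hu) (mem_sup_right hf))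
    rcases Inv.conj_or_central_involution (sq_of_two u2) (sq_of_two f2) with
      ⟨d, hd, -, e⟩ | ⟨z, hz, z2, cu, cf⟩
    · exact absurd (h.dis f fL (e ▸ conj_mem_of_norm (h.toEV.X_norm (X1 hd)) hu)) f1
    obtain ⟨n, hn, g, hg, rfl⟩ := h.toEV.mem_X.1 (X1 hz)
    have cn : Commute n f := by simpa using cf.mul_left (h.toEV.commQ (inv_mem hg) hf)
    have nK := (h.cen f fL f1 n hn).1 cn
    rcases hQ g hg with rfl | rfl
    · rw [mul_one] at z2 cu
      rcases hK2 n nK (sq_of_two z2) with e | e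
      · exact absurd e (ne_one_of_two z2)
      · exact (e ▸ cu).symm
    · have n2 : n * n = 1 := by
        have := sq_of_two z2
        rwa [cn.symm.mul_mul_mul_comm, sq_of_two f2, mul_one] at this
      rcases hK2 n nK n2 with rfl | rfl
      · rw [one_mul] at cu
        exact hK u ((h.cen g fL f1 u hu).1 cu.symm)
      · rw [← e1] at cu
        have c1 : Commute (t⁻¹ * u * t) g := by simpa [mul_assoc] using cu.symm.conj t⁻¹
        have c2 := hK _ ((h.cen g fL f1 _ (mul_mem (mul_mem (inv_mem ht.1.2) hu) ht.1.2)).1 c1)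
        have c3 := hZ t ht.1.1
        simpa [mul_assoc] using ((c3.mul_left c2).mul_left c3.inv_left).eq
  refine h.toEV.not_mem_R a2 (h.toEV.mem_R (h.toEV.PN ha) fun n hn => ?_)
  rw [← mem_centralizer_singleton_iff.1 (hN hn), mul_inv_cancel_right, mul_inv_cancel]
  exact one_mem _

end Cfsg.Agent.OT
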