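import Mathlib
import Cfsg.Agent.OT.EB
import Cfsg.Agent.GT.PPrimeCore
import Cfsg.Agent.S4593

/-!
# The even configuration when `P` is a Sylow subgroup of `N`
-/

set_option autoImplicit false

namespace Cfsg.Agent.OT

open Subgroup MulAction Cfsg.Agent.TT Cfsg.Agent.Perm Cfsg.Agent.Perm.TT Cfsg.Agent.Loc.Mss
open Cfsg.Agent.Perm.TwoCount Cfsg.Agent.Perm.RankOne

universe u v

theorem TI.not_le_Kp {G : Type u} {X : Type v} [Group G] [MulAction G X] {N : X → Subgroup G}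
    {x y : X} (h : TI N) (hxy : x ≠ y) : ¬ N x ≤ Kp N x y := fun e =>
  hxy (h.fam.eq_of_fix h.two (h.ne_bot hxy) fun _ hn => (e hn).2).symm

variable {G : Type u} [Group G] [Finite G] {N K L R P Q T : Subgroup G}

theorem E3A.R_bot (h : EV N K L R P Q) (hP : Syl 2 P N) : R = ⊥ := by
  obtain ⟨a, ha, a', ha', h1, h2, hne, -⟩ := h.klein hP
  obtain ⟨s, hs⟩ := h.iso
  obtain ⟨g, -, e⟩ := (hs ▸ h.sylP.cj s).conj_eq h.sylQ
  rw [cj_cj] at e
  exact h.R_eq_bot (e.le (conj_mem_cj ha)) (e.le (conj_mem_cj ha')) (two_conj h1 _)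
    (two_conj h2 _) fun e1 => hne (by simpa using e1)

theorem E3A.zn (h : EV N K L R P Q) (hP : Syl 2 P N) : N ⊓ 𝐂[N] = ⊥ :=
  le_bot_iff.1 (E3A.R_bot h hP ▸ h.rad _ inf_le_left (norm_inf le_normalizer
    (norm_cent le_normalizer)) (Group.isSolvable_of_comm fun a b =>
      Subtype.ext (b.2.2 a a.2.1)))

theorem E3A.inner (h : EV N K L R P Q) (hP : Syl 2 P N) {g : G} (hg : g ∈ Q) :
    ∃ n ∈ P, n⁻¹ * g ∈ 𝐂[N] := by
  by_cases g1 : g = 1
  · exact ⟨1, one_mem _, by rw [g1, inv_one, one_mul]; exact one_mem _⟩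
  obtain ⟨S, hS, -⟩ := hP.exists_sylow
  obtain ⟨k, hk⟩ := pg_iff.1 h.sylQ.pg g hg
  have hmem : ∀ {a : N}, a ∈ (S : Subgroup N) → (a : G) ∈ P := fun ha => by
    rw [hS] at ha; exact ha
  obtain ⟨⟨n, hn⟩, e⟩ := S4593.result (G := N) (eq_bot_iff.2 fun a ha => Subtype.ext
      ((E3A.zn h hP).le ⟨a.2, fun b hb => congrArg Subtype.val (mem_center_iff.1 ha ⟨b, hb⟩)⟩))
    (by
      have h1 := h.odd_le (O := (pPrimeCore 2 N).map N.subtype) (map_subtype_le _)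
        (fun a ha => mem_norm_of_cj_le (cj_le_iff.2 (by
          rintro _ ⟨b, hb, rfl⟩
          exact ⟨_, (inferInstance : (pPrimeCore 2 N).Normal).conj_mem b hb ⟨a, ha⟩, rfl⟩)))
        (by
          rw [card_map_of_injective N.subtype_injective]
          exact Nat.coprime_two_right.1 (GT.coprime_card_pPrimeCore 2))
      rw [E3A.R_bot h hP, le_bot_iff] at h1
      exact (map_eq_bot_iff_of_injective _ N.subtype_injective).1 h1)
    S ⟨⟨fun a b => Subtype.ext (Subtype.ext (h.commP (hmem a.2) (hmem b.2)).eq)⟩⟩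
    (normalizerMonoidHom N ⟨g, h.Q_norm hg⟩)
    (by
      obtain ⟨j, -, hj⟩ := (Nat.dvd_prime_pow Nat.prime_two).1 (orderOf_dvd_of_pow_eq_one
        (x := normalizerMonoidHom N ⟨g, h.Q_norm hg⟩) (n := 2 ^ k) (by
          rw [← map_pow, show (⟨g, h.Q_norm hg⟩ : 𝐍[N]) ^ 2 ^ k = 1 from Subtype.ext hk, map_one]))
      exact ⟨j, hj⟩)
    (fun a ha => Subtype.ext (by
      show g * a * g⁻¹ = a
      rw [← (h.commPQ (hmem ha) hg).eq, mul_inv_cancel_right]))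
  have e1 : ∀ a ∈ N, g * a * g⁻¹ = n * a * n⁻¹ := fun a ha => congrArg Subtype.val (e ⟨a, ha⟩)
  have e2 : n⁻¹ * g ∈ 𝐂[N] := fun a ha => by
    calc a * (n⁻¹ * g) = n⁻¹ * (n * a * n⁻¹) * g := by group
      _ = n⁻¹ * g * a := by rw [← e1 a ha]; group
  have c1 : Commute n g := by
    have := e1 n hn
    rw [mul_inv_cancel_right, mul_inv_eq_iff_eq_mul] at this
    exact this.symm
  have nK := (h.cen g (h.QL hg) g1 n hn).1 c1
  have e3 : n ^ 2 ^ k = 1 := by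
    refine (E3A.zn h hP).le ⟨pow_mem hn _, ?_⟩
    have := inv_mem (pow_mem e2 (2 ^ k))
    rwa [c1.inv_left.mul_pow, hk, mul_one, inv_pow, inv_inv] at this
  refine ⟨n, h.sylP.le_of_norm' (P := zpowers n) (pg_iff.2 ?_) (zpowers_le.2 nK)
    (zpowers_le.2 (cent_le_norm _ fun p hp => ?_)) (mem_zpowers n), e2⟩
  · rintro _ ⟨i, rfl⟩
    exact ⟨k, by rw [← zpow_natCast, ← zpow_mul, mul_comm, zpow_mul, zpow_natCast, e3, one_zpow]⟩
  · have := e1 p (h.PN hp)
    rw [← (h.commPQ hp hg).eq, mul_inv_cancel_right, eq_mul_inv_iff_mul_eq] at this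
    exact this

/-- The centralizer in `N` of a nonidentity element of `P` is `K`. -/
theorem E3A.cen (h : EV N K L R P Q) (hK : ¬ N ≤ K) (hP : Syl 2 P N) {a : G} (ha : a ∈ P)
    (a1 : a ≠ 1) {n : G} (hn : n ∈ N) : Commute n a ↔ n ∈ K := by
  choose φ h1 h2 using fun g : Q => E3A.inner h hP g.2
  have inj : Function.Injective fun g : Q => (⟨φ g, h1 g⟩ : P) := fun g g' e => by
    have e1 : φ g = φ g' := congrArg Subtype.val e
    have e2 := mul_mem (inv_mem (h2 g)) (h2 g')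
    rw [e1, mul_inv_rev, inv_inv, mul_assoc, mul_inv_cancel_left] at e2
    by_contra hne
    exact hK fun m hm => (h.cen _ (h.QL (mul_mem (inv_mem g.2) g'.2))
      (fun e3 => hne (Subtype.ext (inv_mul_eq_one.1 e3))) m hm).1 (e2 m hm)
  obtain ⟨g, hg⟩ := ((Nat.bijective_iff_injective_and_card _).2 ⟨inj, h.card_PQ.symm⟩).2 ⟨a, ha⟩
  have e : φ g = a := congrArg Subtype.val hg
  have c : Commute n (a⁻¹ * g) := e ▸ h2 g n hn
  have g1 : (g : G) ≠ 1 := fun e1 => a1 (by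
    have := h2 g
    rw [e, e1, mul_one, inv_mem_iff] at this
    exact (E3A.zn h hP).le ⟨h.PN ha, this⟩)
  rw [← h.cen g (h.QL g.2) g1 n hn]
  exact ⟨fun c1 => by simpa using c1.mul_right c,
    fun c1 => by simpa using c1.mul_right c.inv_right⟩

theorem EV.e3 (h : EV N K L R P Q) (hK : ¬ N ≤ K) (hP : Syl 2 P N) : E3 N K P Q := by
  obtain ⟨a, ha, a', ha', h1, h2, hne, -⟩ := h.klein hP
  refine ⟨hP, h.PK, ⟨a, ha, a', ha', h1, h2, hne⟩, fun g hg => ?_, fun k hk k' hk' => ?_, ?_,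
    E3A.zn h hP⟩
  · obtain ⟨n, hn, e⟩ := E3A.inner h hP hg
    exact ⟨n⁻¹, inv_mem hn, by rwa [← (h.commPQ (inv_mem hn) hg).eq]⟩
  · exact h.abK (h.PK ha) h1 hk hk' ((E3A.cen h hK hP ha (ne_one_of_two h1) (h.KN hk)).2 hk)
      ((E3A.cen h hK hP ha (ne_one_of_two h1) (h.KN hk')).2 hk')
  · obtain ⟨u, hu, u2, uK⟩ : ∃ u ∈ N, orderOf u = 2 ∧ u ∉ K := by
      by_contra! hc
      exact hK (h.gen K hc)
    have key : ∀ b ∈ P, orderOf b = 2 → ∃ n ∈ N, n * b * n⁻¹ = u := fun b hb b2 => by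
      have hz : zpowers (b * u) ≤ N := zpowers_le.2 (mul_mem (h.PN hb) hu)
      rcases Nat.even_or_odd (orderOf (b * u)) with e | e
      swap
      · obtain ⟨d, hd, e1⟩ := Inv.exists_conj_of_odd (sq_of_two b2) (sq_of_two u2) e
        exact ⟨d, hz hd, e1⟩
      have w2 := Inv.orderOf_pow_half (orderOf_pos _).ne' e
      have wm : (b * u) ^ (orderOf (b * u) / 2) ∈ zpowers (b * u) := pow_mem (mem_zpowers _) _
      generalize (b * u) ^ (orderOf (b * u) / 2) = w at w2 wm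
      obtain ⟨c1, c2⟩ := Inv.commute_of_mem_zpowers_mul (sq_of_two b2) (sq_of_two u2)
        (sq_of_two w2) wm
      have wK := (E3A.cen h hK hP hb (ne_one_of_two b2) (hz wm)).1 c1
      have wP : w ∈ P := h.sylP.le_of_norm' (P := zpowers w)
        (IsPGroup.of_card (n := 1) (by rw [Nat.card_zpowers, w2, pow_one])) (zpowers_le.2 wK)
        (zpowers_le.2 (cent_le_norm _ fun p hp => h.abK (h.PK hb) b2 (h.PK hp) wK
          (h.commP hp hb) c1)) (mem_zpowers w)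
      exact absurd ((E3A.cen h hK hP wP (ne_one_of_two w2) hu).1 c2.symm) uK
    intro b hb b' hb' b2 b2'
    obtain ⟨n, hn, e⟩ := key b hb b2
    obtain ⟨n', hn', e'⟩ := key b' hb' b2'
    refine ⟨n'⁻¹ * n, mul_mem (inv_mem hn') hn, ?_⟩
    calc n'⁻¹ * n * b * (n'⁻¹ * n)⁻¹ = n'⁻¹ * (n * b * n⁻¹) * n' := by group
      _ = b' := by rw [e, ← e']; group

end Cfsg.Agent.OT
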