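import Mathlib
import Cfsg.Agent.OT.Defs

/-! The case of a Sylow subgroup inside the two-point part: a counting argument. -/

set_option autoImplicit false
set_option linter.unusedSectionVars false

namespace Cfsg.Agent.OT

open Subgroup MulAction Cfsg.Agent.TT Cfsg.Agent.Perm Cfsg.Agent.Perm.TT Cfsg.Agent.Loc.Mss
open Cfsg.Agent.GT

universe u v

variable {G : Type u} {X : Type v} [Group G] [Finite G] [MulAction G X] [Finite X]
  {N R : X → Subgroup G} {x y : X}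

/-- The common centralizer of two members of the family. -/
abbrev Wc (N : X → Subgroup G) (z w : X) : Subgroup G := 𝐂[N z] ⊓ 𝐂[N w]

theorem Fam.cj_Wc (h : Fam N) (g : G) (z w : X) : cj(g, Wc N z w) = Wc N (g • z) (g • w) := by
  rw [cj_inf, cj_cent, cj_cent, h.cj_eq, h.cj_eq]

theorem TI.e3_fix_of_cent (h : TI N) (hxy : x ≠ y) {u : G} (hu : u ∈ 𝐂[N x]) : u • x = x := by
  obtain ⟨k, hk, -, k1⟩ := h.exists_mem hxy
  exact h.cent_le hk k1 (mem_cent.1 hu k hk).symm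

theorem TI.e3_eq_of_cent (h : TI N) (hxy : x ≠ y) {u : G} {z : X} (hu : u ∈ 𝐂[N x]) (h1 : u ≠ 1)
    (hz : u ∈ N z) : z = x :=
  h.fam.eq_of_fix h.two (h.ne_bot hxy) fun n hn => h.cent_le hz h1 (mem_cent.1 hu n hn)

theorem TI.e3_exists_cu (h : TI N) (hxy : x ≠ y) {P Q : Subgroup G}
    (h1 : E3 (N x) (Kp N x y) P Q) {g : G} (hQ : g ∈ Q) (hg : g ∈ Kp N y x) (g2 : orderOf g = 2) :
    ∃ p ∈ P, orderOf p = 2 ∧ g * p ∈ 𝐂[N x] := by
  obtain ⟨p, hp, hu⟩ := h1.cu g hQ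
  refine ⟨p, hp, two_of ?_ fun e => ?_, hu⟩
  · have := mul_mem hu hu
    rw [(h.comm hxy (h1.PK hp) hg).mul_mul_mul_comm, mul_self_two g2, one_mul] at this
    exact mem_bot.1 (h1.zn ▸ mem_inf.2 ⟨(h1.PK (mul_mem hp hp)).1, this⟩)
  · rw [e, mul_one] at hu
    exact hxy (h.e3_eq_of_cent hxy hu (ne_one_two g2) hg.1).symm

theorem TI.Wc_ne (h : TI N) (hxy : x ≠ y) {P Q : Subgroup G}
    (h1 : E3 (N x) (Kp N x y) P Q) (h2 : E3 (N y) (Kp N y x) Q P) : Wc N x y ≠ ⊥ := by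
  obtain ⟨g, hg, -, -, g2, -⟩ := h2.kl
  obtain ⟨p, hp, p2, hu⟩ := h.e3_exists_cu hxy h1 hg (h2.PK hg) g2
  obtain ⟨g', hg', g2', hu'⟩ := h.e3_exists_cu hxy.symm h2 hp (h1.PK hp) p2
  have c := h.comm hxy (h1.PK hp) (h2.PK hg)
  by_cases e : g' = g
  · rw [e, c.eq] at hu'
    intro hb
    have e1 : g * p = 1 := mem_bot.1 (hb ▸ mem_inf.2 ⟨hu, hu'⟩)
    refine ne_one_two p2 (h.ti hxy p (h1.PK hp).1 ?_)
    rw [eq_inv_of_mul_eq_one_right e1]
    exact inv_mem (h2.PK hg).1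
  exfalso
  have c' := h2.ab g' (h2.PK hg') g (h2.PK hg)
  obtain ⟨n, hn, e1⟩ := h2.fus _ (mul_mem hg' hg) g' hg' (two_of
    (by rw [c'.symm.mul_mul_mul_comm, mul_self_two g2, mul_self_two g2', one_mul])
    fun e1 => e ((eq_inv_of_mul_eq_one_left e1).trans (inv_two g2))) g2'
  have e2 : g * p = n⁻¹ * p * n := by
    have e3 := mem_cent.1 hu' n hn
    calc g * p = n⁻¹ * (n * (p * g') * (g'⁻¹ * g) * n⁻¹) * n := by rw [← c.eq]; group
      _ = n⁻¹ * (p * g' * (n * (g' * g) * n⁻¹)) * n := by rw [e3, inv_two g2']; group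
      _ = _ := by rw [e1, mul_assoc p, mul_self_two g2', mul_one]
  have m : g * p ∈ N (n⁻¹ • x) := e2 ▸ h.fam.conj_inv (smul_inv_smul n x) (h1.PK hp).1
  have u1 : g * p ≠ 1 := fun e3 => ne_one_two p2 (by
    rw [e3, eq_comm, mul_assoc, inv_mul_eq_one, right_eq_mul] at e2; exact e2)
  rw [h.e3_eq_of_cent hxy hu u1 m] at m
  exact u1 (mem_bot.1 (h1.zn ▸ mem_inf.2 ⟨m, hu⟩))

theorem TI.Wc_eq (h : TI N) {z w c d : X} (hzw : z ≠ w) (hcd : c ≠ d)
    (hc : Wc N z w ≤ 𝐂[N c]) (hd : Wc N z w ≤ 𝐂[N d]) : Wc N z w = Wc N c d := by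
  obtain ⟨g, rfl, rfl⟩ := h.two.two hzw hcd
  exact PG.eq_of_le_of_card_le (le_inf hc hd) (by rw [← h.fam.cj_Wc, card_cj])

theorem Fam.e3_le_smul (h : Fam N) {U : Subgroup G} {g : G} {c : X} (hg : g ∈ 𝐍[U])
    (hc : U ≤ 𝐂[N c]) : U ≤ 𝐂[N (g • c)] := by
  rw [← h.cj_eq, ← cj_cent, ← cj_of_norm hg]
  exact cj_mono g hc

theorem Fam.Wc_le_smul (h : Fam N) {n : G} (hn : n ∈ N x) (z : X) :
    Wc N x z ≤ 𝐂[N (n • z)] :=
  h.e3_le_smul (cent_le_norm _ (cent_comm inf_le_left hn)) inf_le_right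

/-- Every line through `x` contains two further fixed points of an involution of `P`. -/
theorem TI.e3_exists_two (h : TI N) (hxy : x ≠ y) {P Q : Subgroup G}
    (h1 : E3 (N x) (Kp N x y) P Q) {a : G} (ha : a ∈ P) (a2 : orderOf a = 2) {z : X}
    (hz : x ≠ z) : ∃ c : Bool → X, c true ≠ c false ∧
      ∀ b, a • c b = c b ∧ x ≠ c b ∧ Wc N x z = Wc N x (c b) := by
  obtain ⟨g, gx, rfl⟩ := h.two.two hxy hz
  obtain ⟨m, hm, e⟩ := (h1.syl.cj_norm (h.fam.mem_norm gx)).conj_eq h1.syl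
  rw [cj_cj] at e
  have key : ∀ b ∈ P, orderOf b = 2 → ∃ n ∈ N x, n * g * b * (n * g)⁻¹ = a := fun b hb b2 => by
    obtain ⟨n, hn, e1⟩ := h1.fus _ (e ▸ conj_mem_cj hb) a ha (two_conj b2 _) a2
    exact ⟨n * m, mul_mem hn hm, by rw [← e1]; group⟩
  obtain ⟨b, hb, b', hb', b2, b2', hne⟩ := h1.kl
  obtain ⟨n, hn, e1⟩ := key b hb b2
  obtain ⟨n', hn', e1'⟩ := key b' hb' b2'
  have fin : ∀ {n b : G}, n ∈ N x → b ∈ P → n * g * b * (n * g)⁻¹ = a →
      a • n • g • y = n • g • y ∧ x ≠ n • g • y ∧ Wc N x (g • y) = Wc N x (n • g • y) :=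
    fun {n b} hn hb e => by
      have hx : x ≠ n • g • y := fun e => hz (by
        rw [← inv_smul_eq_iff, h.fam.le x _ (inv_mem hn)] at e; exact e)
      refine ⟨?_, hx, h.Wc_eq hz hx inf_le_left (h.fam.Wc_le_smul hn _)⟩
      rw [← e, ← mul_smul n g y]
      exact conj_smul_iff.2 (h1.PK hb).2
  refine ⟨fun i => (cond i n n') • g • y, fun e2 => hne ?_, fun i => ?_⟩
  · have k : g⁻¹ * (n'⁻¹ * n) * g ∈ Kp N x y := ⟨h.fam.conj_inv gx (mul_mem (inv_mem hn') hn), by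
      change _ • y = y
      rw [mul_smul, mul_smul, mul_smul, show n • g • y = n' • g • y from e2, inv_smul_smul,
        inv_smul_smul]⟩
    calc b = g⁻¹ * (n'⁻¹ * n) * g * b * (g⁻¹ * (n'⁻¹ * n) * g)⁻¹ := by
          rw [(h1.ab _ k b (h1.PK hb)).eq, mul_inv_cancel_right]
      _ = (n' * g)⁻¹ * (n * g * b * (n * g)⁻¹) * (n' * g) := by group
      _ = _ := by rw [e1, ← e1']; group
  · cases i
    exacts [fin hn' hb' e1', fin hn hb e1]

theorem TI.false_of_e3 (h : TI N) (hxy : x ≠ y) {P Q : Subgroup G}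
    (h1 : E3 (N x) (Kp N x y) P Q) (h2 : E3 (N y) (Kp N y x) Q P) : False := by
  have hW := h.Wc_ne hxy h1 h2
  obtain ⟨a, ha, -, -, a2, -⟩ := h1.kl
  have aN := (h1.PK ha).1
  obtain ⟨w, hw⟩ : ∃ w : X, a • w ≠ w := by
    by_contra! hc
    exact ne_one_two a2 (h.two.faith a hc)
  have hxw : x ≠ w := fun e => hw (e ▸ h.fam.le x a aN)
  obtain ⟨s, sw, sx⟩ := h.two.two hxw.symm hxw
  let A : Set (Subgroup G) := {U | U ≠ Wc N x w ∧ ∃ z, x ≠ z ∧ U = Wc N x z}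
  have hc : ∀ U : A, ∃ c : Bool → X, c true ≠ c false ∧
      ∀ b, a • c b = c b ∧ x ≠ c b ∧ U = Wc N x (c b) := fun U => by
    obtain ⟨U, -, z, hz, rfl⟩ := U
    exact h.e3_exists_two hxy h1 ha a2 hz
  choose c c1 c2 using hc
  have cw : ∀ U b, w ≠ c U b := fun U b e => hw (e ▸ (c2 U b).1)
  have hx : ∀ U b, ¬ Wc N w (c U b) ≤ 𝐂[N x] := fun U b e => U.2.1 (by
    have e1 := h.Wc_eq (cw U b) hxw e inf_le_left
    rw [(c2 U b).2.2, ← e1]
    exact (h.Wc_eq (cw U b) (c2 U b).2.1 e inf_le_right).symm)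
  let F : A × Bool → A := fun i => ⟨cj(s, Wc N w (c i.1 i.2)), fun e => hx i.1 i.2 (by
      have e1 := h.fam.cj_Wc s w x
      rw [sw, sx, ← e, cj_eq_cj] at e1
      rw [← e1]; exact inf_le_right), s • c i.1 i.2,
      fun e => cw i.1 i.2 (MulAction.injective s (sw.trans e)), by rw [h.fam.cj_Wc, sw]⟩
  have hF : Function.Injective F := by
    rintro ⟨U, b⟩ ⟨U', b'⟩ e
    have e1 : Wc N w (c U b) = Wc N w (c U' b') := cj_eq_cj.1 (congrArg Subtype.val e)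
    have e2 : c U b = c U' b' := by
      by_contra hne
      have e3 := h.Wc_eq (cw U b) hne inf_le_right (e1 ▸ inf_le_right)
      have e4 : Wc N w (c U b) ≤ 𝐂[N (a • w)] := h.fam.e3_le_smul (cj_eq_iff.1 (by
        rw [e3, h.fam.cj_Wc, (c2 U b).1, (c2 U' b').1])) inf_le_left
      refine hx U b ?_
      rw [h.Wc_eq (cw U b) hw.symm inf_le_left e4,
        ← h.Wc_eq hxw hw.symm inf_le_right (h.fam.Wc_le_smul aN w)]
      exact inf_le_left
    obtain rfl : U = U' := Subtype.ext (by rw [(c2 U b).2.2, (c2 U' b').2.2, e2])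
    cases b <;> cases b'
    exacts [rfl, absurd e2.symm (c1 U), absurd e2 (c1 U), rfl]
  have i1 := Nat.card_le_card_of_injective F hF
  rw [Nat.card_prod, Nat.card_eq_fintype_card (α := Bool), Fintype.card_bool] at i1
  have i2 : IsEmpty A := (Nat.card_eq_zero.1 (by omega)).resolve_right (not_infinite_iff_finite.2
    inferInstance)
  have i3 : ∀ z, x ≠ z → Wc N x z = Wc N x w := fun z hz =>
    by_contra fun e => i2.false ⟨_, e, z, hz, rfl⟩
  refine hW (eq_bot_iff.2 fun u hu => h.two.faith u fun z => ?_)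
  by_cases hz : x = z
  · exact hz ▸ h.e3_fix_of_cent hxy hu.1
  · rw [i3 y hxy, ← i3 z hz] at hu
    exact h.e3_fix_of_cent (Ne.symm hz) hu.2

end Cfsg.Agent.OT
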