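import Mathlib
import Cfsg.Agent.OT.EB

/-! The even configuration when `P` is not elementary abelian. -/

set_option autoImplicit false

namespace Cfsg.Agent.OT

open Subgroup MulAction Cfsg.Agent.TT Cfsg.Agent.Perm Cfsg.Agent.Perm.TT Cfsg.Agent.Loc.Mss

universe u v

variable {G : Type u} [Group G] [Finite G] {N K L R P Q T : Subgroup G}

theorem e4_exists_four {p : G} (hp : IsPGroup 2 P) (hm : p ∈ P) (h2 : p * p ≠ 1) :
    4 ≤ Nat.card P ∧ ∃ r ∈ P, orderOf (r * r) = 2 := by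
  obtain ⟨k, hk⟩ := IsPGroup.iff_orderOf.1 hp ⟨p, hm⟩
  rw [← Subgroup.orderOf_coe] at hk
  change orderOf p = 2 ^ k at hk
  obtain ⟨j, rfl⟩ : ∃ j, k = j + 2 := by
    rcases k with _ | _ | j
    · rw [pow_zero, orderOf_eq_one_iff] at hk
      exact absurd (by rw [hk, one_mul]) h2
    · exact absurd (sq_of_two (by simpa using hk)) h2
    · exact ⟨j, rfl⟩
  refine ⟨?_, p ^ 2 ^ j, pow_mem hm _, ?_⟩
  · refine le_trans ?_ (Nat.le_of_dvd Nat.card_pos (P.orderOf_dvd_natCard hm))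
    rw [hk, pow_add]
    have := Nat.one_le_two_pow (n := j)
    omega
  · rw [← pow_two, ← pow_mul, ← pow_succ, orderOf_pow, hk, pow_succ 2 (j + 1),
      Nat.gcd_mul_right_left, Nat.mul_div_cancel_left _ (by positivity)]

theorem ET.le_of_not_elem (h : ET N K L R P Q T) {p : G} (hp : p ∈ P) (h2 : p * p ≠ 1) :
    T ⊓ N ≤ P := by
  by_contra hne
  obtain ⟨t, ht, htP⟩ := h.exists_P1 hne
  obtain ⟨h4, r, hr, r2⟩ := e4_exists_four h.sylP.pg hp h2
  have i2 : ∀ t ∈ P1 N P Q T, ∀ t' ∈ P1 N P Q T, t ∉ P → t' ∉ P → t * t' ∈ P :=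
    fun t ht t' ht' h1 h1' => by_contra fun e => h2 (by
      have e1 := h.inverts (mul_mem ht ht') e hp
      have e2 : t * t' * p * (t * t')⁻¹ = t * (t' * p * t'⁻¹) * t⁻¹ := by group
      rw [e2, h.inverts ht' h1' hp, h.inverts ht h1 (inv_mem hp), inv_inv] at e1
      nth_rewrite 2 [e1]
      rw [mul_inv_cancel])
  have hS : ∀ {s : G}, s ∈ T ⊓ N → s ∈ P1 N P Q T := fun hs => ⟨hs, h.le_of_index_two h4 i2 hs⟩
  have cT : ∀ {v : G}, v ∈ P ⊔ Q → Commute t v → ∀ s ∈ T, Commute s v := fun {v} hv c s0 h0 => by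
    obtain ⟨s, hs, g, hg, rfl⟩ := h.mem_T.1 h0
    refine Commute.mul_left ?_ (h.commV (mem_sup_right hg) hv)
    by_cases hsP : s ∈ P
    · exact h.commV (mem_sup_left hsP) hv
    · simpa using c.inv_left.mul_left (h.commV (mem_sup_left (i2 t ht s (hS hs) htP hsP)) hv)
  have sqT : ∀ s ∈ T, s * s ∈ P ⊔ Q := fun s0 h0 => by
    obtain ⟨s, hs, g, hg, rfl⟩ := h.mem_T.1 h0
    have e : s * g * (s * g) = s * s * (s⁻¹ * g * s) * g := by group
    rw [e]
    exact mul_mem (mul_mem (mem_sup_left (h.sq_mem (hS hs)))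
      (conj_mem_of_norm' (hS hs).2 (mem_sup_right hg))) (mem_sup_right hg)
  obtain ⟨g, hg, e⟩ := h.th_surj ht htP (mul_mem hr hr)
  have e1 : t * g * t⁻¹ = r * r * g := by rw [← e]; group
  have crg := h.commPQ hr hg
  have g1 : g ≠ 1 := fun g1 => ne_one_of_two r2 (by rw [← e, g1]; group)
  have g2 : g * g = 1 := by
    by_contra g2
    refine htP ((h.cenT (mul_mem hg hg) g2 ht.1).1 ?_)
    calc t * (g * g) = t * g * t⁻¹ * (t * g * t⁻¹) * t := by group
      _ = r * r * (r * r) * (g * g) * t := by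
        rw [e1, (crg.mul_left crg).symm.mul_mul_mul_comm]
      _ = _ := by rw [sq_of_two r2, one_mul]
  have uV : r * g ∈ P ⊔ Q := mul_mem (mem_sup_left hr) (mem_sup_right hg)
  have cu := cT uV (by
    calc t * (r * g) = t * r * t⁻¹ * (t * g * t⁻¹) * t := by group
      _ = _ := by rw [e1, h.inverts ht htP hr]; group)
  have u2 : r * g * (r * g) = r * r := by rw [crg.symm.mul_mul_mul_comm, g2, mul_one]
  have cc : ∀ {c : G}, c ∈ P → orderOf c = 2 → ∀ s ∈ T, Commute s c := fun {c} hc c2 =>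
    cT (mem_sup_left hc) (mul_inv_eq_iff_eq_mul.1 ((h.inverts ht htP hc).trans (inv_two c2)))
  have cT' := h.PT (mul_mem hr hr)
  have star : ∀ k ∈ N ⊔ Q, k * (r * r) * k⁻¹ ∈ P → k * (r * r) * k⁻¹ = r * r := fun k hk hP => by
    obtain ⟨l, hl, e2, e3⟩ := syl_ext h.sylT cT' (cc (mul_mem hr hr) r2) hk (h.PT hP)
    have nl : l ∈ 𝐍[T] := mem_norm_of_cj_le (cj_le_iff.2 fun s hs =>
      e3 s hs (cc hP (two_conj r2 k) s hs))
    obtain ⟨m, hm⟩ : ∃ m, m = l * (r * g) * l⁻¹ * (r * g)⁻¹ := ⟨_, rfl⟩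
    have mT : m ∈ T ⊓ N := hm ▸ mem_inf.2
      ⟨mul_mem (conj_mem_of_norm nl (h.VT uV)) (inv_mem (h.VT uV)),
      h.comm_mem hl (h.sylT.le (h.VT uV))⟩
    have cm : ∀ s ∈ T, Commute s m := fun s hs => hm ▸ Commute.mul_right
      (by simpa [mul_assoc] using (cu _ (conj_mem_of_norm' nl hs)).conj l) (cu s hs).inv_right
    have m2 : m = m⁻¹ := by
      rw [← h.inverts ht htP ((h.cenT hg g1 mT).1 (cm g (h.QT hg)).symm), (cm t ht.1.1).eq,
        mul_inv_cancel_right]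
    have e4 : l * (r * g) * l⁻¹ = m * (r * g) := by rw [hm]; group
    have e5 : l * (r * r) * l⁻¹ = r * r := by
      calc _ = l * (r * g) * l⁻¹ * (l * (r * g) * l⁻¹) := by rw [← u2]; group
        _ = m * m * (r * g * (r * g)) := by rw [e4, (cu m mT.1).symm.mul_mul_mul_comm]
        _ = _ := by nth_rewrite 2 [m2]; rw [mul_inv_cancel, one_mul, u2]
    exact mul_left_cancel (mul_right_cancel (e2.trans e5.symm))
  obtain ⟨n, hn, e2, e3⟩ := h.not_iso h.sylN ⟨cT', h.PN (mul_mem hr hr)⟩ r2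
  obtain ⟨l, hl, e4, e5⟩ := syl_ext h.sylT cT' (cc (mul_mem hr hr) r2) (mem_sup_left hn) e2.1
  have e6 := sqT _ (e5 _ (h.VT uV) (cu _ e2.1).symm)
  have e7 : l * (r * g) * l⁻¹ * (l * (r * g) * l⁻¹) = l * (r * r) * l⁻¹ := by rw [← u2]; group
  rw [e7] at e6
  exact e3 (mul_left_cancel (mul_right_cancel (e4.trans (star l hl (h.mem_P_of_V e6
    (conj_mem_of_norm (h.X_norm hl) (h.PN (mul_mem hr hr))))).symm)))

end Cfsg.Agent.OT
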