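import Mathlib
import Cfsg.Agent.OT.EB

/-! The structure of `N_T(P Q)` when `P` is elementary abelian. -/

set_option autoImplicit false
set_option linter.unusedSectionVars false

namespace Cfsg.Agent.OT

open Subgroup MulAction Cfsg.Agent.TT Cfsg.Agent.Perm Cfsg.Agent.Perm.TT Cfsg.Agent.Loc.Mss

universe u v

variable {G : Type u} [Group G] [Finite G] {N K L R P Q T : Subgroup G}

namespace E5

theorem inv_eq {x : G} (h : x * x = 1) : x⁻¹ = x := inv_eq_of_mul_eq_one_right h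

theorem cm_of_sq {x y : G} (hx : x * x = 1) (hy : y * y = 1) (h : x * y * (x * y) = 1) : Commute x y := by
  have := inv_eq h
  rw [mul_inv_rev, inv_eq hx, inv_eq hy] at this
  exact this.symm

theorem cm_cj {g x y : G} : Commute (g * x * g⁻¹) (g * y * g⁻¹) ↔ Commute x y :=
  ⟨fun h => by simpa [mul_assoc] using h.conj g⁻¹, fun h => h.conj g⟩

theorem cj_cm {g x : G} (h : Commute g x) : g * x * g⁻¹ = x := by rw [h.eq, mul_inv_cancel_right]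

theorem card_le_two {F P : Subgroup G} {v : G} (h : ∀ y ∈ F, y ∈ P ∨ v⁻¹ * y ∈ P) :
    Nat.card F ≤ 2 * Nat.card P := by
  have e : (F : Set G) ⊆ (P : Set G) ∪ (fun y => v * y) '' (P : Set G) := fun y hy =>
    (h y hy).imp_right fun k => ⟨_, k, by simp⟩
  change Nat.card (F : Set G) ≤ 2 * Nat.card (P : Set G)
  rw [Nat.card_coe_set_eq, Nat.card_coe_set_eq, two_mul]
  exact (Set.ncard_le_ncard e).trans ((Set.ncard_union_le _ _).trans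
    (Nat.add_le_add_left (Set.ncard_image_le (Set.toFinite _)) _))

/-- The normaliser of `P Q` in `T`. -/
abbrev T1 (P Q T : Subgroup G) : Subgroup G := T ⊓ 𝐍[P ⊔ Q]

/-- The standing hypothesis. -/
structure H5 (N K L R P Q T : Subgroup G) : Prop extends ET N K L R P Q T where
  he : ∀ p ∈ P, p * p = 1
  h4 : 4 ≤ Nat.card P
  ex : ∃ t ∈ P1 N P Q T, t ∉ P

namespace H5

variable (H : H5 N K L R P Q T)
include H

theorem PN {p : G} (hp : p ∈ P) : p ∈ N := H.KN (H.sylP.le hp)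

theorem nN {t : G} (ht : t ∈ T) : t ∈ 𝐍[N] := H.toEV.X_norm (H.sylT.le ht)

theorem V_le : P ⊔ Q ≤ T1 P Q T := le_inf (sup_le H.PT H.QT) le_normalizer

theorem eq_one {g : G} (hg : g ∈ Q) (hp : g ∈ P) : g = 1 := H.dis g (H.sylQ.le hg) (H.PN hp)

theorem exists_Q : ∃ g ∈ Q, g ∉ P := by
  obtain ⟨⟨g, hg⟩, h1⟩ := ne_bot_iff_exists_ne_one.1 H.Q1
  exact ⟨g, hg, fun k => h1 (Subtype.ext (H.eq_one hg k))⟩

theorem mem_T1 {s : G} (hs : s ∈ T1 P Q T) : ∃ t ∈ P1 N P Q T, ∃ g ∈ Q, t * g = s := by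
  obtain ⟨t, ht, g, hg, rfl⟩ := H.toET.mem_T.1 hs.1
  have h1 : t * g ∈ 𝐍[P ⊔ Q] := hs.2
  have h2 : g ∈ 𝐍[P ⊔ Q] := (H.V_le (mem_sup_right hg)).2
  exact ⟨t, ⟨ht, (mul_mem_cancel_right h2).1 h1⟩, g, hg, rfl⟩

theorem cP {s p : G} (hs : s ∈ T1 P Q T) (hp : p ∈ P) : Commute s p := by
  obtain ⟨t, ht, g, hg, rfl⟩ := H.mem_T1 hs
  refine Commute.mul_left ?_ (H.toEV.commV (mem_sup_right hg) (mem_sup_left hp))
  by_cases k : t ∈ P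
  · exact H.toEV.commP k hp
  · exact mul_inv_eq_iff_eq_mul.1 ((H.toET.inverts ht k hp).trans (inv_eq (H.he p hp)))

theorem sqQ {g : G} (hg : g ∈ Q) : g * g = 1 := by
  obtain ⟨t, ht, k⟩ := H.ex
  by_contra h1
  refine k ((H.toET.cenT (mul_mem hg hg) h1 ht.1).1 (mul_inv_eq_iff_eq_mul.1 ?_))
  have h2 := H.toET.th_mem ht hg
  calc _ = t * g * t⁻¹ * g⁻¹ * (g * (t * g * t⁻¹ * g⁻¹)) * g := by group
    _ = _ := by
      rw [(H.cP (H.V_le (mem_sup_right hg)) h2).eq, ← mul_assoc _ _ g, H.he _ h2, one_mul]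

theorem sqV {v : G} (hv : v ∈ P ⊔ Q) : v * v = 1 := by
  obtain ⟨p, hp, g, hg, rfl⟩ := H.toEV.mem_V.1 hv
  rw [mul_assoc, ← mul_assoc g, (H.cP (H.V_le (mem_sup_right hg)) hp).eq, mul_assoc, H.sqQ hg, mul_one,
    H.he p hp]

theorem cenV {s v : G} (hs : s ∈ T1 P Q T) (hv : v ∈ P ⊔ Q) (hn : v ∉ P) (h : Commute s v) : s ∈ P ⊔ Q := by
  obtain ⟨p, hp, g, hg, rfl⟩ := H.toEV.mem_V.1 hv
  obtain ⟨t, ht, g', hg', rfl⟩ := H.mem_T1 hs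
  have h1 := (H.cP hs hp).inv_right.mul_right h
  rw [inv_mul_cancel_left] at h1
  have h2 := h1.mul_left (H.toEV.commQ hg' hg).inv_left
  rw [mul_inv_cancel_right] at h2
  exact mul_mem (mem_sup_left ((H.toET.cenT hg (fun e => hn (by rwa [e, mul_one])) ht.1).1 h2))
    (mem_sup_right hg')

theorem sq1 {s : G} (hs : s ∈ T1 P Q T) : s * s ∈ P := by
  obtain ⟨t, ht, g, hg, rfl⟩ := H.mem_T1 hs
  have h1 := H.toET.sq_mem ht
  have := mul_mem (H.toET.th_mem ht hg) h1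
  convert this using 1
  rw [← cj_cm (H.cP (H.V_le (mem_sup_right hg)) h1), inv_eq (H.sqQ hg)]
  simp only [mul_assoc, ← mul_assoc g g, H.sqQ hg, one_mul, inv_mul_cancel_left]

theorem cm1 {x y : G} (hx : x ∈ T1 P Q T) (hy : y ∈ T1 P Q T) : x * y * x⁻¹ * y⁻¹ ∈ P := by
  have h1 := inv_mem (H.sq1 hx)
  have := mul_mem (mul_mem (H.sq1 (mul_mem hx hy)) h1) (inv_mem (H.sq1 hy))
  rw [← cj_cm (H.cP (inv_mem hy) h1)] at this
  convert this using 1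
  group

theorem normP {w p : G} (hw : w ∈ 𝐍[T1 P Q T]) (hp : p ∈ P) : w * p * w⁻¹ ∈ P := by
  have hz := conj_mem_of_norm hw (H.V_le (mem_sup_left hp))
  have k : ∀ s ∈ T1 P Q T, Commute s (w * p * w⁻¹) := fun s hs => by
    simpa [mul_assoc] using (H.cP (conj_mem_of_norm' hw hs) hp).conj w
  obtain ⟨g, hg, h1⟩ := H.exists_Q
  obtain ⟨t, ht, h2⟩ := H.ex
  by_contra h3
  exact h2 (H.toEV.mem_P_of_V (H.cenV ⟨ht.1.1, ht.2⟩
    (H.cenV hz (mem_sup_right hg) h1 (k g (H.V_le (mem_sup_right hg))).symm) h3 (k t ⟨ht.1.1, ht.2⟩)) ht.1.2)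

end H5

/-- An element of `T ∩ N` normalising `N_T(P Q)` but not `P Q`. -/
structure U5 (N K L R P Q T : Subgroup G) (u : G) : Prop extends H5 N K L R P Q T where
  uT : u ∈ T
  uN : u ∈ N
  un : u ∈ 𝐍[T1 P Q T]
  nu : u ∉ 𝐍[P ⊔ Q]

namespace U5

variable {u : G} (H : U5 N K L R P Q T u)
include H

theorem W_le : cj(u, P ⊔ Q) ≤ T1 P Q T := cj_le_of_norm H.V_le H.un

theorem PW {p : G} (hp : p ∈ P) : p ∈ cj(u, P ⊔ Q) :=
  mem_cj.2 (mem_sup_left (by simpa using H.normP (inv_mem H.un) hp))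

theorem sqW {x : G} (hx : x ∈ cj(u, P ⊔ Q)) : x * x = 1 := by
  obtain ⟨v, hv, rfl⟩ := hx
  rw [← map_mul, H.sqV hv, map_one]

theorem cenW {s x : G} (hs : s ∈ T1 P Q T) (hx : x ∈ cj(u, P ⊔ Q)) (hn : x ∉ P) (h : Commute s x) :
    s ∈ cj(u, P ⊔ Q) :=
  mem_cj.2 (H.cenV (conj_mem_of_norm' H.un hs) (mem_cj.1 hx)
    (fun k => hn (by simpa [mul_assoc] using H.normP H.un k)) (by simpa using h.conj u⁻¹))

theorem ne : cj(u, P ⊔ Q) ≠ P ⊔ Q := fun e => H.nu (cj_eq_iff.1 e)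

theorem inf {x : G} (h1 : x ∈ P ⊔ Q) (h2 : x ∈ cj(u, P ⊔ Q)) : x ∈ P := by
  by_contra hn
  exact H.ne (cj_eq_of_le fun y hy => H.cenV (H.W_le hy) h1 hn
    (cm_of_sq (H.sqW hy) (H.sqW h2) (H.sqW (mul_mem hy h2))))

theorem infN {x : G} (h1 : x ∈ cj(u, P ⊔ Q)) (h2 : x ∈ N) : x ∈ P := by
  simpa [mul_assoc] using H.normP H.un (H.toEV.mem_P_of_V (mem_cj.1 h1)
    (mul_mem (mul_mem (inv_mem H.uN) h2) H.uN))

theorem nW {s x : G} (hs : s ∈ T1 P Q T) (hx : x ∈ cj(u, P ⊔ Q)) : s * x * s⁻¹ ∈ cj(u, P ⊔ Q) := by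
  simpa using mul_mem (H.PW (H.cm1 hs (H.W_le hx))) hx

theorem gW {g : G} (hg : g ∈ Q) : u * g * u⁻¹ ∈ cj(u, P ⊔ Q) := conj_mem_cj (mem_sup_right hg)

theorem xg {g : G} (hg : g ∈ Q) : u * g * u⁻¹ * g⁻¹ ∈ P1 N P Q T := by
  have h1 := mul_mem (H.W_le (H.gW hg)) (inv_mem (H.V_le (mem_sup_right hg)))
  refine ⟨⟨h1.1, ?_⟩, h1.2⟩
  have := N.mul_mem H.uN (conj_mem_of_norm (H.nN (H.QT hg)) (inv_mem H.uN))
  change _ ∈ N
  simpa only [mul_assoc] using this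

theorem xg_inj {p g g' : G} (hp : p ∈ P) (hg : g ∈ Q) (hg' : g' ∈ Q)
    (e : p * (u * g * u⁻¹ * g⁻¹) = u * g' * u⁻¹ * g'⁻¹) : g = g' := by
  have h1 := mul_mem (mul_mem (inv_mem (H.gW hg')) (H.PW hp)) (H.gW hg)
  have h2 : (u * g' * u⁻¹)⁻¹ * p * (u * g * u⁻¹) = g'⁻¹ * g := by
    rw [eq_mul_inv_of_mul_eq e]; group
  have m := mul_mem (inv_mem hg') hg
  exact (inv_mul_eq_one.1 (H.eq_one m (H.inf (mem_sup_right m) (h2 ▸ h1)))).symm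

theorem surj {s : G} (hs : s ∈ P1 N P Q T) : ∃ p ∈ P, ∃ g ∈ Q, s = p * (u * g * u⁻¹ * g⁻¹) := by
  let f : P × Q → P1 N P Q T := fun x => ⟨x.1 * (u * x.2 * u⁻¹ * (x.2 : G)⁻¹),
    mul_mem (H.toET.P_le x.1.2) (H.xg x.2.2)⟩
  have hf : Function.Injective f := fun x y e => by
    have e1 : (x.1 : G) * _ = y.1 * _ := congrArg Subtype.val e
    have e2 := H.xg_inj (mul_mem (inv_mem y.1.2) x.1.2) x.2.2 y.2.2 (by rw [mul_assoc, e1, inv_mul_cancel_left])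
    rw [e2, mul_left_inj] at e1
    exact Prod.ext (Subtype.ext e1) (Subtype.ext e2)
  obtain ⟨x, e⟩ := (hf.bijective_of_nat_card_le (by
    rw [Nat.card_prod, ← H.toEV.card_PQ, ← pow_two]; exact H.toET.card_P1_le)).2 ⟨s, hs⟩
  exact ⟨_, x.1.2, _, x.2.2, (congrArg Subtype.val e).symm⟩

theorem dec {s : G} (hs : s ∈ T1 P Q T) : ∃ x ∈ cj(u, P ⊔ Q), ∃ v ∈ P ⊔ Q, s = x * v := by
  obtain ⟨t, ht, g', hg', rfl⟩ := H.mem_T1 hs
  obtain ⟨p, hp, g, hg, rfl⟩ := H.surj ht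
  exact ⟨_, mul_mem (H.PW hp) (H.gW hg), _, mem_sup_right (mul_mem (inv_mem hg) hg'), by group⟩

theorem invT1 {s : G} (hs : s ∈ T1 P Q T) (h : s * s = 1) : s ∈ P ⊔ Q ∨ s ∈ cj(u, P ⊔ Q) := by
  obtain ⟨x, hx, v, hv, rfl⟩ := H.dec hs
  by_cases k : v ∈ P
  · exact Or.inr (mul_mem hx (H.PW k))
  · exact Or.inl (mul_mem (H.cenV (H.W_le hx) hv k (cm_of_sq (H.sqW hx) (H.sqV hv) h)) hv)

theorem invP1 {s : G} (hs : s ∈ T1 P Q T) (hn : s ∈ N) (h : s * s = 1) : s ∈ P :=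
  (H.invT1 hs h).elim (fun k => H.toEV.mem_P_of_V k hn) fun k => H.infN k hn

theorem elem {F : Subgroup G} (hF : F ≤ T1 P Q T) (h : ∀ x ∈ F, x * x = 1) :
    F ≤ P ⊔ Q ∨ F ≤ cj(u, P ⊔ Q) := by
  refine or_iff_not_imp_left.2 fun k => ?_
  obtain ⟨x, hx, h1⟩ := SetLike.not_le_iff_exists.1 k
  exact fun y hy => H.cenW (hF hy) ((H.invT1 (hF hx) (h x hx)).resolve_left h1) (fun e => h1 (mem_sup_left e))
    (cm_of_sq (h y hy) (h x hx) (h _ (mul_mem hy hx)))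

theorem eqT1 {F : Subgroup G} (hF : F ≤ T1 P Q T) (h : ∀ x ∈ F, x * x = 1)
    (hc : Nat.card F = Nat.card ↥(P ⊔ Q)) : F = P ⊔ Q ∨ F = cj(u, P ⊔ Q) :=
  (H.elem hF h).imp (fun k => eq_of_le_of_card_ge k hc.ge) fun k => eq_of_le_of_card_ge k (by rw [card_cj, hc])

omit H in
theorem sq_cj {F : Subgroup G} (h : ∀ x ∈ F, x * x = 1) (w : G) : ∀ x ∈ cj(w, F), x * x = 1 := by
  rintro _ ⟨v, hv, rfl⟩
  rw [← map_mul, h v hv, map_one]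

theorem swap {w : G} (hw : w ∈ T) (hn : w ∈ 𝐍[T1 P Q T]) (h : w ∉ T1 P Q T) :
    cj(w, P ⊔ Q) = cj(u, P ⊔ Q) ∧ cj(w, cj(u, P ⊔ Q)) = P ⊔ Q := by
  have h1 := (H.eqT1 (cj_le_of_norm H.V_le hn) (sq_cj (fun _ => H.sqV) w) (card_cj _ _)).resolve_left
    fun e => h ⟨hw, cj_eq_iff.1 e⟩
  exact ⟨h1, (H.eqT1 (cj_le_of_norm H.W_le hn) (sq_cj (fun _ => H.sqW) w)
    (by rw [card_cj, card_cj])).resolve_right fun e => H.ne (cj_eq_cj.1 (e.trans h1.symm))⟩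

theorem two {w w' : G} (hw : w ∈ T ⊓ 𝐍[T1 P Q T]) (h : w ∉ T1 P Q T) (hw' : w' ∈ T ⊓ 𝐍[T1 P Q T])
    (h' : w' ∉ T1 P Q T) : w⁻¹ * w' ∈ T1 P Q T :=
  ⟨(mul_mem (inv_mem hw) hw').1, cj_eq_iff.1 (by
    rw [← cj_cj, (H.swap hw'.1 hw'.2 h').1, ← (H.swap hw.1 hw.2 h).1, cj_inv_cj])⟩

theorem eqT2 {F : Subgroup G} (hF : F ≤ T ⊓ 𝐍[T1 P Q T]) (h : ∀ x ∈ F, x * x = 1)
    (hc : Nat.card F = Nat.card ↥(P ⊔ Q)) : F = P ⊔ Q ∨ F = cj(u, P ⊔ Q) := by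
  refine H.eqT1 (fun v hv => by_contra fun hn => ?_) h hc
  obtain ⟨e1, e2⟩ := H.swap (hF hv).1 (hF hv).2 hn
  have k : ∀ y ∈ F, y ∈ T1 P Q T → y ∈ P := fun y hy h1 => by
    have c := cj_cm (cm_of_sq (h v hv) (h y hy) (h _ (mul_mem hv hy)))
    rcases H.invT1 h1 (h y hy) with k | k
    · exact H.inf k (e1 ▸ c ▸ conj_mem_cj k)
    · exact H.inf (e2 ▸ c ▸ conj_mem_cj k) k
  have h1 := card_le_two (F := F) (P := P) (v := v) fun y hy => by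
    by_cases k1 : y ∈ T1 P Q T
    exacts [Or.inl (k y hy k1), Or.inr (k _ (mul_mem (inv_mem hv) hy) (H.two (hF hv) hn (hF hy) k1))]
  rw [hc, H.toEV.card_V] at h1
  have := H.h4
  nlinarith

theorem T_le : T ≤ 𝐍[T1 P Q T] := by
  by_contra hn
  haveI := H.sylT.pg.isNilpotent
  obtain ⟨x, hx, h1, h2⟩ := GT.PG.exists_mem_normalizer_notMem (N := T ⊓ 𝐍[T1 P Q T]) (M := T)
    (lt_of_le_of_ne inf_le_left fun e => hn (e.ge.trans inf_le_right))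
  have l : T1 P Q T ≤ T ⊓ 𝐍[T1 P Q T] := le_inf inf_le_left le_normalizer
  have k : ∀ F ≤ T1 P Q T, (∀ x ∈ F, x * x = 1) → Nat.card F = Nat.card ↥(P ⊔ Q) → cj(x, F) ≤ T1 P Q T :=
    fun F hF h hc => by
      rcases H.eqT2 (cj_le_of_norm (hF.trans l) h2) (sq_cj h x) (by rw [card_cj, hc]) with e | e <;> rw [e]
      exacts [H.V_le, H.W_le]
  refine h1 ⟨hx, mem_norm_of_cj_le (cj_le_iff.2 fun s hs => ?_)⟩
  obtain ⟨a, ha, v, hv, rfl⟩ := H.dec hs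
  rw [← conj_mul]
  exact mul_mem (k _ H.W_le (fun _ => H.sqW) (card_cj _ _) (conj_mem_cj ha))
    (k _ H.V_le (fun _ => H.sqV) rfl (conj_mem_cj hv))

end U5

end E5

end Cfsg.Agent.OT
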