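import Mathlib
import Cfsg.Agent.OT.E5A

/-! When `P` is elementary abelian of order at least four, `T ∩ N` normalises `P Q`. -/

set_option autoImplicit false
set_option linter.unusedSectionVars false

namespace Cfsg.Agent.OT

open Subgroup MulAction Cfsg.Agent.TT Cfsg.Agent.Perm Cfsg.Agent.Perm.TT Cfsg.Agent.Loc.Mss
open Cfsg.Agent.Perm.TwoCount Cfsg.Agent.Perm.RankOne

universe u v

variable {G : Type u} [Group G] [Finite G] {N K L R P Q T : Subgroup G}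

namespace E5

theorem eq_of_rel {Z : Subgroup G} {d : G} (hd : d ∈ Z) (h1 : d ≠ 1) (r : G → G → Prop)
    (ex : ∀ z ∈ Z, z ≠ 1 → ∃ w ∈ Z, r z w) (sh : ∀ z, ∀ w ∈ Z, r z w → r z (w * d))
    (un : ∀ z ∈ Z, ∀ z' ∈ Z, ∀ w, r z w → r z' w → z = z') {z : G} (hz : z ∈ Z) (z1 : z ≠ 1) : z = d := by
  classical
  choose! f hf hr using ex
  have n : ∀ w : G, w * d ≠ w := fun w e => h1 (mul_eq_left.1 e)
  let φ : Z → Z := fun x => if h : (x : G) = 1 then ⟨f d * d, mul_mem (hf d hd h1) hd⟩ else ⟨f x, hf x x.2 h⟩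
  have k : ∀ y ∈ Z, y ≠ 1 → f d * d ≠ f y := fun y hy y1 e =>
    n (f d) (e.trans (congrArg f (un y hy d hd _ (hr y hy y1) (e ▸ sh d _ (hf d hd h1) (hr d hd h1)))))
  have hi : Function.Injective φ := fun x y e => by
    have e1 : (φ x : G) = φ y := congrArg Subtype.val e
    by_cases a : (x : G) = 1 <;> by_cases b : (y : G) = 1 <;> simp only [φ, a, b, dite_true, dite_false] at e1
    · exact Subtype.ext (a.trans b.symm)
    · exact (k y y.2 b e1).elim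
    · exact (k x x.2 a e1.symm).elim
    · exact Subtype.ext (un x x.2 y y.2 _ (hr x x.2 a) (e1 ▸ hr y y.2 b))
  obtain ⟨x, e⟩ := Finite.injective_iff_surjective.1 hi ⟨f z * d, mul_mem (hf z hz z1) hd⟩
  have e1 : (φ x : G) = f z * d := congrArg Subtype.val e
  by_cases a : (x : G) = 1 <;> simp only [φ, a, dite_true, dite_false] at e1
  · exact un z hz d hd _ (hr z hz z1) (mul_right_cancel e1 ▸ hr d hd h1)
  · have := un x x.2 z hz _ (hr x x.2 a) (e1 ▸ sh z _ (hf z hz z1) (hr z hz z1))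
    rw [this] at e1
    exact (n _ e1.symm).elim

namespace U5

variable {u : G} (H : U5 N K L R P Q T u)
include H

theorem onto {g p : G} (hg : g ∈ Q) (h1 : g ∉ P) (hp : p ∈ P) :
    ∃ g' ∈ Q, u * g' * u⁻¹ * g * (u * g' * u⁻¹)⁻¹ * g⁻¹ = p := by
  let f : Q → P := fun x => ⟨_, H.cm1 (H.W_le (H.gW x.2)) (H.V_le (mem_sup_right hg))⟩
  have hf : Function.Injective f := fun x y e => by
    have e1 : u * x * u⁻¹ * g * (u * x * u⁻¹)⁻¹ = u * y * u⁻¹ * g * (u * y * u⁻¹)⁻¹ :=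
      mul_right_cancel (congrArg Subtype.val e)
    have m := mul_mem (inv_mem y.2) x.2
    have h2 := H.gW m
    have h3 := H.normP (inv_mem H.un) (H.inf (H.cenV (H.W_le h2) (mem_sup_right hg) h1 (by
      calc _ = (u * y * u⁻¹)⁻¹ * (u * x * u⁻¹ * g * (u * x * u⁻¹)⁻¹) * (u * x * u⁻¹) := by group
        _ = _ := by rw [e1]; group)) h2)
    exact Subtype.ext (inv_mul_eq_one.1 (H.eq_one m (by simpa [mul_assoc] using h3))).symm
  obtain ⟨x, e⟩ := (hf.bijective_of_nat_card_le H.toEV.card_PQ.le).2 ⟨p, hp⟩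
  exact ⟨x, x.2, congrArg Subtype.val e⟩

theorem T1_norm : T1 P Q T ≤ 𝐍[cj(u, P ⊔ Q)] := fun _ hs =>
  mem_norm_of_cj_le (cj_le_iff.2 fun _ => H.nW hs)

theorem key {h p : G} (hX : h ∈ N ⊔ Q) (h1 : h ∈ 𝐍[P ⊔ Q]) (h2 : h ∈ 𝐍[cj(u, P ⊔ Q)]) (hp : p ∈ P) :
    Commute h p := by
  obtain ⟨n, hn, g, hg, rfl⟩ := H.toEV.mem_X.1 hX
  have gT := H.V_le (mem_sup_right hg)
  have gV : g ∈ 𝐍[P ⊔ Q] := gT.2
  refine Commute.mul_left ?_ (H.cP gT hp)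
  replace h1 := (mul_mem_cancel_right gV).1 h1
  replace h2 := (mul_mem_cancel_right (H.T1_norm gT)).1 h2
  obtain ⟨g0, h0, h0P⟩ := H.exists_Q
  have v0 := mem_sup_right (S := P) h0
  have cN : ∀ {k a : G}, k ∈ N → a ∈ T → k * a * k⁻¹ * a⁻¹ ∈ N := fun hk ha => by
    simpa only [mul_assoc] using mul_mem hk (conj_mem_of_norm (H.nN ha) (inv_mem hk))
  obtain ⟨g1, h3, e⟩ := H.onto h0 h0P (H.toEV.mem_P_of_V
    (mul_mem (conj_mem_of_norm h1 v0) (inv_mem v0)) (cN hn (H.QT h0)))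
  have ht := H.xg h3
  have tT : u * g1 * u⁻¹ * g1⁻¹ ∈ T1 P Q T := ⟨ht.1.1, ht.2⟩
  have tN : u * g1 * u⁻¹ * g1⁻¹ ∈ N := ht.1.2
  have c : (u * g1 * u⁻¹ * g1⁻¹) * g0 * (u * g1 * u⁻¹ * g1⁻¹)⁻¹ = n * g0 * n⁻¹ := by
    rw [← mul_right_cancel e, ← cj_cm (H.toEV.commQ h3 h0).inv_left]
    simp only [mul_assoc, mul_inv_rev, inv_inv, (H.toEV.commQ h3 h0).inv_left.left_comm, inv_mul_cancel_left]
  generalize u * g1 * u⁻¹ * g1⁻¹ = t at *
  have c0 : t⁻¹ * n * g0 * (t⁻¹ * n)⁻¹ = g0 := by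
    calc _ = t⁻¹ * (n * g0 * n⁻¹) * t := by group
      _ = _ := by rw [← c]; group
  have kN := mul_mem (inv_mem tN) hn
  have kW := mul_mem (inv_mem (H.T1_norm tT)) h2
  rw [← mul_inv_cancel_left t n]
  refine (H.cP tT hp).mul_left ?_
  generalize t⁻¹ * n = k at *
  obtain ⟨g2, h4, rfl⟩ := H.onto h0 h0P hp
  have ha := H.gW h4
  generalize u * g2 * u⁻¹ = a at *
  have h5 := H.infN (mul_mem (conj_mem_of_norm kW ha) (inv_mem ha)) (cN kN (H.W_le ha).1)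
  have h6 := cj_cm (H.cP (conj_mem_of_norm (norm_of_le le_rfl (H.W_le ha)) (H.V_le v0)) h5).symm
  refine mul_inv_eq_iff_eq_mul.1 ?_
  calc _ = k * a * k⁻¹ * a⁻¹ * (a * (k * g0 * k⁻¹) * a⁻¹) * (k * a * k⁻¹ * a⁻¹)⁻¹ * (k * g0 * k⁻¹)⁻¹ := by group
    _ = _ := by rw [c0, h6]

theorem uT1 : u ∉ T1 P Q T := fun k => H.nu k.2

theorem ext {z k : G} (hz : z ∈ P) (hc : ∀ s ∈ T, Commute s z) (hk : k ∈ N ⊔ Q) (hm : k * z * k⁻¹ ∈ P) :
    k * z * k⁻¹ = z := by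
  obtain ⟨h, hh, e, h1⟩ := syl_ext H.sylT (H.PT hz) hc hk (H.PT hm)
  generalize k * z * k⁻¹ = y at *
  have a : ∀ F ≤ T1 P Q T, (∀ x ∈ F, x * x = 1) → Nat.card F = Nat.card ↥(P ⊔ Q) →
      cj(h, F) = P ⊔ Q ∨ cj(h, F) = cj(u, P ⊔ Q) := fun F hF h2 hc =>
    H.eqT2 (cj_le_iff.2 fun s hs => have := h1 s (hF hs).1 (H.cP (hF hs) hm); ⟨this, H.T_le this⟩)
      (sq_cj h2 h) (by rw [card_cj, hc])
  have a1 := a _ H.V_le (fun _ => H.sqV) rfl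
  have a2 := a _ H.W_le (fun _ => H.sqW) (card_cj _ _)
  have a3 : cj(h, cj(u, P ⊔ Q)) ≠ cj(h, P ⊔ Q) := fun e => H.ne (cj_eq_cj.1 e)
  rcases a1 with a1 | a1
  · rw [← e, cj_cm (H.key hh (cj_eq_iff.1 a1) (cj_eq_iff.1 (a2.resolve_left fun e => a3 (e.trans a1.symm))) hm)]
  · have a4 := a2.resolve_right fun e => a3 (e.trans a1.symm)
    have := cj_cm (H.key (mul_mem (H.sylT.le H.uT) hh) (cj_eq_iff.1 (by
      rw [← cj_cj, a1, (H.swap H.uT H.un H.uT1).2])) (cj_eq_iff.1 (by rw [← cj_cj, a4])) hm)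
    rw [← this, ← cj_cm (hc u H.uT), ← e]
    group

theorem out {z : G} (hz : z ∈ P) (z1 : z ≠ 1) (hc : ∀ s ∈ T, Commute s z) :
    ∃ n ∈ N, n * z * n⁻¹ ∈ T ⊓ N ∧ n * z * n⁻¹ ∉ T1 P Q T := by
  obtain ⟨n, hn, h1, h2⟩ := H.toEV.not_iso H.toET.sylN ⟨H.PT hz, H.PN hz⟩ (two_of_sq z1 (H.he z hz))
  exact ⟨n, hn, h1, fun k => h2 (H.ext hz hc (mem_sup_left hn)
    (H.invP1 k h1.2 (by rw [conj_mul, H.he z hz, mul_one, mul_inv_cancel])))⟩

theorem mem_out {w : G} (hw : w ∈ T) (h : w ∉ T1 P Q T) : u⁻¹ * w ∈ T1 P Q T :=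
  H.two ⟨H.uT, H.un⟩ H.uT1 ⟨hw, H.T_le hw⟩ h

theorem cT {z : G} (hz : z ∈ P) (h : Commute u z) {s : G} (hs : s ∈ T) : Commute s z := by
  by_cases k : s ∈ T1 P Q T
  · exact H.cP k hz
  · simpa using h.mul_left (H.cP (H.mem_out hs k) hz)

theorem sqT {w : G} (hw : w ∈ T) : w * w ∈ T1 P Q T := by
  by_cases k : w ∈ T1 P Q T
  · exact mul_mem k k
  · simpa using H.two (inv_mem ⟨hw, H.T_le hw⟩) (fun e => k (inv_mem_iff.1 e)) ⟨hw, H.T_le hw⟩ k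

theorem false_of (hu : u * u = 1) {z n : G} (hz : z ∈ P) (z1 : z ≠ 1) (hc : Commute u z) (hn : n ∈ N)
    (e : n * z * n⁻¹ = u) : False := by
  have ui := inv_eq hu
  have sq : ∀ {a k : G}, a * a = 1 → k * a * k⁻¹ * (k * a * k⁻¹) = 1 := fun h => by
    rw [conj_mul, h, mul_one, mul_inv_cancel]
  obtain ⟨g, hg, gP⟩ := H.exists_Q
  have hx := H.xg hg
  have x1 : u * g * u⁻¹ * g⁻¹ ∉ P := fun k => gP (by
    rw [H.xg_inj (inv_mem k) hg (one_mem Q) (by group)]; exact one_mem P)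
  have xi : u * (u * g * u⁻¹ * g⁻¹) * u⁻¹ = (u * g * u⁻¹ * g⁻¹)⁻¹ := by
    simp only [mul_inv_rev, inv_inv, ui, ← mul_assoc, hu, one_mul]
  generalize u * g * u⁻¹ * g⁻¹ = x at *
  have xT : x ∈ T1 P Q T := ⟨hx.1.1, hx.2⟩
  have dP := H.sq1 xT
  have d1 : x * x ≠ 1 := fun k => x1 (H.invP1 xT hx.1.2 k)
  have du : Commute u (x * x) := mul_inv_eq_iff_eq_mul.1 (by
    rw [← conj_mul, xi, ← mul_inv_rev, inv_eq (H.he _ dP)])
  have mZ : ∀ {y : G}, y ∈ P ⊓ centralizer {u} ↔ y ∈ P ∧ Commute u y :=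
    and_congr Iff.rfl (mem_centralizer_singleton_iff.trans eq_comm)
  have hZ : ∀ {y : G}, y ∈ P → Commute u y → y ≠ 1 → y = x * x := fun hy h1 h2 => by
    refine eq_of_rel (mZ.2 ⟨dP, du⟩) d1 (fun y w => ∃ k ∈ N ⊔ Q, k * y * k⁻¹ = u * w) ?_ ?_ ?_
      (mZ.2 ⟨hy, h1⟩) h2
    · intro y hy y1
      obtain ⟨hy, h3⟩ := mZ.1 hy
      obtain ⟨m, hm, h4, h5⟩ := H.out hy y1 fun _ => H.cT hy h3
      have h6 := H.mem_out h4.1 h5
      obtain ⟨p, hp, g', hg', e1⟩ := H.surj ⟨⟨h6.1, N.mul_mem (inv_mem H.uN) h4.2⟩, h6.2⟩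
      have e2 : g'⁻¹ * m * y * (g'⁻¹ * m)⁻¹ = u * p := by
        calc _ = g'⁻¹ * u * (u⁻¹ * (m * y * m⁻¹)) * g' := by group
          _ = g'⁻¹ * (u * u) * g' * u⁻¹ * p := by
            rw [e1, ← mul_assoc p, ← (H.cP (H.W_le (H.gW hg')) hp).eq]; group
          _ = _ := by rw [hu, ui]; group
      exact ⟨p, mZ.2 ⟨hp, cm_of_sq hu (H.he p hp) (e2 ▸ sq (H.he y hy))⟩, _,
        mul_mem (mem_sup_right (inv_mem hg')) (mem_sup_left hm), e2⟩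
    · rintro y w hw ⟨k, hk, e1⟩
      refine ⟨x⁻¹ * k, mul_mem (inv_mem (H.sylT.le xT.1)) hk, ?_⟩
      calc _ = x⁻¹ * (k * y * k⁻¹) * x := by group
        _ = u * (x * w) * x := by rw [e1, ← xi]; group
        _ = _ := by rw [(H.cP xT (mZ.1 hw).1).eq]; group
    · rintro y hy y' hy' w ⟨k, hk, e1⟩ ⟨k', hk', e2⟩
      have e3 : k'⁻¹ * k * y * (k'⁻¹ * k)⁻¹ = y' := by
        calc _ = k'⁻¹ * (k * y * k⁻¹) * k' := by group
          _ = _ := by rw [e1, ← e2]; group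
      rw [← e3, H.ext (mZ.1 hy).1 (fun _ => H.cT (mZ.1 hy).1 (mZ.1 hy).2) (mul_mem (inv_mem hk') hk)
        (e3 ▸ (mZ.1 hy').1)]
  obtain ⟨p, hp, h1⟩ : ∃ p ∈ P, ¬ Commute u p := by
    by_contra! k
    have h1 := card_le_two (F := P) (P := ⊥) (v := x * x) fun y hy => or_iff_not_imp_left.2 fun y1 => by
      rw [hZ hy (k y hy) y1, inv_mul_cancel]; exact one_mem _
    have := H.h4
    rw [card_bot] at h1
    omega
  have h2 := H.normP H.un hp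
  have h3 : u * p * u⁻¹ * p⁻¹ = x * x := hZ (mul_mem h2 (inv_mem hp)) (mul_inv_eq_iff_eq_mul.1 (by
    rw [← conj_mul, (H.toEV.commP h2 (inv_mem hp)).eq, inv_eq (H.he p hp), ui]
    simp only [← mul_assoc, hu, one_mul]
    rw [mul_assoc p, hu, mul_one])) fun k => h1 (mul_inv_eq_iff_eq_mul.1 (mul_inv_eq_one.1 k))
  have h4 : Commute (x * p) u := (mul_inv_eq_iff_eq_mul.1 (by
    rw [← conj_mul, xi, eq_mul_of_mul_inv_eq h3]; group) : Commute u (x * p)).symm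
  have h5 : x * p * (x * p) = z := by
    rw [hZ hz hc z1, mul_assoc, ← mul_assoc p, ← (H.cP xT hp).eq, mul_assoc, H.he p hp, mul_one]
  obtain ⟨h, hh, e1, h6⟩ := syl_ext H.sylT (H.PT hz) (fun _ => H.cT hz hc) (mem_sup_left hn) (e ▸ H.uT)
  rw [e] at e1 h6
  have h7 := H.sqT (h6 _ (mul_mem xT.1 (H.PT hp)) h4)
  rw [conj_mul, h5] at h7
  have h8 := H.ext hz (fun _ => H.cT hz hc) hh
    (H.invP1 h7 (conj_mem_of_norm (H.toEV.X_norm hh) (H.PN hz)) (sq (H.he z hz)))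
  rw [← h8, mul_left_inj, mul_right_inj] at e1
  exact H.uT1 (e1 ▸ H.V_le (mem_sup_left hz))

end U5

end E5

open E5 in
theorem ET.le_norm (h : ET N K L R P Q T) (he : ∀ p ∈ P, p * p = 1) (h4 : 4 ≤ Nat.card P) :
    T ⊓ N ≤ 𝐍[P ⊔ Q] := by
  by_contra hne
  have H : H5 N K L R P Q T := ⟨h, he, h4, h.exists_P1 fun k => hne (k.trans (norm_of_le le_sup_left))⟩
  obtain ⟨b, hb, h1, h2⟩ := exists_norm_not_mem (A := T1 P Q T) h.sylT.pg inf_le_left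
    fun e => hne (inf_le_left.trans (e.trans inf_le_right))
  obtain ⟨t, ht, g, hg, rfl⟩ := h.mem_T.1 hb
  have gT := H.V_le (mem_sup_right hg)
  have H1 : U5 N K L R P Q T t := ⟨H, ht.1, ht.2, (mul_mem_cancel_right (le_normalizer gT)).1 h2,
    fun k => h1 (mul_mem ⟨ht.1, k⟩ gT)⟩
  obtain ⟨z, hz, z2, hc⟩ := Inv.exists_central_mem_of_normalized h.sylT.pg h.PT h.P_ne
    fun _ hw _ => H.normP (H1.T_le hw)
  obtain ⟨n, hn, h3, h5⟩ := H1.out hz (ne_one_of_two z2) hc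
  have H2 : U5 N K L R P Q T (n * z * n⁻¹) := ⟨H, h3.1, h3.2, H1.T_le h3.1, fun k => h5 ⟨h3.1, k⟩⟩
  exact H2.false_of (by rw [conj_mul, he z hz, mul_one, mul_inv_cancel]) hz (ne_one_of_two z2) (hc _ h3.1) hn rfl

end Cfsg.Agent.OT
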