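import Mathlib
import Cfsg.Agent.OT.EB

set_option autoImplicit false

namespace Cfsg.Agent.OT

open Subgroup MulAction Cfsg.Agent.TT Cfsg.Agent.Perm Cfsg.Agent.Perm.TT Cfsg.Agent.Loc.Mss
open Cfsg.Agent.Perm.TwoCount Cfsg.Agent.Perm.RankOne
open scoped commutatorElement

universe u v

namespace E6A

section Dih

variable {B : Type*} [Group B] [Finite B]

/-- Two involutions are conjugate or commute with a common involution. -/
theorem dih {Y : Subgroup B} {s s' : B} (hs : s ∈ Y) (hs' : s' ∈ Y) (h2 : s * s = 1)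
    (h2' : s' * s' = 1) : (∃ y ∈ Y, y * s * y⁻¹ = s') ∨
      ∃ z ∈ Y, z ≠ 1 ∧ z * z = 1 ∧ Commute s z ∧ Commute s' z := by
  have i1 : s⁻¹ = s := inv_eq_of_mul_eq_one_right h2
  have i2 : s'⁻¹ = s' := inv_eq_of_mul_eq_one_right h2'
  have c1 : ∀ k : ℕ, s * (s' * s) ^ k * s⁻¹ = ((s' * s) ^ k)⁻¹ := fun k => by
    rw [← conj_pow, ← inv_pow, mul_inv_rev, i2]
    congr 1
    rw [i1, mul_assoc, mul_assoc, h2, mul_one]
  have c2 : ∀ k : ℕ, s' * (s' * s) ^ k * s'⁻¹ = ((s' * s) ^ k)⁻¹ := fun k => by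
    rw [← conj_pow, ← inv_pow, mul_inv_rev, i1]
    congr 1
    rw [← mul_assoc, h2', one_mul]
  have hu : s' * s ∈ Y := mul_mem hs' hs
  rcases Nat.even_or_odd' (orderOf (s' * s)) with ⟨m, hm | hm⟩
  · right
    have hz : (s' * s) ^ m * (s' * s) ^ m = 1 := by
      rw [← pow_add, ← two_mul, ← hm, pow_orderOf_eq_one]
    have hi := inv_eq_of_mul_eq_one_right hz
    have hp := orderOf_pos (s' * s)
    refine ⟨(s' * s) ^ m, pow_mem hu m, pow_ne_one_of_lt_orderOf (by omega) (by omega), hz, ?_, ?_⟩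
    · have := c1 m
      rw [hi, mul_inv_eq_iff_eq_mul] at this
      exact this
    · have := c2 m
      rw [hi, mul_inv_eq_iff_eq_mul] at this
      exact this
  · left
    refine ⟨(s' * s) ^ (m + 1), pow_mem hu _, ?_⟩
    have e : (s' * s) ^ (2 * m + 1) = 1 := by rw [← hm, pow_orderOf_eq_one]
    rw [← c1, i1, ← mul_assoc, ← mul_assoc, mul_assoc _ s s, h2, mul_one, ← pow_add,
      show m + 1 + (m + 1) = 2 * m + 1 + 1 by ring, pow_succ, e, one_mul, mul_assoc, h2, mul_one]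

omit [Finite B] in
theorem pg_pair {u w : B} (hu : u * u = 1) (hw : w * w = 1) (c : Commute u w) :
    IsPGroup 2 ↥(zpowers u ⊔ zpowers w) := by
  have h1 : ∀ {x : B}, x * x = 1 → IsPGroup 2 (zpowers x) := fun {x} hx => by
    rw [pg_iff]
    rintro _ ⟨k, rfl⟩
    refine ⟨1, ?_⟩
    show (x ^ k) ^ 2 ^ 1 = 1
    rw [pow_one, ← zpow_natCast, ← zpow_mul, mul_comm, zpow_mul, zpow_natCast, sq, hx, one_zpow]
  refine pg_sup (h1 hu) (h1 hw) (norm_of_cent ?_)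
  rw [zpowers_le, mem_cent]
  rintro _ ⟨k, rfl⟩
  exact (c.symm.zpow_left k).eq

/-- If all nonidentity elements of a Sylow 2-subgroup have the same fixed points, two involutions
with different fixed points are conjugate. -/
theorem conj_of_fix {Ω : Type*} [MulAction B Ω] {T Y : Subgroup B} (hT : Syl 2 T Y)
    (hF : ∀ u ∈ T, ∀ w ∈ T, u ≠ 1 → ∀ e : Ω, u • e = e → w • e = e) {s s' : B} (hs : s ∈ Y)
    (hs' : s' ∈ Y) (h1 : s ≠ 1) (h2 : s * s = 1) (h2' : s' * s' = 1) {e : Ω} (he : s • e = e)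
    (he' : s' • e ≠ e) : ∃ y ∈ Y, y * s * y⁻¹ = s' := by
  have key : ∀ u ∈ Y, ∀ w ∈ Y, u ≠ 1 → u * u = 1 → w * w = 1 → Commute u w → u • e = e →
      w • e = e := fun u hu w hw u1 u2 w2 c ue => by
    obtain ⟨y, -, hy⟩ := hT.conj_le (pg_pair u2 w2 c)
      (sup_le (zpowers_le.2 hu) (zpowers_le.2 hw))
    rw [cj_le_iff] at hy
    have := hF _ (hy u (mem_sup_left (mem_zpowers u))) _ (hy w (mem_sup_right (mem_zpowers w)))
      (by simpa using u1) (y • e) (by rw [mul_smul, mul_smul, inv_smul_smul, ue])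
    rwa [mul_smul, mul_smul, inv_smul_smul, smul_left_cancel_iff] at this
  rcases dih hs hs' h2 h2' with h | ⟨z, hz, z1, z2, c, c'⟩
  · exact h
  · exact absurd (key z hz s' hs' z1 z2 h2' c'.symm (key s hs z hz h1 h2 z2 c he)) he'

end Dih

variable {G : Type u} [Group G] [Finite G]

omit [Finite G] in
/-- Counting with a commutator map onto a central subgroup. -/
theorem card_comm {A P : Subgroup G} {s : G} (hm : ∀ v ∈ A, s * v * s⁻¹ * v⁻¹ ∈ P)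
    (hc : ∀ v ∈ A, ∀ p ∈ P, Commute v p) (hs : ∀ p ∈ P, ∃ v ∈ A, s * v * s⁻¹ * v⁻¹ = p) :
    Nat.card A = Nat.card ↥(A ⊓ centralizer {s}) * Nat.card P := by
  let ψ : A →* P := MonoidHom.mk' (fun v => ⟨s * v * s⁻¹ * (v : G)⁻¹, hm v v.2⟩) (fun v w => by
    ext
    have := (hc v v.2 _ (hm w w.2)).inv_left.eq
    simp only [coe_mul, MulMemClass.mk_mul_mk]
    rw [mul_assoc (s * v * s⁻¹), this]
    group)
  have h1 : ψ.range = ⊤ := by
    rw [eq_top_iff]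
    rintro ⟨p, hp⟩ -
    obtain ⟨v, hv, rfl⟩ := hs p hp
    exact ⟨⟨v, hv⟩, rfl⟩
  have h2 : ψ.ker = (centralizer {s}).subgroupOf A := by
    ext v
    rw [MonoidHom.mem_ker, mem_subgroupOf, mem_centralizer_singleton_iff, Subtype.ext_iff]
    show s * v * s⁻¹ * (v : G)⁻¹ = 1 ↔ _
    rw [mul_inv_eq_one, mul_inv_eq_iff_eq_mul, eq_comm]
  have h3 := ψ.ker.card_mul_index
  rw [index_ker, h1, card_top, h2] at h3
  rw [← h3, inf_comm, ← subgroupOf_map_subtype, card_map_of_injective A.subtype_injective]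

/-- The facts on a Sylow subgroup that are used on both sides. -/
structure Cf (N P T : Subgroup G) : Prop where
  PT : P ≤ T
  PN : P ≤ N
  sq : ∀ p ∈ P, p * p = 1
  cen : ∀ v ∈ T, ∀ p ∈ P, Commute v p
  cm : ∀ v ∈ T, ∀ w ∈ T, v * w * v⁻¹ * w⁻¹ ∈ P
  surj : ∀ s ∈ T, s ∈ N → s ∉ P → ∀ p ∈ P, ∃ v ∈ T, s * v * s⁻¹ * v⁻¹ = p

variable {N K L R P Q T P' T' : Subgroup G}

omit [Finite G] in
theorem Cf.cj (h : Cf N P T) {g : G} (hg : g ∈ 𝐍[N]) : Cf N cj(g, P) cj(g, T) where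
  PT := cj_mono g h.PT
  PN := cj_le_of_norm h.PN hg
  sq := by
    rintro _ ⟨p, hp, rfl⟩
    rw [← map_mul, h.sq p hp, map_one]
  cen := by
    rintro _ ⟨v, hv, rfl⟩ _ ⟨p, hp, rfl⟩
    exact (h.cen v hv p hp).map _
  cm := by
    rintro _ ⟨v, hv, rfl⟩ _ ⟨w, hw, rfl⟩
    exact ⟨_, h.cm v hv w hw, by simp only [map_mul, map_inv]⟩
  surj := by
    rintro _ ⟨s, hs, rfl⟩ hN hP _ ⟨p, hp, rfl⟩
    obtain ⟨v, hv, rfl⟩ := h.surj s hs (by simpa [mul_assoc] using conj_mem_of_norm' hg hN)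
      (fun e => hP ⟨s, e, rfl⟩) p hp
    exact ⟨_, ⟨v, hv, rfl⟩, by simp only [map_mul, map_inv]⟩

omit [Finite G] in
theorem Cf.card (h : Cf N P T) {s : G} (hs : s ∈ T) (hN : s ∈ N) (hP : s ∉ P) :
    Nat.card T = Nat.card ↥(T ⊓ centralizer {s}) * Nat.card P :=
  card_comm (h.cm s hs) h.cen (h.surj s hs hN hP)

omit [Finite G] in
theorem Cf.norm (h : Cf N P T) {E : Subgroup G} (h1 : P ≤ E) (h2 : E ≤ T) : T ≤ 𝐍[E] :=
  norm_of_comm_le h2 (commutator_le.2 fun v hv w hw => h1 (h.cm v hv w hw))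

omit [Finite G] in
theorem Cf.sq_comm (h : Cf N P T) {s e : G} (hs : s ∈ T) (he : e ∈ T) :
    s * s * e * (s * s)⁻¹ = e := by
  have h1 := h.cm s hs e he
  have h2 := (h.cen s hs _ h1).eq
  calc s * s * e * (s * s)⁻¹ = s * (s * e * s⁻¹ * e⁻¹) * (e * s⁻¹) := by group
    _ = (s * e * s⁻¹ * e⁻¹) * (s * e * s⁻¹ * e⁻¹) * e := by rw [h2]; group
    _ = e := by rw [h.sq _ h1, one_mul]

theorem cf (h : ET N K L R P Q T) (he : ∀ p ∈ P, p * p = 1) (hn : T ⊓ N ≤ 𝐍[P ⊔ Q]) :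
    Cf N P T := by
  have PN : P ≤ N := h.sylP.le.trans h.KN
  have h1 : ∀ {s}, s ∈ T ⊓ N → s ∈ P1 N P Q T := fun hs => ⟨hs, hn hs⟩
  have cen : ∀ v ∈ T, ∀ p ∈ P, Commute v p := fun v hv p hp => by
    obtain ⟨s, hs, g, hg, rfl⟩ := h.mem_T.1 hv
    refine Commute.mul_left ?_ (h.toEV.comm (h.sylP.le hp) (h.sylQ.le hg)).symm
    by_cases hsP : s ∈ P
    · exact h.toEV.commP hsP hp
    · have := h.inverts (h1 hs) hsP hp
      rw [inv_eq_of_mul_eq_one_right (he p hp), mul_inv_eq_iff_eq_mul] at this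
      exact this
  have hN : T ≤ 𝐍[P] := norm_of_cent fun v hv => mem_cent.2 fun p hp => (cen v hv p hp).eq.symm
  have hS : T ⊓ N ≤ 𝐍[P] := inf_le_left.trans hN
  have hQ : Q ≤ 𝐍[P] := h.QT.trans hN
  have hT : T ≤ T ⊓ N ⊔ Q := fun v hv => by
    obtain ⟨s, hs, g, hg, rfl⟩ := h.mem_T.1 hv
    exact mul_mem (mem_sup_left hs) (mem_sup_right hg)
  have hSQ : ⁅T ⊓ N, Q⁆ ≤ P := commutator_le.2 fun s hs g hg => h.th_mem (h1 hs) hg
  have hTT : ⁅T ⊓ N ⊔ Q, T ⊓ N ⊔ Q⁆ ≤ P := by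
    refine sup_comm_le hS hQ (comm_sup_le hS hQ ?_ hSQ) (comm_sup_le hS hQ ?_ ?_)
    · refine commutator_le.2 fun s hs s' hs' => ?_
      have e : ⁅s, s'⁆ = (s * s') * (s * s') * (s'⁻¹ * (s * s)⁻¹ * s') * (s' * s')⁻¹ := by
        rw [commutatorElement_def]; group
      rw [e]
      exact mul_mem (mul_mem (h.sq_mem (h1 (mul_mem hs hs')))
        (conj_mem_of_norm' (hS hs') (inv_mem (h.sq_mem (h1 hs))))) (inv_mem (h.sq_mem (h1 hs')))
    · rwa [Subgroup.commutator_comm]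
    · refine commutator_le.2 fun g hg g' hg' => ?_
      rw [(h.toEV.commQ hg hg').commutator_eq]
      exact one_mem _
  exact ⟨h.PT, PN, he, cen, fun v hv w hw => hTT (commutator_mem_commutator (hT hv) (hT hw)),
    fun s hs hsN hsP p hp => by
      obtain ⟨g, hg, e⟩ := h.th_surj (h1 ⟨hs, hsN⟩) hsP hp
      exact ⟨g, h.QT hg, e⟩⟩

/-- The two-sided set-up. -/
theorem two (h : Cf N P T) (h' : Cf N P' T') (cT : Nat.card T = Nat.card T')
    (cP : Nat.card P = Nat.card P') {t : G} (ht : t ∈ T) (htP : t ∉ P) (ht' : t ∈ P')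
    (hC : T ⊓ centralizer {t} ≤ T') :
    P ≤ T' ∧ P' ≤ T ∧ (∀ s ∈ T, ∀ p ∈ P', p ∉ P → Commute s p → Commute s t) ∧
      ∃ b ∈ P, ∃ s' ∈ T', s' * b * s'⁻¹ ≠ b := by
  have hq : 0 < Nat.card P := Nat.card_pos
  have PC : P ≤ T ⊓ centralizer {t} := fun p hp =>
    ⟨h.PT hp, mem_centralizer_singleton_iff.2 (h.cen t ht p hp).eq.symm⟩
  obtain ⟨b, hb, hb'⟩ : ∃ b ∈ P, b ∉ P' := by
    by_contra! hh
    exact htP (eq_of_le_of_card_ge hh cP.ge ▸ ht')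
  have c1 := h.card ht (h'.PN ht') htP
  have c2 := h'.card (hC (PC hb)) (h.PN hb) hb'
  have e1 : T ⊓ centralizer {t} = T' ⊓ centralizer {b} := by
    refine eq_of_le_of_card_ge (fun v hv => ⟨hC hv,
      mem_centralizer_singleton_iff.2 (h.cen v hv.1 b hb).eq⟩) (le_of_eq ?_)
    rw [← cT, c1, ← cP] at c2
    exact (Nat.eq_of_mul_eq_mul_right hq c2).symm
  have P'C : P' ≤ T ⊓ centralizer {t} := e1 ▸ fun p hp =>
    ⟨h'.PT hp, mem_centralizer_singleton_iff.2 (h'.cen b (hC (PC hb)) p hp).eq.symm⟩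
  refine ⟨PC.trans hC, P'C.trans inf_le_left, fun s hs p hp hpP c => ?_, b, hb, ?_⟩
  · have c3 := h.card (P'C hp).1 (h'.PN hp) hpP
    have e2 : T ⊓ centralizer {t} = T ⊓ centralizer {p} := by
      refine eq_of_le_of_card_ge (fun v hv => ⟨hv.1,
        mem_centralizer_singleton_iff.2 (h'.cen v (hC hv) p hp).eq⟩) (le_of_eq ?_)
      rw [c1] at c3
      exact (Nat.eq_of_mul_eq_mul_right hq c3).symm
    have : s ∈ T ⊓ centralizer {t} := e2 ▸ ⟨hs, mem_centralizer_singleton_iff.2 c.eq⟩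
    exact mem_centralizer_singleton_iff.1 this.2
  · obtain ⟨v, hv, e⟩ := h'.surj b (hC (PC hb)) (h.PN hb) hb' t ht'
    refine ⟨v, hv, fun e' => htP ?_⟩
    rw [← e, show b * v * b⁻¹ * v⁻¹ = b * (v * b * v⁻¹)⁻¹ by group, e', mul_inv_cancel]
    exact one_mem _

/-- The action on `P P'`. -/
theorem act {X : Subgroup G} (h : Cf N P T) (h' : Cf N P' T') (hT : Syl 2 T X) (hT' : T' ≤ X)
    (hS : Syl 2 (T ⊓ N) N) (hX : ∀ v ∈ X, ∀ w ∈ X, v * w * v⁻¹ * w⁻¹ ∈ N)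
    {t : G} (ht' : t ∈ P') (hC : T ⊓ centralizer {t} ≤ T') (h1 : P ≤ T') (h2 : P' ≤ T)
    (h3 : ∀ s ∈ T, ∀ p ∈ P', p ∉ P → Commute s p → Commute s t)
    {b s' : G} (hb : b ∈ P) (hs' : s' ∈ T') (hne : s' * b * s'⁻¹ ≠ b)
    {g g' : G} (hg : g ∈ T) (hg' : g' ∈ T) (c : ¬ Commute g t) (c' : ¬ Commute g' t) :
    ∃ s ∈ T ⊓ N, s * t * s⁻¹ = g * g'⁻¹ * t * (g * g'⁻¹)⁻¹ := by
  set E := P ⊔ P' with hE
  have ET : E ≤ T := sup_le h.PT h2
  have ET' : E ≤ T' := sup_le h1 h'.PT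
  have nT : T ≤ 𝐍[E] := h.norm le_sup_left ET
  have nT' : T' ≤ 𝐍[E] := h'.norm le_sup_right ET'
  have tE : t ∈ E := mem_sup_right ht'
  let f := E.normalizerMonoidHom
  have fa : ∀ (x : 𝐍[E]) (e : E), ((f x • e : E) : G) = x * e * (x : G)⁻¹ := fun x e => rfl
  let bar : Subgroup G → Subgroup (MulAut E) := fun A => (A.subgroupOf 𝐍[E]).map f
  have sy : ∀ {A B : Subgroup G}, Syl 2 A B → A ≤ 𝐍[E] → Syl 2 (bar A) (bar (B ⊓ 𝐍[E])) :=
    fun hA hn => ((hA.mono (le_inf hA.le hn) inf_le_left).subgroupOf inf_le_right).map f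
  have sT := sy hT nT
  have sS := sy hS (inf_le_left.trans nT)
  have f1 : ∀ x : 𝐍[E], (x : G) ∈ T → Commute (x : G) t → f x = 1 := fun x hx cx => by
    rw [← MonoidHom.mem_ker, normalizerMonoidHom_ker, mem_subgroupOf]
    have hle : E ≤ 𝐂[T ⊓ centralizer {t}] :=
      sup_le (fun p hp => mem_cent.2 fun v hv => (h.cen v hv.1 p hp).eq)
        (fun p hp => mem_cent.2 fun v hv => (h'.cen v (hC hv) p hp).eq)
    exact cent_comm hle ⟨hx, mem_centralizer_singleton_iff.2 cx.eq⟩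
  have f2 : ∀ x : 𝐍[E], ¬ Commute (x : G) t → f x ≠ 1 := fun x cx e => by
    have := fa x ⟨t, tE⟩
    rw [e, one_smul, eq_mul_inv_iff_mul_eq] at this
    exact cx this.symm
  have f3 : ∀ x : 𝐍[E], (∀ e ∈ E, (x : G) * x * e * ((x : G) * x)⁻¹ = e) → f x * f x = 1 :=
    fun x hx => by
      rw [← map_mul]
      ext e
      exact (fa (x * x) e).trans (hx e e.2)
  have f4 : ∀ x : 𝐍[E], (x : G) ∈ T → ∀ e : E, (e : G) ∈ P → f x • e = e := fun x hx e he => by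
    ext
    rw [fa, (h.cen _ hx _ he).eq, mul_inv_cancel_right]
  have hF : ∀ u ∈ bar T, ∀ w ∈ bar T, u ≠ 1 → ∀ e : E, u • e = e → w • e = e := by
    rintro _ ⟨x, hx, rfl⟩ _ ⟨w, hw, rfl⟩ x1 e xe
    refine f4 w hw e ?_
    obtain ⟨p, hp, p', hp', e1⟩ := (mem_sup_norm (norm_of_cent fun v hv =>
      mem_cent.2 fun p hp => (h.cen v (h2 hv) p hp).eq.symm)).1 e.2
    by_cases hpP : p' ∈ P
    · exact e1 ▸ mul_mem hp hpP
    refine absurd (f1 x hx (h3 _ hx p' hp' hpP ?_)) x1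
    have e2 : Commute (x : G) e := by
      have := fa x e
      rw [xe, eq_mul_inv_iff_mul_eq] at this
      exact this.symm
    rw [← e1] at e2
    simpa using (h.cen _ hx _ (inv_mem hp)).mul_right e2
  have cj' : ∀ {x : G} (hx : x ∈ T), ¬ Commute x t → ∃ y ∈ bar (X ⊓ 𝐍[E]),
      y * f ⟨x, nT hx⟩ * y⁻¹ = f ⟨s', nT' hs'⟩ := fun {x} hx cx =>
    conj_of_fix sT hF (e := (⟨b, mem_sup_left hb⟩ : E)) ⟨_, ⟨hT.le hx, nT hx⟩, rfl⟩
      ⟨_, ⟨hT' hs', nT' hs'⟩, rfl⟩ (f2 _ cx) (f3 _ fun e he => h.sq_comm hx (ET he))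
      (f3 _ fun e he => h'.sq_comm hs' (ET' he)) (f4 _ hx _ hb)
      (fun e => hne ((fa _ _).symm.trans (congrArg Subtype.val e)))
  obtain ⟨_, ⟨y, hy, rfl⟩, e1⟩ := cj' hg c
  obtain ⟨_, ⟨y', hy', rfl⟩, e2⟩ := cj' hg' c'
  have mN : ∀ x : 𝐍[E], (x : G) ∈ N → x ∈ (N ⊓ 𝐍[E]).subgroupOf 𝐍[E] := fun x hx => ⟨hx, x.2⟩
  have m1 : f ⟨g * g'⁻¹, nT (mul_mem hg (inv_mem hg'))⟩ ∈ bar T ⊓ bar (N ⊓ 𝐍[E]) := by
    refine ⟨⟨_, show g * g'⁻¹ ∈ T from mul_mem hg (inv_mem hg'), rfl⟩, ?_⟩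
    refine ⟨y⁻¹ * y' * (⟨g', nT hg'⟩ : 𝐍[E]) * (y⁻¹ * y')⁻¹ * (⟨g', nT hg'⟩ : 𝐍[E])⁻¹,
      mN _ (hX _ (mul_mem (inv_mem hy.1) hy'.1) _ (hT.le hg')), ?_⟩
    have e3 : f ⟨g, nT hg⟩ = (f y)⁻¹ * (f y' * f ⟨g', nT hg'⟩ * (f y')⁻¹) * f y := by
      rw [e2, ← e1]; group
    rw [show (⟨g * g'⁻¹, nT (mul_mem hg (inv_mem hg'))⟩ : 𝐍[E]) =
      ⟨g, nT hg⟩ * (⟨g', nT hg'⟩ : 𝐍[E])⁻¹ from rfl]
    simp only [map_mul, map_inv, e3]
    group
  obtain ⟨s, hs, e⟩ := sS.ge_of_le (sT.pg.to_le inf_le_left)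
    (le_inf (map_mono (comap_mono inf_le_left)) sS.le) inf_le_right m1
  refine ⟨s, hs, ?_⟩
  have := fa s ⟨t, tE⟩
  rw [e, fa] at this
  exact this.symm

end E6A

open E6A

variable {G : Type u} [Group G] [Finite G] {N K L R P Q T : Subgroup G}

theorem ET.closed (h : ET N K L R P Q T) (he : ∀ p ∈ P, p * p = 1) (h4 : 4 ≤ Nat.card P)
    (hn : T ⊓ N ≤ 𝐍[P ⊔ Q]) {a n : G} (ha : a ∈ P) (hN : n ∈ N) (hT : n * a * n⁻¹ ∈ T) :
    n * a * n⁻¹ ∈ P := by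
  by_contra htP
  have c := cf h he hn
  obtain ⟨k, hk, e, hC⟩ := syl_ext h.sylT (h.PT ha) (fun s hs => c.cen s hs a ha)
    (mem_sup_left hN) hT
  set t := n * a * n⁻¹ with ht
  have c' := c.cj (h.toEV.X_norm (inv_mem hk))
  have ht' : t ∈ cj(k⁻¹, P) := by rw [mem_cj, inv_inv, e]; exact ha
  have hC' : T ⊓ centralizer {t} ≤ cj(k⁻¹, T) := fun s hs => by
    rw [mem_cj, inv_inv]
    exact hC s hs.1 (mem_centralizer_singleton_iff.1 hs.2)
  have tS : t ∈ T ⊓ N := ⟨hT, c'.PN ht'⟩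
  obtain ⟨h1, h2, h3, b, hb, s', hs', hne⟩ :=
    two c c' (card_cj _ _).symm (card_cj _ _).symm hT htP ht' hC'
  have key : ∀ g ∈ Q, ∃ s ∈ T ⊓ N, s * t * s⁻¹ = g * t * g⁻¹ := fun g hg => by
    obtain ⟨g', hg', n1, n2⟩ : ∃ g' ∈ Q, g' ≠ 1 ∧ g * g' ≠ 1 := by
      by_contra! hh
      have : (Q : Set G) ⊆ {1, g⁻¹} := fun x hx => by
        by_cases x1 : x = 1
        · exact Or.inl x1
        · exact Or.inr (eq_inv_of_mul_eq_one_right (hh x hx x1))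
      have h5 := (Set.ncard_le_ncard this).trans (Set.ncard_insert_le _ _)
      rw [Set.ncard_singleton] at h5
      rw [h.toEV.card_PQ] at h4
      have : Nat.card Q = (Q : Set G).ncard := rfl
      omega
    have nc : ∀ x ∈ Q, x ≠ 1 → ¬ Commute x t := fun x hx x1 cx =>
      htP ((h.cenT hx x1 tS).1 cx.symm)
    simpa using act c c' h.sylT (cj_le_of_mem h.sylT.le (inv_mem hk)) h.sylN
      (fun v hv w hw => h.toEV.comm_mem hv hw) ht' hC' h1 h2 h3 hb hs' hne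
      (h.QT (mul_mem hg hg')) (h.QT hg') (nc _ (mul_mem hg hg') n2) (nc _ hg' n1)
  have c1 := card_comm (A := T ⊓ N) (s := t) (fun v hv => c.cm t hT v hv.1)
    (fun v hv => c.cen v hv.1) (fun p hp => by
      obtain ⟨g, hg, rfl⟩ := h.th_surj ⟨tS, hn tS⟩ htP hp
      obtain ⟨s, hs, e⟩ := key g hg
      refine ⟨s, hs, ?_⟩
      calc t * s * t⁻¹ * s⁻¹ = t * (s * t * s⁻¹)⁻¹ := by group
        _ = _ := by rw [e]; group)
  have c2 : Nat.card P < Nat.card ↥(T ⊓ N ⊓ centralizer {t}) := by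
    have hle : P ≤ T ⊓ N ⊓ centralizer {t} := fun p hp =>
      ⟨⟨c.PT hp, c.PN hp⟩, mem_centralizer_singleton_iff.2 (c.cen t hT p hp).eq.symm⟩
    by_contra! hh
    exact htP (eq_of_le_of_card_ge hle hh ▸ ⟨tS, mem_centralizer_singleton_iff.2 rfl⟩)
  have c3 := (card_le_of_le (le_inf le_rfl hn)).trans h.card_P1_le
  rw [c1, sq] at c3
  exact absurd (Nat.le_of_mul_le_mul_right c3 (by omega)) (by omega)

end Cfsg.Agent.OT
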