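import Mathlib

/-!
# A 2-group with an abelian transitive group of automorphisms on a central elementary subgroup
-/

set_option autoImplicit false

namespace Cfsg.Agent.OT.E6

open Subgroup

/-- The abstract configuration. -/
structure AH {T A : Type*} [Group T] [CommGroup A] (π : T →* A) (P S : Subgroup T)
    (E0 : Subgroup (MulAut T)) (E : Set (MulAut T)) (g : T) : Prop where
  ker : ∀ t, π t = 1 ↔ t ∈ P
  PS : P ≤ S
  cen : ∀ p ∈ P, ∀ t, Commute p t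
  sq : ∀ t, t * t ∈ P
  el : ∀ p ∈ P, p * p = 1
  om : ∀ u ∈ S, u * u = 1 → u ∈ P
  card : Nat.card S ≤ Nat.card P ^ 2
  three : 3 ≤ Nat.card P
  cg : ∀ s ∈ S, Commute s g → s ∈ P
  tr0 : ∀ e ∈ E0, ∀ t, e t * t⁻¹ ∈ S
  odd : ∀ e ∈ E0, ∃ m, Odd m ∧ ∀ t, π ((e ^ m) t) = π t
  sub : ∀ e ∈ E, e ∈ E0
  cm : ∀ e ∈ E, ∀ e' ∈ E, ∀ p ∈ P, e (e' p) = e' (e p)
  tr : ∀ a ∈ P, ∀ a' ∈ P, a ≠ 1 → a' ≠ 1 → ∃ e ∈ E, e a = a'

namespace AH

variable {T A : Type*} [Group T] [CommGroup A] {π : T →* A} {P S : Subgroup T}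
  {E0 : Subgroup (MulAut T)} {E : Set (MulAut T)} {g : T} (h : AH π P S E0 E g)
include h

theorem eqv {x y : T} : π x = π y ↔ x * y⁻¹ ∈ P := by
  rw [← h.ker, map_mul, map_inv, mul_inv_eq_one]

theorem two (x : T) : π x * π x = 1 := by rw [← map_mul, h.ker]; exact h.sq x

theorem inv_eq (x : T) : (π x)⁻¹ = π x := inv_eq_of_mul_eq_one_right (h.two x)

theorem eS {e : MulAut T} (he : e ∈ E0) {s : T} (hs : s ∈ S) : e s ∈ S := by
  simpa using mul_mem (h.tr0 e he s) hs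

theorem eP {e : MulAut T} (he : e ∈ E0) {p : T} (hp : p ∈ P) : e p ∈ P :=
  h.om _ (h.eS he (h.PS hp)) (by rw [← map_mul, h.el p hp, map_one])

theorem econgr {e : MulAut T} (he : e ∈ E0) {x y : T} (e1 : π x = π y) : π (e x) = π (e y) := by
  rw [h.eqv] at e1 ⊢
  simpa using h.eP he e1

theorem sq_congr {x y : T} (e1 : π x = π y) : x * x = y * y := by
  rw [h.eqv] at e1
  have c := (h.cen _ e1 y).eq
  have d := h.el _ e1
  generalize hp : x * y⁻¹ = p at c d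
  obtain rfl : x = p * y := by rw [← hp]; group
  calc p * y * (p * y) = p * (y * p) * y := by group
    _ = y * y := by rw [← c, ← mul_assoc, d, one_mul]

theorem comm_congr (s : T) {x y : T} (e1 : π x = π y) :
    s * x * s⁻¹ * x⁻¹ = s * y * s⁻¹ * y⁻¹ := by
  rw [h.eqv] at e1
  have c := (h.cen _ e1 s).eq
  have c' := (h.cen _ e1 (s * y * s⁻¹ * y⁻¹)).eq
  generalize hp : x * y⁻¹ = p at c c'
  obtain rfl : x = p * y := by rw [← hp]; group
  calc s * (p * y) * s⁻¹ * (p * y)⁻¹ = (s * p) * y * s⁻¹ * y⁻¹ * p⁻¹ := by group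
    _ = p * (s * y * s⁻¹ * y⁻¹) * p⁻¹ := by rw [← c]; group
    _ = _ := by rw [c']; group

theorem comm_congr' (s : T) {x y : T} (e1 : π x = π y) :
    x * s * x⁻¹ * s⁻¹ = y * s * y⁻¹ * s⁻¹ := by
  have := congrArg (·⁻¹) (h.comm_congr s e1)
  simpa [mul_assoc] using this

theorem comm_mem (x y : T) : x * y * x⁻¹ * y⁻¹ ∈ P := by
  rw [← h.ker]; simp [mul_comm (π x)]

theorem comm_mul (x y z : T) :
    x * y * z * (x * y)⁻¹ * z⁻¹ = (x * z * x⁻¹ * z⁻¹) * (y * z * y⁻¹ * z⁻¹) := by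
  have c := (h.cen _ (h.comm_mem y z) x).eq
  have c' := (h.cen _ (h.comm_mem y z) (x * z * x⁻¹ * z⁻¹)).eq
  calc x * y * z * (x * y)⁻¹ * z⁻¹ = x * (y * z * y⁻¹ * z⁻¹) * z * x⁻¹ * z⁻¹ := by group
    _ = (y * z * y⁻¹ * z⁻¹) * (x * z * x⁻¹ * z⁻¹) := by rw [← c]; group
    _ = _ := c'

theorem sq_surj {s1 : T} (hs : s1 ∈ S) (hP : s1 ∉ P) {a : T} (ha : a ∈ P) :
    ∃ s ∈ S, s * s = a := by
  by_cases h1 : a = 1
  · exact ⟨1, one_mem _, by simp [h1]⟩
  obtain ⟨e, he, e1⟩ := h.tr _ (h.sq s1) a ha (fun e => hP (h.om _ hs e)) h1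
  exact ⟨e s1, h.eS (h.sub e he) hs, by rw [← map_mul, e1]⟩

variable [Finite T]

theorem sq_inj {s1 : T} (hs : s1 ∈ S) (hP : s1 ∉ P) {s s' : T} (h1 : s ∈ S) (h2 : s' ∈ S)
    (e : s * s = s' * s') : π s = π s' := by
  choose! r hr1 hr2 using fun a (ha : a ∈ P) => h.sq_surj hs hP ha
  let f : P × P → S := fun x => ⟨x.2 * r x.1, mul_mem (h.PS x.2.2) (hr1 _ x.1.2)⟩
  have hπ : ∀ x : P × P, π (f x : T) = π (r x.1) := fun x => by
    simp [f, (h.ker _).2 x.2.2]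
  have hsq : ∀ x : P × P, (f x : T) * f x = x.1 := fun x => by
    rw [h.sq_congr (hπ x), hr2 _ x.1.2]
  have hi : Function.Injective f := fun x y e => by
    have e1 : x.1 = y.1 := Subtype.ext (by rw [← hsq, ← hsq, e])
    have e2 := congrArg Subtype.val e
    simp only [f, e1, mul_left_inj] at e2
    exact Prod.ext e1 (Subtype.ext e2)
  have hb := (Nat.bijective_iff_injective_and_card f).2 ⟨hi, le_antisymm
    (Nat.card_le_card_of_injective f hi) (by rw [Nat.card_prod, ← pow_two]; exact h.card)⟩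
  obtain ⟨x, hx⟩ := hb.2 ⟨s, h1⟩
  obtain ⟨y, hy⟩ := hb.2 ⟨s', h2⟩
  have a1 := hπ x
  have a2 := hπ y
  have b1 := hsq x
  have b2 := hsq y
  rw [hx] at a1 b1
  rw [hy] at a2 b2
  rw [a1, a2, ← b1, ← b2]
  exact congrArg (fun z => π (r z)) e

theorem triv {s1 : T} (hs : s1 ∈ S) (hP : s1 ∉ P) {e : MulAut T} (he : e ∈ E0)
    (hc : ∀ p ∈ P, e p = p) (t : T) : π (e t) = π t := by
  have a1 : ∀ s ∈ S, π (e s) = π s := fun s h1 =>
    h.sq_inj hs hP (h.eS he h1) h1 (by rw [← map_mul, hc _ (h.sq s)])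
  have a2 : ∀ t, π (e (e t)) = π t := fun t => by
    have b := a1 _ (h.tr0 e he t)
    simp only [map_mul, map_inv] at b
    rw [mul_inv_eq_iff_eq_mul] at b
    rw [b, mul_right_comm, h.two, one_mul, h.inv_eq]
  have a3 : ∀ k : ℕ, ∀ t, π ((e ^ (2 * k)) t) = π t := fun k => by
    induction k with
    | zero => simp
    | succ k ih =>
      intro t
      rw [mul_add, pow_add, MulAut.mul_apply, ih, mul_one, pow_two, MulAut.mul_apply, a2]
  obtain ⟨m, ⟨k, rfl⟩, hm⟩ := h.odd e he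
  rw [← hm t, pow_succ, MulAut.mul_apply, a3]

omit [Finite T] in
theorem fpf {e : MulAut T} (he : e ∈ E) {a : T} (ha : a ∈ P) (hne : e a ≠ a) {s : T}
    (h1 : s ∈ S) (e1 : π (e s) = π s) : s ∈ P := by
  refine h.om s h1 (by_contra fun h2 => hne ?_)
  have a1 : a ≠ 1 := by rintro rfl; simp at hne
  obtain ⟨k, hk, rfl⟩ := h.tr _ (h.sq s) a ha h2 a1
  rw [h.cm e he k hk _ (h.sq s), map_mul e, h.sq_congr e1]

theorem exists_fix {s1 : T} (hs : s1 ∈ S) (hP : s1 ∉ P) {e : MulAut T} (he : e ∈ E) {a : T}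
    (ha : a ∈ P) (hne : e a ≠ a) : ∃ t ∈ S, π (e (t * g)) = π (t * g) := by
  have he0 := h.sub e he
  choose! r hr1 hr2 using fun a (ha : a ∈ P) => h.sq_surj hs hP ha
  let f : P → P := fun x => ⟨(e (r x) * (r x)⁻¹) * (e (r x) * (r x)⁻¹), h.sq _⟩
  have hi : Function.Injective f := fun x y e1 => by
    have e2 := h.sq_inj hs hP (h.tr0 e he0 _) (h.tr0 e he0 _) (congrArg Subtype.val e1)
    have e3 := h.fpf he ha hne (mul_mem (hr1 _ x.2) (inv_mem (hr1 _ y.2))) (by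
      simp only [map_mul, map_inv] at e2 ⊢
      rw [mul_inv_eq_iff_eq_mul] at e2
      rw [e2, mul_assoc (π (e _)), mul_inv_cancel_comm, mul_comm])
    apply Subtype.ext
    rw [← hr2 _ x.2, ← hr2 _ y.2, h.sq_congr (h.eqv.2 e3)]
  obtain ⟨x, hx⟩ := Finite.surjective_of_injective hi ⟨_, h.sq (e g * g⁻¹)⟩
  have e2 := h.sq_inj hs hP (h.tr0 e he0 _) (h.tr0 e he0 _) (congrArg Subtype.val hx)
  refine ⟨r x, hr1 _ x.2, ?_⟩
  simp only [map_mul, map_inv] at e2 ⊢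
  rw [mul_inv_eq_iff_eq_mul] at e2
  rw [e2, h.inv_eq]
  calc π (e g) * π g * π (r x) * π (e g) = π (e g) * π (e g) * (π (r x) * π g) := by
        simp [mul_comm, mul_left_comm]
    _ = _ := by rw [h.two, one_mul]

theorem exists_move : ∃ e ∈ E, ∃ a ∈ P, e a ≠ a := by
  classical
  have : Nontrivial {p : P // p ≠ 1} := by
    rw [← Finite.one_lt_card_iff_nontrivial]
    have := Nat.card_congr (Equiv.optionSubtypeNe (1 : P))
    rw [Finite.card_option] at this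
    have := h.three
    omega
  obtain ⟨⟨a, ha⟩, ⟨b, hb⟩, hne⟩ := exists_pair_ne {p : P // p ≠ 1}
  obtain ⟨e, he, e1⟩ := h.tr a a.2 b b.2 (by simpa using ha) (by simpa using hb)
  exact ⟨e, he, a, a.2, fun e2 => hne (Subtype.ext (Subtype.ext (e2.symm.trans e1)))⟩

theorem comm {s s' : T} (h1 : s ∈ S) (h2 : s' ∈ S) : Commute s s' := by
  by_cases hSP : S ≤ P
  · exact h.cen _ (hSP h1) _
  obtain ⟨s1, hs, hP⟩ := SetLike.not_le_iff_exists.1 hSP
  obtain ⟨e, he, a, ha, hne⟩ := h.exists_move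
  have he0 := h.sub e he
  obtain ⟨t, ht, hfix⟩ := h.exists_fix hs hP he ha hne
  set c := t * g with hc
  have hall : ∀ k ∈ E, π (k c) = π c := fun k hk => by
    have hk0 := h.sub k hk
    have b1 := h.triv hs hP (mul_mem (mul_mem (mul_mem (inv_mem hk0) he0) hk0) (inv_mem he0))
      (fun p hp => by
        simp only [MulAut.mul_apply]
        rw [h.cm e he k hk _ (h.eP (inv_mem he0) hp)]
        simp) (e c)
    have b2 := h.econgr hk0 (b1.trans hfix)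
    simp only [MulAut.mul_apply, MulAut.inv_apply_self, MulAut.apply_inv_self] at b2
    refine h.eqv.2 (h.fpf he ha hne (h.tr0 k hk0 c) ?_)
    simp only [map_mul, map_inv, b2, hfix]
  have hψ : ∀ k ∈ E, ∀ x, k x * c * (k x)⁻¹ * c⁻¹ = k (x * c * x⁻¹ * c⁻¹) := fun k hk x => by
    rw [← h.comm_congr _ (hall k hk)]; simp
  obtain ⟨s0, hs0, hn⟩ : ∃ s0 ∈ S, s0 * c * s0⁻¹ * c⁻¹ ≠ 1 := by
    by_contra! hh
    have b : ∀ x ∈ S, Commute x c := fun x hx => by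
      have := hh x hx
      rwa [mul_inv_eq_one, mul_inv_eq_iff_eq_mul] at this
    have b1 : t ∈ P := h.cg t ht (by simpa [hc] using (Commute.refl t).inv_right.mul_right (b t ht))
    exact hP (h.cg s1 hs (by simpa [hc] using (h.cen t b1 s1).symm.inv_right.mul_right (b s1 hs)))
  have hs0P : s0 ∉ P := fun hp => hn (by rw [(h.cen _ hp c).eq]; group)
  have hs0' : s0 * s0 ≠ 1 := fun e => hs0P (h.om _ hs0 e)
  obtain ⟨k0, hk0, e0⟩ := h.tr _ (h.comm_mem s0 c) _ (h.sq s0) hn hs0'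
  have key : ∀ x ∈ S, x * x = k0 (x * c * x⁻¹ * c⁻¹) := fun x hx => by
    by_cases hxP : x ∈ P
    · rw [h.el x hxP, (h.cen _ hxP c).eq]; simp
    obtain ⟨k, hk, e1⟩ := h.tr _ (h.sq s0) _ (h.sq x) hs0' (fun e => hxP (h.om _ hx e))
    have e2 := h.sq_inj hs hP (h.eS (h.sub k hk) hs0) hx (by rw [← map_mul, e1])
    rw [← h.comm_congr' c e2, hψ k hk, h.cm k0 hk0 k hk _ (h.comm_mem s0 c), e0, e1]
  have := key _ (mul_mem h1 h2)
  rw [h.comm_mul, map_mul, ← key _ h1, ← key _ h2] at this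
  have e3 : s * (s' * s) * s' = s * (s * s') * s' := by simpa [mul_assoc] using this
  exact (mul_left_cancel (mul_right_cancel e3)).symm

end AH

end Cfsg.Agent.OT.E6
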