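import Mathlib
import Cfsg.Agent.OT.EB
import Cfsg.Agent.OT.E6CA

set_option autoImplicit false

namespace Cfsg.Agent.OT

open Subgroup MulAction Cfsg.Agent.TT Cfsg.Agent.Perm Cfsg.Agent.Perm.TT Cfsg.Agent.Loc.Mss
open Cfsg.Agent.Perm.TwoCount Cfsg.Agent.Perm.RankOne

universe u v

variable {G : Type u} [Group G] [Finite G] {N K L R P Q T : Subgroup G}

namespace E6

theorem odd_part (x : G) : ∃ m, Odd m ∧ IsPGroup 2 (zpowers (x ^ m)) := by
  obtain ⟨k, m, hm, e⟩ := Nat.exists_eq_two_pow_mul_odd (orderOf_pos x).ne'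
  refine ⟨m, hm, pg_iff.2 ?_⟩
  rintro _ ⟨i, rfl⟩
  refine ⟨k, ?_⟩
  simp only
  rw [← zpow_natCast, ← zpow_mul, mul_comm, zpow_mul, zpow_natCast, ← pow_mul, mul_comm, ← e,
    pow_orderOf_eq_one, one_zpow]

omit [Finite G] in
theorem PN (h : ET N K L R P Q T) : P ≤ N := h.sylP.le.trans h.KN

omit [Finite G] in
theorem PS (h : ET N K L R P Q T) : P ≤ T ⊓ N := le_inf h.PT (PN h)

omit [Finite G] in
theorem exists_g (h : ET N K L R P Q T) : ∃ g ∈ Q, g ≠ 1 := by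
  obtain ⟨g, hg⟩ := (Subgroup.ne_bot_iff_exists_ne_one).1 h.Q1
  exact ⟨g, g.2, fun e => hg (Subtype.ext e)⟩

variable (h : ET N K L R P Q T) (he : ∀ p ∈ P, p * p = 1) (hn : T ⊓ N ≤ 𝐍[P ⊔ Q])
include h he hn

theorem cenP {p t : G} (hp : p ∈ P) (ht : t ∈ T) : Commute p t := by
  obtain ⟨s, hs, g, hg, rfl⟩ := h.mem_T.1 ht
  refine Commute.mul_right ?_ (h.comm (h.sylP.le hp) (h.sylQ.le hg))
  by_cases hsP : s ∈ P
  · exact h.commP hp hsP
  have := h.inverts ⟨hs, hn hs⟩ hsP hp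
  rw [inv_eq_of_mul_eq_one_right (he p hp), mul_inv_eq_iff_eq_mul] at this
  exact this.symm

theorem sqQ (hne : ¬ T ⊓ N ≤ P) {g : G} (hg : g ∈ Q) : g * g = 1 := by
  obtain ⟨t, ht, htP⟩ := SetLike.not_le_iff_exists.1 hne
  by_contra h1
  refine htP ((h.cenT (mul_mem hg hg) h1 ht).1 ?_)
  have a := h.th_mem ⟨ht, hn ht⟩ hg
  have c := (cenP h he hn a (h.QT hg)).eq
  have d := he _ a
  generalize hp : t * g * t⁻¹ * g⁻¹ = p at c d
  have e : t * g * t⁻¹ = p * g := by rw [← hp]; group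
  have : t * (g * g) * t⁻¹ = g * g := by
    calc t * (g * g) * t⁻¹ = (t * g * t⁻¹) * (t * g * t⁻¹) := by group
      _ = p * (g * p) * g := by rw [e]; group
      _ = g * g := by rw [← c, ← mul_assoc, d, one_mul]
  rwa [mul_inv_eq_iff_eq_mul] at this

theorem sqT (hne : ¬ T ⊓ N ≤ P) {t : G} (ht : t ∈ T) : t * t ∈ P := by
  obtain ⟨s, hs, g, hg, rfl⟩ := h.mem_T.1 ht
  have a := h.th_mem ⟨(T ⊓ N).inv_mem hs, hn (inv_mem hs)⟩ hg
  have : s * g * (s * g) = s * s * (s⁻¹ * g * s⁻¹⁻¹ * g⁻¹) * (g * g) := by group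
  rw [this, sqQ h he hn hne hg, mul_one]
  exact mul_mem (h.sq_mem ⟨hs, hn hs⟩) a

theorem commT (hne : ¬ T ⊓ N ≤ P) {x y : G} (hx : x ∈ T) (hy : y ∈ T) :
    x * y * x⁻¹ * y⁻¹ ∈ P := by
  have : x * y * x⁻¹ * y⁻¹ = x * x * (x⁻¹ * y * (x⁻¹ * y)) * (y * y)⁻¹ := by group
  rw [this]
  exact mul_mem (mul_mem (sqT h he hn hne hx) (sqT h he hn hne (mul_mem (inv_mem hx) hy)))
    (inv_mem (sqT h he hn hne hy))

theorem exists_e (hΩ : ∀ u ∈ T ⊓ N, u * u = 1 → u ∈ P) {k : G} (hk : k ∈ N)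
    (hkn : k ∈ 𝐍[T ⊓ N]) : (∀ p ∈ P, k * p * k⁻¹ ∈ P) ∧
      ∃ e ∈ N, e ∈ 𝐍[T] ∧ ∀ p ∈ P, e * p * e⁻¹ = k * p * k⁻¹ := by
  have a1 : ∀ p ∈ P, k * p * k⁻¹ ∈ P := fun p hp =>
    hΩ _ (conj_mem_of_norm hkn (PS h hp)) (by rw [conj_mul, he p hp]; group)
  refine ⟨a1, ?_⟩
  have kP : k ∈ 𝐍[P] := mem_norm_of_cj_le (cj_le_iff.2 a1)
  have TP : T ≤ 𝐂[P] := fun t ht => mem_cent.2 fun p hp => (cenP h he hn hp ht).eq
  have hS : Syl 2 T ((N ⊔ Q) ⊓ 𝐍[T ⊓ N] ⊓ 𝐂[P]) := h.sylT.mono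
    (le_inf (le_inf h.sylT.le (norm_inf le_normalizer (h.sylT.le.trans h.X_norm))) TP)
    (inf_le_left.trans inf_le_left)
  have hz : zpowers k ≤ 𝐍[(N ⊔ Q) ⊓ 𝐍[T ⊓ N] ⊓ 𝐂[P]] :=
    norm_inf (norm_inf (norm_of_le (zpowers_le.2 (mem_sup_left hk)))
      (norm_of_le (zpowers_le.2 hkn))) (norm_cent (zpowers_le.2 kP))
  obtain ⟨e', he', c, hc, e1⟩ := hS.frattini' (hz (mem_zpowers k))
  have hX : e' ∈ N ⊔ Q := by
    simpa [e1] using mul_mem (mem_sup_left hk : k ∈ N ⊔ Q) (inv_mem hc.1.1)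
  obtain ⟨n, hn', g, hg, e2⟩ := h.mem_X.1 hX
  refine ⟨n, hn', ?_, fun p hp => ?_⟩
  · simpa [← e2] using mul_mem he' (le_normalizer (inv_mem (h.QT hg)))
  · have b1 := mem_cent.1 hc.2 p hp
    have b2 := (cenP h he hn hp (h.QT hg)).eq
    rw [e1, ← e2]
    calc n * p * n⁻¹ = n * (p * g) * g⁻¹ * n⁻¹ := by group
      _ = n * g * (p * c) * c⁻¹ * g⁻¹ * n⁻¹ := by rw [b2]; group
      _ = _ := by rw [b1]; group

end E6

open E6 in
theorem ET.comm_of_trans (h : ET N K L R P Q T) (he : ∀ p ∈ P, p * p = 1) (h4 : 4 ≤ Nat.card P)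
    (hn : T ⊓ N ≤ 𝐍[P ⊔ Q]) (hΩ : ∀ u ∈ T ⊓ N, u * u = 1 → u ∈ P) {J : Subgroup G} (hJ : J ≤ N)
    (hJn : J ≤ 𝐍[T ⊓ N]) (hJc : ∀ k ∈ J, ∀ k' ∈ J, Commute k k')
    (htr : ∀ a ∈ P, ∀ a' ∈ P, a ≠ 1 → a' ≠ 1 → ∃ k ∈ J, k * a * k⁻¹ = a') :
    ∀ s ∈ T ⊓ N, ∀ s' ∈ T ⊓ N, Commute s s' := by
  by_cases hne : T ⊓ N ≤ P
  · exact fun s hs s' hs' => h.commP (hne hs) (hne hs')
  obtain ⟨g, hg, g1⟩ := exists_g h
  have hN : (P.subgroupOf T).Normal :=
    ⟨fun p hp t => by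
      have := (cenP h he hn (mem_subgroupOf.1 hp) t.2).eq
      rw [mem_subgroupOf] at hp ⊢
      simpa [← this] using hp⟩
  let _ : CommGroup (T ⧸ P.subgroupOf T) :=
    { (inferInstance : Group (T ⧸ P.subgroupOf T)) with
      mul_comm := fun a b => by
        induction a using QuotientGroup.induction_on with | _ a =>
        induction b using QuotientGroup.induction_on with | _ b =>
        rw [← QuotientGroup.mk_mul, ← QuotientGroup.mk_mul, QuotientGroup.eq, mem_subgroupOf]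
        simpa [mul_assoc] using commT h he hn hne (inv_mem b.2) (inv_mem a.2) }
  have hφ : ∀ (e : 𝐍[T]) (t : T), (T.normalizerMonoidHom e t : G) = e * t * (e : G)⁻¹ :=
    fun _ _ => rfl
  have H : AH (QuotientGroup.mk' (P.subgroupOf T)) (P.subgroupOf T) ((T ⊓ N).subgroupOf T)
      ((N.subgroupOf 𝐍[T]).map T.normalizerMonoidHom)
      {φ | ∃ e : 𝐍[T], (e : G) ∈ N ∧ T.normalizerMonoidHom e = φ ∧
        ∃ k ∈ J, ∀ p ∈ P, e * p * (e : G)⁻¹ = k * p * k⁻¹} ⟨g, h.QT hg⟩ :=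
    { ker := fun t => QuotientGroup.eq_one_iff t
      PS := fun p hp => PS h hp
      cen := fun p hp t => Subtype.ext (cenP h he hn hp t.2).eq
      sq := fun t => sqT h he hn hne t.2
      el := fun p hp => Subtype.ext (he p hp)
      om := fun u hu e => hΩ u hu (congrArg Subtype.val e)
      card := by
        rw [Nat.card_congr (subgroupOfEquivOfLe inf_le_left).toEquiv,
          Nat.card_congr (subgroupOfEquivOfLe h.PT).toEquiv]
        exact (card_le_of_le (le_inf le_rfl hn)).trans h.card_P1_le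
      three := by
        rw [Nat.card_congr (subgroupOfEquivOfLe h.PT).toEquiv]; omega
      cg := fun s hs c => (h.cenT hg g1 hs).1 (congrArg Subtype.val c.eq)
      tr0 := by
        rintro _ ⟨e, he', rfl⟩ t
        refine ⟨(T.normalizerMonoidHom e t * t⁻¹).2, ?_⟩
        exact h.comm_mem (mem_sup_left he') (h.sylT.le t.2)
      odd := by
        rintro _ ⟨e, he', rfl⟩
        obtain ⟨m, hm, hp⟩ := odd_part (e : G)
        refine ⟨m, hm, fun t => ?_⟩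
        have a : (e : G) ^ m ∈ T := h.sylT.le_of_norm' hp
          (zpowers_le.2 (pow_mem (mem_sup_left (mem_subgroupOf.1 he')) m)) (zpowers_le.2 (pow_mem e.2 m))
          (mem_zpowers _)
        have : (T.normalizerMonoidHom e ^ m) t = ⟨_, a⟩ * t * ⟨_, a⟩⁻¹ := by
          rw [← map_pow]; exact Subtype.ext (hφ _ _)
        rw [this, map_mul, map_mul, map_inv, mul_inv_cancel_comm]
      sub := by
        rintro _ ⟨e, he', rfl, -⟩
        exact ⟨e, he', rfl⟩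
      cm := by
        rintro _ ⟨e, -, rfl, k, hk, e1⟩ _ ⟨e', -, rfl, k', hk', e2⟩ p hp
        have a1 := (exists_e h he hn hΩ (hJ hk) (hJn hk)).1 p hp
        have a2 := (exists_e h he hn hΩ (hJ hk') (hJn hk')).1 p hp
        apply Subtype.ext
        rw [hφ, hφ, hφ, hφ, e1 p hp, e2 p hp, e1 _ a2, e2 _ a1]
        calc k * (k' * p * k'⁻¹) * k⁻¹ = (k * k') * p * (k * k')⁻¹ := by group
          _ = _ := by rw [(hJc k hk k' hk').eq]; group
      tr := fun a ha a' ha' h1 h2 => by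
        obtain ⟨k, hk, e1⟩ := htr a ha a' ha' (by simpa using h1) (by simpa using h2)
        obtain ⟨e, he1, he2, e2⟩ := (exists_e h he hn hΩ (hJ hk) (hJn hk)).2
        exact ⟨_, ⟨⟨e, he2⟩, he1, rfl, k, hk, e2⟩, Subtype.ext ((e2 a ha).trans e1)⟩ }
  intro s hs s' hs'
  exact congrArg Subtype.val (H.comm (s := ⟨s, hs.1⟩) (s' := ⟨s', hs'.1⟩) hs hs').eq

end Cfsg.Agent.OT
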