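import Mathlib
import Cfsg.Agent.OT.Basic
import Cfsg.Agent.GT.FrobeniusFpf
import Cfsg.Agent.FT.BG1_6

/-!
# The solvable configuration
-/

set_option autoImplicit false

namespace Cfsg.Agent.OT

open Subgroup MulAction Cfsg.Agent.TT Cfsg.Agent.Perm Cfsg.Agent.Perm.TT Cfsg.Agent.Loc.Mss
open Cfsg.Agent.Perm.TwoCount Cfsg.Agent.Perm.RankOne

universe u v

namespace O2

section Gen

variable {G : Type u} [Group G] [Finite G] {p : ℕ}

theorem eq_one_of_pow (hp : p.Prime) {R : Subgroup G} (hR : ¬ p ∣ Nat.card R) {r : G}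
    (hr : r ∈ R) {k : ℕ} (e : r ^ p ^ k = 1) : r = 1 := by
  have h1 : orderOf r ∣ p ^ k := orderOf_dvd_of_pow_eq_one e
  have h2 : orderOf r ∣ Nat.card R := R.orderOf_dvd_natCard hr
  have h3 : (p ^ k).Coprime (Nat.card R) := ((hp.coprime_iff_not_dvd).2 hR).pow_left k
  exact orderOf_eq_one_iff.1 (Nat.eq_one_of_dvd_coprimes h3 h1 h2)

theorem eq_zpowers (hp : p.Prime) {K : Subgroup G} (hK : Nat.card K = p) {a : G} (ha : a ∈ K)
    (h1 : a ≠ 1) : zpowers a = K := by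
  have h2 : orderOf a ∣ p := hK ▸ K.orderOf_dvd_natCard ha
  refine eq_of_le_of_card_ge (zpowers_le.2 ha) ?_
  rw [Nat.card_zpowers, hK]
  rcases (Nat.dvd_prime hp).1 h2 with e | e
  · exact absurd (orderOf_eq_one_iff.1 e) h1
  · exact e.ge

theorem exists_pow (hp : p.Prime) {K : Subgroup G} (hK : Nat.card K = p) {a k : G} (ha : a ∈ K)
    (h1 : a ≠ 1) (hk : k ∈ K) : ∃ i : ℕ, a ^ i = k := by
  rw [← eq_zpowers hp hK ha h1, ← mem_powers_iff_mem_zpowers] at hk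
  exact hk

omit [Finite G] in
theorem commute_of_conj (hp : p.Prime) {a k : G} (ha : a ^ p = 1) (hk : k ^ p = 1) {i : ℕ}
    (e : a * k * a⁻¹ = k ^ i) : Commute a k := by
  have h1 : ∀ n : ℕ, a ^ n * k * (a ^ n)⁻¹ = k ^ i ^ n := fun n => by
    induction n with
    | zero => simp
    | succ n ih =>
      calc a ^ (n + 1) * k * (a ^ (n + 1))⁻¹ = a ^ n * (a * k * a⁻¹) * (a ^ n)⁻¹ := by
            rw [pow_succ]; group
        _ = (a ^ n * k * (a ^ n)⁻¹) ^ i := by rw [e, conj_pow]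
        _ = k ^ i ^ (n + 1) := by rw [ih, ← pow_mul, ← pow_succ]
  have h2 := h1 p
  rw [ha, one_mul, inv_one, mul_one] at h2
  have := Fact.mk hp
  have h3 : i ^ p ≡ i [MOD p] := by
    rw [← ZMod.natCast_eq_natCast_iff]
    push_cast
    exact ZMod.pow_card _
  have h4 : k ^ i ^ p = k ^ i :=
    pow_eq_pow_iff_modEq.2 (h3.of_dvd (orderOf_dvd_of_pow_eq_one hk))
  rw [← h4, ← h2, mul_inv_eq_iff_eq_mul] at e
  exact e

omit [Finite G] in
theorem mul_pow_mod {N R : Subgroup G} (hn : N ≤ 𝐍[R])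
    (hc : ∀ a ∈ N, ∀ b ∈ N, a * b * a⁻¹ * b⁻¹ ∈ R) {a b : G} (ha : a ∈ N) (hb : b ∈ N) (k : ℕ) :
    ∃ r ∈ R, (a * b) ^ k = r * a ^ k * b ^ k := by
  induction k with
  | zero => exact ⟨1, one_mem _, by simp⟩
  | succ k ih =>
    obtain ⟨r, hr, e⟩ := ih
    refine ⟨(a * b) * r * (a * b)⁻¹ * (a * (b * a ^ k * b⁻¹ * (a ^ k)⁻¹) * a⁻¹),
      mul_mem (conj_mem_of_norm (hn (mul_mem ha hb)) hr)
        (conj_mem_of_norm (hn ha) (hc b hb _ (pow_mem ha k))), ?_⟩
    rw [pow_succ' (a * b), e, pow_succ' a, pow_succ' b]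
    group

theorem card_of_cyclic (hp : p.Prime) {L : Subgroup G} (hc : IsCyclic L)
    (he : ∀ l ∈ L, l ^ p = 1) : Nat.card L ∣ p := by
  obtain ⟨g, hg⟩ := hc.exists_generator
  rw [← orderOf_eq_card_of_forall_mem_zpowers hg]
  exact orderOf_dvd_of_pow_eq_one (Subtype.ext (he g g.2))

end Gen

variable {G : Type u} {X : Type v} [Group G] [Finite G] [MulAction G X] [Finite X]
  {N R : X → Subgroup G} {x y : X} {p : ℕ}

/-- The first consequences of solvability. -/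
structure S1 (N R : X → Subgroup G) (p : ℕ) : Prop extends Cfg N R where
  prime : p.Prime
  cop : ∀ x, ¬ p ∣ Nat.card (R x)
  cm : ∀ x, ∀ a ∈ N x, ∀ b ∈ N x, a * b * a⁻¹ * b⁻¹ ∈ R x
  pw : ∀ x, ∀ a ∈ N x, a ^ p ∈ R x

omit [Finite G] [Finite X] in
theorem exists_ne' (hxy : x ≠ y) (z : X) : ∃ w, z ≠ w := by
  by_cases e : z = x
  · exact ⟨y, e ▸ hxy⟩
  · exact ⟨x, e⟩

omit [Finite G] [Finite X] in
theorem N_le_stab (h : Fam N) (x : X) : N x ≤ stabilizer G x := fun n hn => h.le x n hn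

theorem exists_S1 (h : Cfg N R) (hxy : x ≠ y) (hs : Group.IsSolvable (N x)) :
    ∃ p, S1 N R p := by
  obtain ⟨p, hp, hd⟩ := Nat.exists_prime_and_dvd
    (show Nat.card (Kp N x y) ≠ 1 from fun e => h.nsr hxy (card_eq_one.1 e))
  have hcop : ∀ z, ¬ p ∣ Nat.card (R z) := fun z => by
    obtain ⟨w, hw⟩ := exists_ne' hxy z
    exact h.not_dvd hw hp (by rw [h.fam.card_Kp h.two hxy hw]; exact hd)
  have hcm : ∀ z, ∀ a ∈ N z, ∀ b ∈ N z, a * b * a⁻¹ * b⁻¹ ∈ R z := fun z a ha b hb => by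
    obtain ⟨w, hw⟩ := exists_ne' hxy z
    obtain ⟨g, hg⟩ := h.two.trans x z
    have e : cj(g, N x) = N z := hg ▸ h.fam.cj_eq g x
    have : Group.IsSolvable (N z) := by
      rw [← e]
      exact Group.isSolvable_of_surjective
        (f := ((N x).equivMapOfInjective _ (cj_inj g)).toMonoidHom) (MulEquiv.surjective _)
    rcases h.max z ⁅N z, N z⁆ (comm_le_left le_normalizer)
      (ni_of_norm (norm_comm (h.fam.stab_le_norm z) (h.fam.stab_le_norm z))) with e1 | e1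
    · have : Nontrivial (N z) := (nontrivial_iff_ne_bot _).2 (h.ne_bot hw)
      have := Group.IsSolvable.commutator_lt_top_of_nontrivial (N z)
      refine absurd ?_ this.ne
      refine map_injective (N z).subtype_injective ?_
      rw [map_subtype_commutator, e1, map_subtype_top]
    · exact e1 (commutator_mem_commutator ha hb)
  refine ⟨p, h, hp, hcop, hcm, fun z => ?_⟩
  obtain ⟨w, hw⟩ := exists_ne' hxy z
  have hn : N z ≤ 𝐍[R z] := (N_le_stab h.fam z).trans (h.famR.stab_le_norm z)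
  let M : Subgroup G :=
    { carrier := {n | n ∈ N z ∧ n ^ p ∈ R z}
      one_mem' := ⟨one_mem _, by rw [one_pow]; exact one_mem _⟩
      inv_mem' := fun ha => ⟨inv_mem ha.1, by rw [inv_pow]; exact inv_mem ha.2⟩
      mul_mem' := fun {a b} ha hb => ⟨mul_mem ha.1 hb.1, by
        obtain ⟨r, hr, e⟩ := mul_pow_mod hn (hcm z) ha.1 hb.1 p
        rw [e]
        exact mul_mem (mul_mem hr ha.2) hb.2⟩ }
  rcases h.max z M (fun _ hm => hm.1) (fun g hg m hm => ⟨h.fam.conj' hg hm.1, by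
    rw [conj_pow]; exact h.famR.conj' hg hm.2⟩) with e | e
  · intro a ha
    exact (e.ge ha).2
  · have := Fact.mk hp
    obtain ⟨⟨a, ha⟩, ho⟩ := exists_prime_orderOf_dvd_card' (G := Kp N z w) p
      (by rw [h.fam.card_Kp h.two hxy hw]; exact hd)
    rw [orderOf_mk] at ho
    have e1 : a ^ p = 1 := ho ▸ pow_orderOf_eq_one a
    have := h.eq_one hw (e (show a ∈ M from ⟨ha.1, e1 ▸ one_mem _⟩)) ha.2
    rw [this, orderOf_one] at ho
    exact absurd ho.symm hp.ne_one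

namespace S1

variable (h : S1 N R p)
include h

omit [Finite X] in
theorem eq1 {r : G} (hr : r ∈ R x) {k : ℕ} (e : r ^ p ^ k = 1) : r = 1 :=
  eq_one_of_pow h.prime (h.cop x) hr e

omit [Finite G] [Finite X] in
theorem normR {g : G} (e : g • x = x) : g ∈ 𝐍[R x] := h.famR.mem_norm e

omit [Finite G] [Finite X] in
theorem powK (hxy : x ≠ y) {k : G} (hk : k ∈ Kp N x y) : k ^ p = 1 :=
  h.eq_one hxy (h.pw x k hk.1) (pow_mem (S := stabilizer G y) hk.2 p)

omit [Finite G] [Finite X] in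
theorem commK (hxy : x ≠ y) {k k' : G} (hk : k ∈ Kp N x y) (hk' : k' ∈ Kp N x y) :
    Commute k k' := by
  have := h.eq_one hxy (h.cm x k hk.1 k' hk'.1)
    (mul_mem (mul_mem (mul_mem hk hk') (inv_mem hk)) (inv_mem hk')).2
  rwa [mul_inv_eq_one, mul_inv_eq_iff_eq_mul] at this

omit [Finite G] [Finite X] in
theorem pgK (hxy : x ≠ y) : IsPGroup p (Kp N x y) :=
  pg_iff.2 fun k hk => ⟨1, by rw [pow_one]; exact h.powK hxy hk⟩

omit [Finite G] [Finite X] in
theorem R1 (x : X) : R x ≠ ⊥ := fun e => h.na x fun a ha b hb => by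
  have := h.cm x a ha b hb
  rwa [e, mem_bot, mul_inv_eq_one, mul_inv_eq_iff_eq_mul] at this

omit [Finite G] [Finite X] in
theorem res_leR (x : X) : pResidualOf p (N x) ≤ R x :=
  res_le_of_pow fun a ha => ⟨1, by rw [pow_one]; exact h.pw x a ha⟩

omit [Finite X] in
theorem cent_leR (hxy : x ≠ y) : N x ⊓ 𝐂[R x] ≤ R x := by
  have := Fact.mk h.prime
  rcases h.max x (N x ⊓ 𝐂[R x]) inf_le_left (ni_of_norm (norm_inf (h.fam.stab_le_norm x)
    (norm_cent (h.famR.stab_le_norm x)))) with e | e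
  swap
  · exact e
  exfalso
  have hs : Syl p (pCoreOf p (N x)) (N x) := pCl_iff_syl.1 (pCl_of_res_le_cent
    ((h.res_leR x).trans (cent_comm (e.ge.trans inf_le_right))))
  rcases h.max x (pCoreOf p (N x)) hs.le (ni_of_norm (norm_core (h.fam.stab_le_norm x))) with
    e1 | e1
  · refine h.R1 x (eq_bot_iff.2 fun r hr => ?_)
    obtain ⟨k, hk⟩ := pg_iff.1 hs.pg r (e1.ge (h.le x hr))
    exact h.eq1 hr hk
  · obtain ⟨a, ha, hy, a1⟩ := h.exists_mem hxy
    have := hs.le_of_norm' (h.pgK hxy) inf_le_left (inf_le_left.trans (le_norm_core _))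
    exact a1 (h.eq_one hxy (e1 (this ⟨ha, hy⟩)) hy)

omit [Finite X] in
theorem coprime {A : Subgroup G} (hA : IsPGroup p A) (x : X) :
    (Nat.card A).Coprime (Nat.card (R x)) := by
  have := Fact.mk h.prime
  obtain ⟨n, hn⟩ := IsPGroup.iff_card.1 hA
  rw [hn]
  exact ((h.prime.coprime_iff_not_dvd).2 (h.cop x)).pow_left n

omit [Finite X] in
theorem cardK (hxy : x ≠ y) : Nat.card (Kp N x y) = p := by
  have hc : IsCyclic (Kp N x y) := by
    by_contra hc
    obtain ⟨a, ha, a1, hb⟩ := GT.CopAct.exists_inf_centralizer_ne_bot (A := Kp N x y) (K := R y)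
      ⟨⟨fun a b => Subtype.ext (h.commK hxy a.2 b.2).eq⟩⟩ hc (fun k hk => h.normR hk.2)
      (h.coprime (h.pgK hxy) y) (h.R1 y)
    exact hb (eq_bot_iff.2 fun r hr =>
      h.fpf hxy.symm ha a1 hr.1 (mem_centralizer_singleton_iff.1 hr.2))
  rcases (Nat.dvd_prime h.prime).1 (card_of_cyclic h.prime hc fun l hl => h.powK hxy hl) with e | e
  · exact absurd (card_eq_one.1 e) (h.nsr hxy)
  · exact e

omit [Finite X] in
theorem eqK {z w : X} (hxy : x ≠ y) (hzw : z ≠ w) (hle : Kp N x y ≤ Kp N z w) :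
    Kp N x y = Kp N z w :=
  eq_of_le_of_card_ge hle (by rw [h.cardK hxy, h.cardK hzw])

omit [Finite G] [Finite X] in
theorem mem_KL (hxy : x ≠ y) {v : G} :
    v ∈ Kp N x y ⊔ Kp N y x ↔ ∃ k ∈ Kp N x y, ∃ l ∈ Kp N y x, k * l = v :=
  mem_sup_norm (N := Kp N x y) (H := Kp N y x)
    (norm_of_cent fun _ hl _ hk => (h.comm hxy hk hl).eq)

omit [Finite G] [Finite X] in
theorem mem_K_of (hxy : x ≠ y) {v : G} (hv : v ∈ Kp N x y ⊔ Kp N y x) (hn : v ∈ N x) :
    v ∈ Kp N x y := by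
  obtain ⟨k, hk, l, hl, rfl⟩ := (h.mem_KL hxy).1 hv
  rw [h.ti hxy l (((N x).mul_mem_cancel_left hk.1).1 hn) hl.1, mul_one]
  exact hk

omit [Finite X] in
theorem sylKL (hxy : x ≠ y) : Syl p (Kp N x y ⊔ Kp N y x) (N x ⊔ Kp N y x) := by
  have := Fact.mk h.prime
  have hcent : Kp N y x ≤ 𝐂[Kp N x y] := fun l hl k hk => (h.comm hxy hk hl).eq
  have hpg : IsPGroup p ↥(Kp N x y ⊔ Kp N y x) :=
    pg_sup' (h.pgK hxy) (h.pgK hxy.symm) (norm_of_cent hcent)
  refine Syl.of_norm hpg (sup_le_sup_right inf_le_left _) fun P hP h1 h2 h3 t0 ht0 => ?_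
  obtain ⟨t, ht, l0, hl0, rfl⟩ :=
    (mem_sup_norm (fun l hl => h.fam.mem_norm (show l ∈ Kp N y x from hl).2)).1 (h2 ht0)
  have tP : t ∈ P := (P.mul_mem_cancel_right (h1 (mem_sup_right hl0))).1 ht0
  refine mul_mem (mem_sup_left ?_) (mem_sup_right hl0)
  by_contra tK
  -- every element outside `K` acts without fixed points on `R x`
  have key : ∀ k ∈ Kp N x y, ∀ l ∈ Kp N y x, l ≠ 1 → ∀ r ∈ R x, Commute r (k * l) → r = 1 := by
    intro k hk l hl l1 r hr hc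
    have a0 : t * l * t⁻¹ * l⁻¹ ∈ Kp N x y := h.mem_K_of hxy
      (mul_mem (conj_mem_of_norm (h3 tP) (mem_sup_right hl)) (inv_mem (mem_sup_right hl)))
      (by simpa [mul_assoc] using mul_mem ht (h.fam.conj' hl.2 (inv_mem ht)))
    have a1 : t * l * t⁻¹ * l⁻¹ ≠ 1 := fun e => tK ((h.cen hxy hl l1 ht).1 (by
      rwa [mul_inv_eq_one, mul_inv_eq_iff_eq_mul] at e))
    obtain ⟨m, rfl⟩ := exists_pow h.prime (h.cardK hxy) a0 a1 hk
    generalize ha : t * l * t⁻¹ * l⁻¹ = a at *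
    have aP : a ∈ P := h1 (mem_sup_left a0)
    have c1 : Commute t a := by
      obtain ⟨j, hj⟩ := pg_iff.1 hP _
        (mul_mem (mul_mem (mul_mem tP aP) (inv_mem tP)) (inv_mem aP))
      have := h.eq1 (h.cm x t ht a a0.1) hj
      rwa [mul_inv_eq_one, mul_inv_eq_iff_eq_mul] at this
    have c2 : ∀ n : ℕ, t ^ n * l * (t ^ n)⁻¹ = a ^ n * l := fun n => by
      induction n with
      | zero => simp
      | succ n ih =>
        calc t ^ (n + 1) * l * (t ^ (n + 1))⁻¹ = t * (t ^ n * l * (t ^ n)⁻¹) * t⁻¹ := by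
              rw [pow_succ']; group
          _ = t * a ^ n * t⁻¹ * (t * l * t⁻¹ * l⁻¹) * l := by rw [ih]; group
          _ = a ^ (n + 1) * l := by
              rw [ha, (c1.pow_right n).eq, mul_inv_cancel_right, pow_succ]
    rw [← c2] at hc
    have := h.fpf hxy hl l1 (conj_mem_of_norm' (h.normR (h.fam.le x _ (pow_mem ht m))) hr)
      (by simpa [mul_assoc] using hc.conj (t ^ m)⁻¹)
    simpa [mul_assoc] using congrArg (fun u => t ^ m * u * (t ^ m)⁻¹) this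
  obtain ⟨a, ha, hy, a1⟩ := h.exists_mem hxy
  have hcomm : ∀ u ∈ Kp N x y ⊔ Kp N y x, ∀ v ∈ Kp N x y ⊔ Kp N y x, Commute u v := by
    intro u hu v hv
    obtain ⟨k, hk, l, hl, rfl⟩ := (h.mem_KL hxy).1 hu
    obtain ⟨k', hk', l', hl', rfl⟩ := (h.mem_KL hxy).1 hv
    exact ((h.commK hxy hk hk').mul_right (h.comm hxy hk hl')).mul_left
      ((h.comm hxy hk' hl).symm.mul_right (h.commK hxy.symm hl hl'))
  have hR : R x ≤ centralizer {a} := by
    refine FT.coprime_abelian_gen_cent1 (A := Kp N x y ⊔ Kp N y x)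
      ⟨⟨fun u v => Subtype.ext (hcomm u u.2 v v.2).eq⟩⟩ (fun hc => ?_)
      (sup_le (fun k hk => h.normR (h.fam.le x k hk.1)) fun l hl => h.normR hl.2)
      (h.coprime hpg x).symm fun v hv v1 r hr => ?_
    · have h4 := card_of_cyclic h.prime hc fun v hv => by
        obtain ⟨k, hk, l, hl, rfl⟩ := (h.mem_KL hxy).1 hv
        rw [(h.comm hxy hk hl).mul_pow, h.powK hxy hk, h.powK hxy.symm hl, one_mul]
      have h5 : Kp N x y = Kp N x y ⊔ Kp N y x := eq_of_le_of_card_ge le_sup_left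
        (by rw [h.cardK hxy]; exact Nat.le_of_dvd h.prime.pos h4)
      obtain ⟨f, hf, hx, f1⟩ := h.exists_mem hxy.symm
      exact f1 (h.ti hxy f (h5.ge (mem_sup_right (show f ∈ Kp N y x from ⟨hf, hx⟩))).1 hf)
    · obtain ⟨k, hk, l, hl, rfl⟩ := (h.mem_KL hxy).1 hv
      have hc : Commute r (k * l) := mem_centralizer_singleton_iff.1 hr.2
      by_cases l1 : l = 1
      · subst l1
        rw [mul_one] at hc v1
        obtain ⟨i, rfl⟩ := exists_pow h.prime (h.cardK hxy) hk v1 (show a ∈ Kp N x y from ⟨ha, hy⟩)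
        exact mem_centralizer_singleton_iff.2 (hc.pow_right i).eq
      · rw [key k hk l hl l1 r hr.1 hc]
        exact one_mem _
  exact a1 (h.eq_one hxy (h.cent_leR hxy
    ⟨ha, fun r hr => mem_centralizer_singleton_iff.1 (hR hr)⟩) hy)

omit [Finite X] in
theorem sylK (hxy : x ≠ y) : Syl p (Kp N x y) (N x) := by
  have := Fact.mk h.prime
  have := (h.sylKL hxy).inf le_sup_left
    (sup_le (fun k hk => h.fam.mem_norm (h.fam.le x k hk.1)) fun l hl => h.fam.mem_norm hl.2)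
  rwa [show (Kp N x y ⊔ Kp N y x) ⊓ N x = Kp N x y from le_antisymm
    (fun v hv => h.mem_K_of hxy hv.1 hv.2) (le_inf le_sup_left inf_le_left)] at this

omit [Finite X] in
theorem dec {z : X} (hxy : x ≠ y) (hz : z ≠ x) : ∃ r ∈ R x, ∃ b ∈ ln N x y, r • b = z := by
  have := Fact.mk h.prime
  obtain ⟨g, hg, e⟩ := (h.sylK hxy).conj_eq (h.sylK hz.symm)
  obtain ⟨r, hr, k, hk, rfl⟩ := (mem_sup_norm (fun k hk => h.normR (h.fam.le x k
    (show k ∈ Kp N x y from hk).1))).1 ((h.sylK hxy).sup_of_res_le (h.res_leR x) hg)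
  rw [← cj_cj, cj_of_mem hk] at e
  refine ⟨r, hr, r⁻¹ • z, fun k' hk' => ?_, smul_inv_smul r z⟩
  exact conj_smul_iff'.1 (e.le (conj_mem_cj hk')).2

omit [Finite X] in
theorem ln_sub (hxy : x ≠ y) {z : X} (hz : z ∈ ln N x y) : z ∈ ln N y x := by
  by_cases e1 : z = y
  · exact e1 ▸ h.fam.left_mem_ln _ _
  obtain ⟨a, ha, hy, a1⟩ := h.exists_mem hxy
  have hK : a ∈ Kp N x y := ⟨ha, hy⟩
  have e2 : Kp N y z = Kp N y x := h.eqK (Ne.symm e1) hxy.symm fun k hk => by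
    by_cases k1 : k = 1
    · rw [k1]; exact one_mem _
    have a2 : a * k * a⁻¹ ∈ Kp N y z := by
      have := h.fam.cj_Kp a y z
      rw [hy, hz a hK] at this
      exact this.le (conj_mem_cj hk)
    obtain ⟨i, hi⟩ := exists_pow h.prime (h.cardK (Ne.symm e1)) hk k1 a2
    exact (h.cen hxy.symm hK a1 hk.1).1
      (commute_of_conj h.prime (h.powK hxy hK) (h.powK (Ne.symm e1) hk) hi.symm).symm
  exact fun f hf => (e2.ge hf).2

omit [Finite X] in
theorem ln_symm (hxy : x ≠ y) : ln N x y = ln N y x :=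
  Set.Subset.antisymm (fun _ => h.ln_sub hxy) fun _ => h.ln_sub hxy.symm

omit [Finite X] in
theorem K_eq (hxy : x ≠ y) {z : X} (hz : z ∈ ln N x y) (hx : z ≠ x) : Kp N x y = Kp N x z :=
  h.eqK hxy hx.symm fun k hk => ⟨hk.1, hz k hk⟩

omit [Finite X] in
theorem ln_eq (hxy : x ≠ y) {z : X} (hz : z ∈ ln N x y) (hx : z ≠ x) : ln N x z = ln N x y := by
  rw [ln, ← h.K_eq hxy hz hx, ln]

omit [Finite X] in
theorem lnK {z w : X} (hxy : x ≠ y) (hz : z ∈ ln N x y) (hw : w ∈ ln N x y) (hzw : z ≠ w) :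
    ln N z w = ln N x y := by
  by_cases e : z = x
  · subst e
    exact h.ln_eq hxy hw hzw.symm
  have e1 : ln N z x = ln N x y := (h.ln_symm e).trans (h.ln_eq hxy hz e)
  exact (h.ln_eq e (e1 ▸ hw) hzw.symm).trans e1

omit [Finite X] in
theorem fpfK (hxy : x ≠ y) {a c : G} (ha : a ∈ Kp N x y) (a1 : a ≠ 1) (hc : c ∈ R x)
    (e : Commute c a) : c = 1 := by
  by_cases e1 : c • y = y
  · exact h.eq_one hxy hc e1
  have cx : c • x = x := h.famR.le x c hc
  have e2 : c • y ≠ x := fun e2 => hxy (by rw [← cx] at e2; exact (smul_left_cancel c e2).symm)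
  have hl : c • y ∈ ln N x y := fun k hk => by
    obtain ⟨i, rfl⟩ := exists_pow h.prime (h.cardK hxy) ha a1 hk
    exact smul_fix_of_commute (e.pow_right i) hk.2
  obtain ⟨f, hf, hx, f1⟩ := h.exists_mem hxy.symm
  have fL : f ∈ Kp N y x := ⟨hf, hx⟩
  have f2 : c * f * c⁻¹ ∈ Kp N (c • y) x := by
    have := h.fam.cj_Kp c y x
    rw [cx] at this
    exact this.le (conj_mem_cj fL)
  have f3 : y ∈ ln N (c • y) x := by
    rw [h.lnK hxy hl (h.fam.left_mem_ln x y) e2]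
    exact right_mem_ln x y
  have f4 : Commute (c * f * c⁻¹) f :=
    h.comm e1 ⟨f2.1, f3 _ f2⟩ ⟨hf, h.ln_sub hxy hl f fL⟩
  have f5 : c * f * c⁻¹ * f⁻¹ ∈ R x := by
    simpa [mul_assoc] using mul_mem hc (h.famR.conj' hx (inv_mem hc))
  have f6 := h.eq1 (k := 1) f5 (by
    rw [pow_one, f4.inv_right.mul_pow, conj_pow, inv_pow, h.powK hxy.symm fL]; simp)
  rw [mul_inv_eq_one, mul_inv_eq_iff_eq_mul] at f6
  exact h.fpf hxy fL f1 hc f6

omit [Finite X] in
theorem uniq (hxy : x ≠ y) {r : G} (hr : r ∈ R x) {b : X} (hb : b ∈ ln N x y) (hx : b ≠ x)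
    (e : r • b ∈ ln N x y) : r = 1 := by
  have rx : r • x = x := h.famR.le x r hr
  have e2 : r • b ≠ x := fun e2 => hx (by rw [← rx] at e2; exact smul_left_cancel r e2)
  obtain ⟨a, ha, hy, a1⟩ := h.exists_mem hxy
  have hK : a ∈ Kp N x y := ⟨ha, hy⟩
  have e3 := h.fam.cj_Kp r x b
  rw [rx, ← h.K_eq hxy hb hx, ← h.K_eq hxy e e2] at e3
  have e4 := h.eq_one hxy (r := r * a * r⁻¹ * a⁻¹)
    (by simpa [mul_assoc] using mul_mem hr (h.famR.conj' (h.fam.le x a ha) (inv_mem hr)))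
    (mul_mem (e3.le (conj_mem_cj hK)) (inv_mem hK)).2
  rw [mul_inv_eq_one, mul_inv_eq_iff_eq_mul] at e4
  exact h.fpfK hxy hK a1 hr e4

omit [Finite X] in
theorem ne_two (hxy : x ≠ y) : p ≠ 2 := by
  rintro rfl
  obtain ⟨a, ha, hy, a1⟩ := h.exists_mem hxy
  have hK : a ∈ Kp N x y := ⟨ha, hy⟩
  obtain ⟨f, hf, hx, f1⟩ := h.exists_mem hxy.symm
  have fL : f ∈ Kp N y x := ⟨hf, hx⟩
  have i1 := (GT.Frob.conj_eq_inv_of_fpf (K := R x) (h.normR (h.fam.le x a ha))
    (by rw [← pow_two]; exact h.powK hxy hK) (eq_bot_iff.2 fun r hr =>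
      h.fpfK hxy hK a1 hr.1 (mem_centralizer_singleton_iff.1 hr.2))).1
  have i2 := (GT.Frob.conj_eq_inv_of_fpf (K := R x) (h.normR hx)
    (by rw [← pow_two]; exact h.powK hxy.symm fL) (eq_bot_iff.2 fun r hr =>
      h.fpf hxy fL f1 hr.1 (mem_centralizer_singleton_iff.1 hr.2))).1
  have e : a * f = 1 := h.two.faith _ fun z => by
    by_cases hz : z = x
    · rw [hz, mul_smul, hx, h.fam.le x a ha]
    obtain ⟨r, hr, b, hb, rfl⟩ := h.dec hxy hz
    refine smul_fix_of_commute ?_ (by rw [mul_smul, h.ln_sub hxy hb f fL, hb a hK])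
    have : a * f * r * (a * f)⁻¹ = r := by
      calc a * f * r * (a * f)⁻¹ = a * (f * r * f⁻¹) * a⁻¹ := by group
        _ = r := by rw [i2 r hr, i1 _ (inv_mem hr), inv_inv]
    rw [mul_inv_eq_iff_eq_mul] at this
    exact this.symm
  exact a1 (h.ti hxy a ha (by rw [eq_inv_of_mul_eq_one_left e]; exact inv_mem hf))

end S1

end O2

variable {G : Type u} {X : Type v} [Group G] [Finite G] [MulAction G X] [Finite X]
  {N R : X → Subgroup G} {x y : X}

theorem Cfg.od (h : Cfg N R) (hxy : x ≠ y) (hs : Group.IsSolvable (N x)) :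
    ∃ p : ℕ, p.Prime ∧ OD N R p := by
  obtain ⟨p, s⟩ := O2.exists_S1 h hxy hs
  refine ⟨p, s.prime, h.toTI, h.famR, h.le, s.ne_two hxy, s.cardK, s.cop, fun z => ?_, s.R1, s.lnK,
    fun {x y z} hxy hz e he e1 hf r hr hc => ?_, s.dec, fun hxy r hr b hb hx e =>
      s.uniq hxy hr hb hx e⟩
  · obtain ⟨w, hw⟩ := O2.exists_ne' hxy z
    exact h.nil hw
  · by_cases hzx : z = x
    · subst hzx
      exact s.fpfK hxy ⟨he, hf y (right_mem_ln _ _)⟩ e1 hr hc
    · exact h.fpf (Ne.symm hzx) ⟨he, hf x (h.fam.left_mem_ln _ _)⟩ e1 hr hc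

end Cfsg.Agent.OT
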