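import Mathlib
import Cfsg.Agent.OT.Defs
import Cfsg.Agent.Perm.Witt

/-!
# The solvable configuration: lines, planes and the group of a line
-/

set_option autoImplicit false

namespace Cfsg.Agent.OT

open Subgroup MulAction Cfsg.Agent.TT Cfsg.Agent.Perm Cfsg.Agent.Perm.TT Cfsg.Agent.Loc.Mss
open Cfsg.Agent.Perm.TwoCount Cfsg.Agent.Perm.RankOne

universe u v

variable {G : Type u} {X : Type v} [Group G] [Finite G] [MulAction G X] [Finite X]
  {N R : X → Subgroup G} {x y : X} {p : ℕ} [Fact p.Prime] {W : Subgroup G}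

omit [Finite G] [Finite X] in
theorem el_fix {e : G} (he : e ∈ El N x y) {c : X} (hc : c ∈ ln N x y) : e • c = c :=
  (closure_le (stabilizer G c)).2 (fun _ h => h.2 c hc) he

omit [Finite G] [Finite X] in
theorem O3A.cj_El_le (h : Fam N) (g : G) (x y : X) :
    cj(g, El N x y) ≤ El N (g • x) (g • y) := by
  rw [map_le_iff_le_comap, El, closure_le]
  rintro e ⟨⟨z, hz, he⟩, hf⟩
  refine subset_closure ⟨⟨g • z, h.smul_mem_ln g hz, h.conj g z e he⟩, fun c hc => ?_⟩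
  refine conj_smul_iff'.2 (hf _ ?_)
  rw [← h.smul_mem_ln_iff (g := g), smul_inv_smul]
  exact hc

omit [Finite G] [Finite X] in
theorem Fam.cj_El (h : Fam N) (g : G) (x y : X) : cj(g, El N x y) = El N (g • x) (g • y) :=
  le_antisymm (O3A.cj_El_le h g x y) (le_cj_iff_inv_le.2 (by
    simpa only [inv_smul_smul] using O3A.cj_El_le h g⁻¹ (g • x) (g • y)))

theorem OD.el_eq (h : OD N R p) (hxy : x ≠ y) {z w : X} (hz : z ∈ ln N x y) (hw : w ∈ ln N x y)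
    (hzw : z ≠ w) : El N z w = El N x y := by
  rw [El, h.lnK hxy hz hw hzw, El]

theorem OD.Kp_le (h : OD N R p) (hxy : x ≠ y) {z w : X} (hz : z ∈ ln N x y) (hw : w ∈ ln N x y)
    (hzw : z ≠ w) : Kp N z w ≤ El N x y := fun k hk =>
  subset_closure ⟨⟨z, hz, hk.1⟩, fun c hc => by
    rw [← h.lnK hxy hz hw hzw] at hc
    exact hc k hk⟩

omit [Finite G] [Finite X] [Fact p.Prime] in
theorem O3A.exists_other (h : OD N R p) (hxy : x ≠ y) (z : X) : ∃ w ∈ ln N x y, z ≠ w := by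
  by_cases e : z = x
  · exact ⟨y, right_mem_ln x y, e ▸ hxy⟩
  · exact ⟨x, h.fam.left_mem_ln x y, e⟩

theorem OD.el_comm (h : OD N R p) (hxy : x ≠ y) {e e' : G} (he : e ∈ El N x y)
    (he' : e' ∈ El N x y) : Commute e e' := by
  refine mem_centralizer_singleton_iff.1 ((closure_le (centralizer {e'})).2 ?_ he)
  rintro a ⟨⟨z, hz, ha⟩, hf⟩
  refine mem_centralizer_singleton_iff.2 (Eq.symm ?_)
  refine mem_centralizer_singleton_iff.1 ((closure_le (centralizer {a})).2 ?_ he')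
  rintro b ⟨⟨w, hw, hb⟩, hg⟩
  refine mem_centralizer_singleton_iff.2 ?_
  by_cases e : z = w
  · subst e
    obtain ⟨u, hu, hzu⟩ := O3A.exists_other h hxy z
    have hc : IsCyclic (Kp N z u) := isCyclic_of_prime_card (h.cardK hzu)
    exact congrArg Subtype.val (hc.isMulCommutative.is_comm.comm (⟨b, hb, hg u hu⟩ : Kp N z u)
      ⟨a, ha, hf u hu⟩)
  · exact (h.comm e ⟨ha, hf w hw⟩ ⟨hb, hg z hz⟩).symm.eq

theorem OD.el_pow (h : OD N R p) (hxy : x ≠ y) {e : G} (he : e ∈ El N x y) : e ^ p = 1 := by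
  induction he using closure_induction with
  | mem a ha =>
    obtain ⟨⟨z, hz, ha⟩, hf⟩ := ha
    obtain ⟨u, hu, hzu⟩ := O3A.exists_other h hxy z
    have := pow_card_eq_one' (x := (⟨a, ha, hf u hu⟩ : Kp N z u))
    rw [h.cardK hzu] at this
    exact congrArg Subtype.val this
  | one => exact one_pow _
  | mul a b ha hb h1 h2 => rw [(h.el_comm hxy ha hb).mul_pow, h1, h2, one_mul]
  | inv a _ h1 => rw [inv_pow, h1, inv_one]

theorem OD.el_faith (h : OD N R p) (hxy : x ≠ y) {e : G} (he : e ∈ El N x y)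
    (hc : ∀ r ∈ R x, Commute r e) : e = 1 := h.two.faith e fun c => by
  by_cases e1 : c = x
  · exact el_fix he (e1 ▸ h.fam.left_mem_ln _ _)
  obtain ⟨r, hr, b, hb, rfl⟩ := h.dec hxy e1
  exact smul_fix_of_commute (hc r hr) (el_fix he hb)

theorem OD.ncard_ln (h : OD N R p) (hxy : x ≠ y) {z w : X} (hzw : z ≠ w) :
    (ln N z w).ncard = (ln N x y).ncard := by
  obtain ⟨g, rfl, rfl⟩ := h.two.two hxy hzw
  rw [← Set.ncard_image_of_injective (ln N x y) (MulAction.injective g)]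
  congr 1
  ext c
  refine ⟨fun hc => ⟨g⁻¹ • c, ?_, smul_inv_smul g c⟩, ?_⟩
  · rw [← h.fam.smul_mem_ln_iff (g := g), smul_inv_smul]
    exact hc
  · rintro ⟨b, hb, rfl⟩
    exact h.fam.smul_mem_ln g hb

theorem OD.gd_conj (h : OD N R p) (k : Gd N R p x y W) (g : G) :
    Gd N R p (g • x) (g • y) cj(g, W) := by
  refine ⟨h.fam.cj_El g x y ▸ cj_mono g k.le, ?_, ?_⟩
  · rw [← h.fam.cj_El, relIndex_map_map_of_injective _ _ (cj_inj g)]
    exact k.idx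
  · rw [← h.famR.cj_eq, ← cj_cent, ← cj_inf, Ne, cj_eq_bot]
    exact k.ne

theorem OD.mem_fx (h : OD N R p) (hxy : x ≠ y) (hW : W ≤ El N x y) {c : X} (hc : c ≠ x) :
    c ∈ Fx X W ↔ ∃ r ∈ R x ⊓ 𝐂[W], ∃ b ∈ ln N x y, r • b = c := by
  constructor
  · intro hf
    obtain ⟨r, hr, b, hb, rfl⟩ := h.dec hxy hc
    refine ⟨r, ⟨hr, fun w hw => ?_⟩, b, hb, rfl⟩
    have bx : b ≠ x := fun e => hc (by rw [e, h.famR.le x r hr])
    have := h.uniq hxy (r⁻¹ * (w * r * w⁻¹)) (mul_mem (inv_mem hr)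
      (h.famR.conj' (el_fix (hW hw) (h.fam.left_mem_ln x y)) hr)) b hb bx (by
        rw [mul_smul, mul_smul, mul_smul, el_fix (hW (inv_mem hw)) hb, hf w hw, inv_smul_smul]
        exact hb)
    rw [inv_mul_eq_one, eq_mul_inv_iff_mul_eq] at this
    exact this.symm
  · rintro ⟨r, hr, b, hb, rfl⟩ w hw
    exact smul_fix_of_commute (hr.2 w hw).symm (el_fix (hW hw) hb)

theorem OD.ncard_fx (h : OD N R p) (hxy : x ≠ y) (hW : W ≤ El N x y) :
    (Fx X W).ncard = 1 + Nat.card ↥(R x ⊓ 𝐂[W]) * ((ln N x y).ncard - 1) := by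
  have hx : x ∈ Fx X W := fun w hw => el_fix (hW hw) (h.fam.left_mem_ln x y)
  have ne : ∀ r ∈ R x, ∀ b, b ≠ x → r • b ≠ x := fun r hr b hb e =>
    hb (by rw [← h.famR.le x r hr] at e; exact smul_left_cancel r e)
  rw [← Set.ncard_diff_singleton_add_one hx, add_comm,
    ← Set.ncard_diff_singleton_of_mem (h.fam.left_mem_ln x y), ← Nat.card_coe_set_eq,
    ← Nat.card_coe_set_eq, ← Nat.card_prod]
  congr 1
  refine (Nat.card_congr (Equiv.ofBijective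
    (fun u : ↥(R x ⊓ 𝐂[W]) × ↥(ln N x y \ {x}) => (⟨(u.1 : G) • (u.2 : X),
      (h.mem_fx hxy hW (ne _ u.1.2.1 _ u.2.2.2)).2 ⟨_, u.1.2, _, u.2.2.1, rfl⟩,
      ne _ u.1.2.1 _ u.2.2.2⟩ : ↥(Fx X W \ {x}))) ⟨?_, ?_⟩)).symm
  · rintro ⟨⟨r, hr⟩, ⟨b, hb⟩⟩ ⟨⟨r', hr'⟩, ⟨b', hb'⟩⟩ e
    have e1 : r • b = r' • b' := congrArg Subtype.val e
    have e2 := h.uniq hxy (r'⁻¹ * r) (mul_mem (inv_mem hr'.1) hr.1) b hb.1 hb.2 (by
      rw [mul_smul, e1, inv_smul_smul]; exact hb'.1)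
    rw [inv_mul_eq_one] at e2
    subst e2
    obtain rfl := smul_left_cancel r' e1
    rfl
  · rintro ⟨c, hc, hcx⟩
    obtain ⟨r, hr, b, hb, rfl⟩ := (h.mem_fx hxy hW hcx).1 hc
    exact ⟨⟨⟨r, hr⟩, ⟨b, hb, fun e => hcx (by
      rw [show b = x from e, h.famR.le x r hr.1]; rfl)⟩⟩, rfl⟩

theorem O3A.card_eq (h : OD N R p) (hxy : x ≠ y) (hW : W ≤ El N x y) {c : X} (hc : c ∈ Fx X W) :
    Nat.card ↥(R c ⊓ 𝐂[W]) = Nat.card ↥(R x ⊓ 𝐂[W]) := by
  have h1 : ∀ z ∈ ln N x y, Nat.card ↥(R z ⊓ 𝐂[W]) = Nat.card ↥(R x ⊓ 𝐂[W]) := fun z hz => by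
    by_cases e : z = x
    · rw [e]
    have hx := h.fam.left_mem_ln x y
    have e1 := h.ncard_fx e ((h.el_eq hxy hz hx e).symm ▸ hW)
    rw [h.lnK hxy hz hx e, h.ncard_fx hxy hW] at e1
    have e2 : 1 < (ln N x y).ncard :=
      (Set.one_lt_ncard (Set.toFinite _)).2 ⟨x, hx, y, right_mem_ln x y, hxy⟩
    exact (Nat.eq_of_mul_eq_mul_right (by omega) (Nat.add_left_cancel e1)).symm
  by_cases e : c = x
  · rw [e]
  obtain ⟨r, hr, b, hb, rfl⟩ := (h.mem_fx hxy hW e).1 hc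
  rw [← h1 b hb, ← card_cj (R b ⊓ 𝐂[W]) r, cj_inf, cj_cent, cj_of_cent hr.2, h.famR.cj_eq]

omit [Finite G] [Finite X] in
theorem O3A.smul_mem_fx {g : G} (hg : g ∈ 𝐂[W]) {c : X} (hc : c ∈ Fx X W) : g • c ∈ Fx X W :=
  fun w hw => smul_fix_of_commute (hg w hw).symm (hc w hw)

theorem OD.gd_trans (h : OD N R p) (hxy : x ≠ y) (k : Gd N R p x y W) {c d : X}
    (hc : c ∈ Fx X W) (hd : d ∈ Fx X W) : ∃ g ∈ 𝐂[W], g • c = d := by
  obtain ⟨l, hl, hd'⟩ := Nat.exists_prime_and_dvd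
    (show Nat.card ↥(R x ⊓ 𝐂[W]) ≠ 1 from fun e => k.ne (card_eq_one.1 e))
  refine gleason_trans hl 𝐂[W] (Fx X W) (fun g hg c hc => O3A.smul_mem_fx hg hc)
    (fun z hz => ?_) c hc d hd
  have := Fact.mk hl
  obtain ⟨⟨u, hu⟩, ho⟩ := exists_prime_orderOf_dvd_card' (G := ↥(R z ⊓ 𝐂[W])) l
    (by rw [O3A.card_eq h hxy k.le hz]; exact hd')
  rw [orderOf_mk] at ho
  refine ⟨zpowers u, zpowers_le.2 hu.2,
    IsPGroup.of_card (n := 1) (by rw [Nat.card_zpowers, ho, pow_one]),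
    fun g hg => h.famR.le z g (zpowers_le.2 hu.1 hg), fun w _ hw => by_contra fun e => ?_⟩
  have := h.uniq (Ne.symm e) u hu.1 w (right_mem_ln z w) e (by
    rw [hw u (mem_zpowers u)]; exact right_mem_ln z w)
  rw [this, orderOf_one] at ho
  exact hl.ne_one ho.symm

theorem OD.gd_gd (h : OD N R p) (hxy : x ≠ y) (k : Gd N R p x y W) {c d : X}
    (hc : c ∈ Fx X W) (hd : d ∈ Fx X W) (hcd : c ≠ d) : Gd N R p c d W := by
  have hx := h.fam.left_mem_ln x y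
  obtain ⟨g, hg, rfl⟩ := h.gd_trans hxy k (fun w hw => el_fix (k.le hw) hx) hc
  have e1 : g⁻¹ • d ≠ x := fun e => hcd (by rw [← e, smul_inv_smul])
  obtain ⟨r, hr, b, hb, e2⟩ := (h.mem_fx hxy k.le e1).1 (O3A.smul_mem_fx (inv_mem hg) hd)
  have rx := h.famR.le x r hr.1
  have bx : x ≠ b := fun e => e1 (by rw [← e2, ← e, rx])
  have e3 := h.el_eq hxy hx hb bx
  have := h.gd_conj (⟨e3.symm ▸ k.le, e3.symm ▸ k.idx, k.ne⟩ : Gd N R p x b W) (g * r)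
  rwa [cj_of_cent (mul_mem hg hr.2), mul_smul, mul_smul, rx, e2, smul_inv_smul] at this

theorem OD.gd_sigma (h : OD N R p) (hxy : x ≠ y) (k : Gd N R p x y W) {z : X}
    (hz : z ∈ ln N x y) : ∃ σ ∈ 𝐂[W], σ • x = z ∧ ∀ c ∈ ln N x y, σ • c ∈ ln N x y := by
  by_cases e : z = x
  · exact ⟨1, one_mem _, by rw [one_smul, e], fun c hc => by rwa [one_smul]⟩
  have hx := h.fam.left_mem_ln x y
  obtain ⟨g, hg, rfl⟩ := h.gd_trans hxy k (fun w hw => el_fix (k.le hw) hx)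
    (fun w hw => el_fix (k.le hw) hz)
  have e1 : g • y ≠ g • x := fun e => hxy (smul_left_cancel g e).symm
  obtain ⟨r, hr, b, hb, e2⟩ := (h.mem_fx e ((h.el_eq hxy hz hx e).symm ▸ k.le) e1).1
    (O3A.smul_mem_fx hg fun w hw => el_fix (k.le hw) (right_mem_ln x y))
  have rx := h.famR.le _ r hr.1
  have s1 : (r⁻¹ * g) • x = g • x := by rw [mul_smul, inv_smul_eq_iff, rx]
  have s2 : (r⁻¹ * g) • y = b := by rw [mul_smul, inv_smul_eq_iff, e2]
  refine ⟨r⁻¹ * g, mul_mem (inv_mem hr.2) hg, s1, fun c hc => ?_⟩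
  have := h.fam.smul_mem_ln (r⁻¹ * g) hc
  rw [h.lnK hxy hz hx e] at hb
  rwa [s1, s2, h.lnK hxy hz hb fun e3 => e1 (by rw [← e2, ← e3, rx])] at this

end Cfsg.Agent.OT
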