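import Mathlib
import Cfsg.Agent.OT.Defs
import Cfsg.Agent.FT.Wielandt
import Cfsg.Agent.FT.BG1_6
import Cfsg.Agent.GT.CoprimeGen

/-!
# Elementary abelian groups of order `p ^ 2` and the Wielandt fixed point formula
-/

set_option autoImplicit false

namespace Cfsg.Agent.OT

open Subgroup Cfsg.Agent.Loc.Mss

variable {G : Type*} [Group G] [Finite G] {p : ℕ} [hp : Fact p.Prime]

omit [Finite G] in
theorem ord_of_card {U : Subgroup G} (hU : Nat.card U = p) {u : G} (hu : u ∈ U) (h1 : u ≠ 1) :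
    orderOf u = p := by
  have := orderOf_dvd_natCard U hu
  rw [hU] at this
  exact ((Nat.dvd_prime hp.out).1 this).resolve_left (by simpa using h1)

theorem zp_eq {U : Subgroup G} (hU : Nat.card U = p) {u : G} (hu : u ∈ U) (h1 : u ≠ 1) :
    zpowers u = U :=
  eq_of_le_of_card_ge (zpowers_le.2 hu) (by rw [Nat.card_zpowers, ord_of_card hU hu h1, hU])

theorem line_eq {U V : Subgroup G} (hU : Nat.card U = p) (hV : Nat.card V = p) {u : G}
    (hu : u ∈ U) (hv : u ∈ V) (h1 : u ≠ 1) : U = V :=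
  (zp_eq hU hu h1).symm.trans (zp_eq hV hv h1)

theorem line_inf {U V : Subgroup G} (hU : Nat.card U = p) (hV : Nat.card V = p) (h : U ≠ V) :
    U ⊓ V = ⊥ :=
  eq_bot_iff.2 fun _ hu => by_contra fun h1 => h (line_eq hU hV hu.1 hu.2 h1)

omit hp in
theorem exists_npow {u v : G} (hv : v ∈ zpowers u) : ∃ k : ℕ, v = u ^ k := by
  obtain ⟨k, hk⟩ := mem_powers_iff_mem_zpowers.2 hv
  exact ⟨k, hk.symm⟩

omit [Finite G] in
theorem exists_gen {U : Subgroup G} (hU : Nat.card U = p) : ∃ u ∈ U, u ≠ 1 := by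
  have : U ≠ ⊥ := fun e => by rw [e, card_bot] at hU; exact hp.out.one_lt.ne hU
  obtain ⟨u, hu⟩ := (Subgroup.ne_bot_iff_exists_ne_one).1 this
  exact ⟨u, u.2, fun e => hu (Subtype.ext e)⟩

omit [Finite G] hp in
theorem cent_zp (g : G) : 𝐂[zpowers g] = centralizer {g} := by
  rw [zpowers_eq_closure, centralizer_closure]

omit [Finite G] hp in
theorem zp_norm {a f : G} (c : Commute a f) : zpowers f ≤ 𝐍[zpowers a] :=
  norm_of_cent (by
    rw [cent_zp, zpowers_le, mem_centralizer_singleton_iff]; exact c.eq.symm)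

omit hp in
theorem mem_zp_sup {a f v : G} (c : Commute a f) (hv : v ∈ zpowers a ⊔ zpowers f) :
    ∃ i j : ℕ, v = a ^ i * f ^ j := by
  obtain ⟨x, hx, y, hy, rfl⟩ := (mem_sup_norm (zp_norm c)).1 hv
  obtain ⟨i, rfl⟩ := exists_npow hx
  obtain ⟨j, rfl⟩ := exists_npow hy
  exact ⟨i, j, rfl⟩

theorem zp_inf {a f : G} (oa : orderOf a = p) (of : orderOf f = p) (nm : f ∉ zpowers a) :
    zpowers a ⊓ zpowers f = ⊥ :=
  line_inf (p := p) (by rw [Nat.card_zpowers, oa]) (by rw [Nat.card_zpowers, of])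
    fun e => nm (e ▸ mem_zpowers f)

theorem card_zp_sup {a f : G} (oa : orderOf a = p) (of : orderOf f = p) (c : Commute a f)
    (nm : f ∉ zpowers a) : Nat.card ↥(zpowers a ⊔ zpowers f) = p ^ 2 := by
  rw [FT.card_sup_of_inf_eq_bot (zp_norm c) (zp_inf oa of nm), Nat.card_zpowers,
    Nat.card_zpowers, oa, of, sq]

/-- Generators of the `p + 1` lines. -/
def lg (a f : G) {p : ℕ} : Option (ZMod p) → G
  | none => f
  | some m => a * f ^ m.val

theorem pw_unique {a f : G} (oa : orderOf a = p) (of : orderOf f = p) (nm : f ∉ zpowers a)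
    {i j i' j' : ℕ} (e : a ^ i * f ^ j = a ^ i' * f ^ j') :
    (i : ZMod p) = i' ∧ (j : ZMod p) = j' := by
  have e1 : (a ^ i')⁻¹ * a ^ i = f ^ j' * (f ^ j)⁻¹ := by
    rw [inv_mul_eq_iff_eq_mul, ← mul_assoc, ← e, mul_inv_cancel_right]
  have e2 : (a ^ i')⁻¹ * a ^ i = 1 := (zp_inf oa of nm).le (show _ ∈ zpowers a ⊓ zpowers f from
    mem_inf.2 ⟨mul_mem (inv_mem (npow_mem_zpowers a i')) (npow_mem_zpowers a i),
      e1 ▸ mul_mem (npow_mem_zpowers f j') (inv_mem (npow_mem_zpowers f j))⟩)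
  rw [e2, eq_comm, mul_inv_eq_one, pow_eq_pow_iff_modEq, of] at e1
  rw [inv_mul_eq_one, pow_eq_pow_iff_modEq, oa] at e2
  exact ⟨((ZMod.natCast_eq_natCast_iff _ _ _).2 e2).symm,
    ((ZMod.natCast_eq_natCast_iff _ _ _).2 e1).symm⟩

omit [Finite G] in
theorem pw_congr {a : G} (oa : orderOf a = p) {i j : ℕ} (e : (i : ZMod p) = j) : a ^ i = a ^ j := by
  rw [pow_eq_pow_iff_modEq, oa]; exact (ZMod.natCast_eq_natCast_iff _ _ _).1 e

theorem orderOf_lg {a f : G} (oa : orderOf a = p) (of : orderOf f = p) (c : Commute a f)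
    (nm : f ∉ zpowers a) (i : Option (ZMod p)) : orderOf (lg a f i) = p := by
  rcases i with _ | m
  · exact of
  refine orderOf_eq_prime ?_ fun e => ?_
  · show (a * f ^ m.val) ^ p = 1
    have e1 : a ^ p = 1 := oa ▸ pow_orderOf_eq_one a
    have e2 : f ^ p = 1 := of ▸ pow_orderOf_eq_one f
    rw [(c.pow_right _).mul_pow, ← pow_mul, mul_comm m.val, pow_mul, e1, e2]
    simp
  · have := (pw_unique oa of nm (i := 1) (j := m.val) (i' := 0) (j' := 0)
      (by simpa [lg] using e)).1
    simp at this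

theorem lg_unique {a f : G} (oa : orderOf a = p) (of : orderOf f = p) (c : Commute a f)
    (nm : f ∉ zpowers a) {v : G} (hv : v ∈ zpowers a ⊔ zpowers f) (h1 : v ≠ 1) :
    ∃ i : Option (ZMod p), v ∈ zpowers (lg a f i) ∧ ∀ j, v ∈ zpowers (lg a f j) → j = i := by
  have cz : ∀ i : Option (ZMod p), Nat.card (zpowers (lg a f i)) = p := fun i => by
    rw [Nat.card_zpowers, orderOf_lg oa of c nm]
  have inj : ∀ (m : ZMod p) (j : Option (ZMod p)),
      zpowers (lg a f (some m)) = zpowers (lg a f j) → j = some m := fun m j e => by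
    obtain ⟨k, hk⟩ := exists_npow (e ▸ mem_zpowers (lg a f (some m)))
    rcases j with _ | m'
    · have := (pw_unique oa of nm (i := 1) (j := m.val) (i' := 0) (j' := k)
        (by simpa [lg] using hk)).1
      simp at this
    · have := pw_unique oa of nm (i := 1) (j := m.val) (i' := k) (j' := m'.val * k) (by
        rw [pow_one, pow_mul, ← (c.pow_right _).mul_pow]; exact hk)
      obtain ⟨h1, h2⟩ := this
      simp only [Nat.cast_one, Nat.cast_mul, ZMod.natCast_val, ZMod.cast_id', id] at h1 h2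
      rw [h2, ← h1, mul_one]
  have ex : ∃ i : Option (ZMod p), v ∈ zpowers (lg a f i) := by
    obtain ⟨i, j, rfl⟩ := mem_zp_sup c hv
    by_cases hi : (i : ZMod p) = 0
    · refine ⟨none, ?_⟩
      rw [pw_congr oa (j := 0) (by simpa using hi), pow_zero, one_mul]
      exact npow_mem_zpowers f j
    · refine ⟨some (j / i), i, ?_⟩
      show (a * f ^ _) ^ (i : ℤ) = _
      rw [zpow_natCast, (c.pow_right _).mul_pow, ← pow_mul]
      congr 1
      refine pw_congr of ?_
      simp [div_mul_cancel₀ _ hi]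
  obtain ⟨i, hi⟩ := ex
  refine ⟨i, hi, fun j hj => ?_⟩
  have e := line_eq (cz i) (cz j) hi hj h1
  rcases i with _ | m
  · rcases j with _ | m'
    · rfl
    · exact (inj m' none e.symm).symm
  · exact inj m j e

/-- The Wielandt formula for an elementary abelian group of order `p ^ 2`. -/
theorem wie_sq {M : Subgroup G} {a f : G} (oa : orderOf a = p) (of : orderOf f = p)
    (c : Commute a f) (nm : f ∉ zpowers a) (ha : a ∈ 𝐍[M]) (hf : f ∈ 𝐍[M])
    (cop : ¬ p ∣ Nat.card M) (sol : Group.IsSolvable M) :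
    (∏ m : ZMod p, Nat.card ↥(M ⊓ centralizer {a * f ^ m.val})) *
      Nat.card ↥(M ⊓ centralizer {f}) = Nat.card M * Nat.card ↥(M ⊓ centralizer {a, f}) ^ p := by
  classical
  set E := zpowers a ⊔ zpowers f with hE
  have cE : Nat.card E = p ^ 2 := card_zp_sup oa of c nm
  let A : Option (ZMod p) ⊕ Bool → Subgroup G :=
    Sum.elim (fun i => zpowers (lg a f i)) fun b => if b then ⊥ else E
  let m : Option (ZMod p) ⊕ Bool → ℕ := Sum.elim (fun _ => 1) fun _ => 0
  let n : Option (ZMod p) ⊕ Bool → ℕ := Sum.elim (fun _ => 0) fun b => if b then p else 1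
  have aE : a ∈ E := mem_sup_left (mem_zpowers a)
  have fE : f ∈ E := mem_sup_right (mem_zpowers f)
  have key := FT.solvable_Wielandt_fixpoint (M := M) (F := E) A m n (by
      rintro ((_ | i) | _ | _)
      exacts [zpowers_le.2 fE, zpowers_le.2 (mul_mem aE (pow_mem fE _)), le_rfl, bot_le])
    (sup_le (zpowers_le.2 ha) (zpowers_le.2 hf))
    (by rw [cE]; exact ((hp.out.coprime_iff_not_dvd.2 cop).symm).pow_right 2) sol (by
      intro v hv
      by_cases h1 : v = 1
      · simp [h1, A, m, n, one_mem]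
      · obtain ⟨i, hi, hu⟩ := lg_unique oa of c nm hv h1
        rw [Finset.sum_eq_single (Sum.inl i), Finset.sum_eq_single (Sum.inr false)]
        · rw [Set.indicator_of_mem (by exact hi), Set.indicator_of_mem (by exact hv)]; rfl
        · rintro (j | _ | _) - hj
          exacts [Set.indicator_apply_eq_zero.2 fun _ => rfl, absurd rfl hj,
            Set.indicator_of_notMem (by exact h1) _]
        · simp
        · rintro (j | j) - hj
          · exact Set.indicator_apply_eq_zero.2 fun h => (hj (congrArg _ (hu j h))).elim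
          · exact Set.indicator_apply_eq_zero.2 fun _ => rfl
        · simp)
  have cC : 𝐂[E] = centralizer {a, f} := by
    rw [hE, zpowers_eq_closure, zpowers_eq_closure, ← Subgroup.closure_union,
      centralizer_closure]
    rfl
  simp only [Fintype.prod_sum_type, Fintype.prod_bool, A, m, n, Sum.elim_inl, Sum.elim_inr,
    Nat.card_zpowers, orderOf_lg oa of c nm, one_mul, zero_mul, pow_zero, mul_one,
    Finset.prod_const_one, if_true, Bool.false_eq_true, if_false, card_bot, cE, cent_bot,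
    inf_top_eq, cent_zp, cC, Finset.prod_pow, Fintype.prod_option] at key
  refine Nat.pow_left_injective hp.out.ne_zero ?_
  show _ ^ p = _ ^ p
  rw [mul_comm, mul_pow (Nat.card M), ← pow_mul, ← sq]
  exact key

end Cfsg.Agent.OT
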