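import Mathlib
import Cfsg.Agent.OT.O3A
import Cfsg.Agent.OT.Wie

/-!
# The solvable configuration: the group of a line has order `p ^ 2`
-/

set_option autoImplicit false

namespace Cfsg.Agent.OT

open Subgroup MulAction Cfsg.Agent.TT Cfsg.Agent.Perm Cfsg.Agent.Perm.TT Cfsg.Agent.Loc.Mss

universe u v

section Alg

variable {G : Type u} [Group G]

theorem conj_two {σ τ e u₁ u₂ : G} {i j : ℕ} (c : Commute u₁ e) (h1 : σ * e * σ⁻¹ = u₁ * e ^ i)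
    (h2 : τ * e * τ⁻¹ = u₂ * e ^ j) :
    σ * τ * e * (σ * τ)⁻¹ = σ * u₂ * σ⁻¹ * u₁ ^ j * e ^ (i * j) := by
  calc σ * τ * e * (σ * τ)⁻¹ = σ * (τ * e * τ⁻¹) * σ⁻¹ := by group
    _ = σ * u₂ * σ⁻¹ * (σ * e * σ⁻¹) ^ j := by rw [h2, conj_pow]; group
    _ = _ := by rw [h1, (c.pow_right i).mul_pow, ← pow_mul, mul_assoc _ (u₁ ^ j)]

theorem conj_comm {U : Subgroup G} {σ τ e u₁ u₂ : G} {i j : ℕ} (c : ∀ u ∈ U, Commute u e)
    (hσ : σ ∈ 𝐍[U]) (hτ : τ ∈ 𝐍[U]) (m1 : u₁ ∈ U) (m2 : u₂ ∈ U)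
    (h1 : σ * e * σ⁻¹ = u₁ * e ^ i) (h2 : τ * e * τ⁻¹ = u₂ * e ^ j) :
    ∃ u ∈ U, (τ * σ)⁻¹ * (σ * τ) * e * ((τ * σ)⁻¹ * (σ * τ))⁻¹ = e * u := by
  have e1 := conj_two (c _ m1) h1 h2
  have e2 := conj_two (c _ m2) h2 h1
  have hm := conj_mem_of_norm' (mul_mem hτ hσ) (mul_mem
    (mul_mem (conj_mem_of_norm hσ m2) (pow_mem m1 j))
    (inv_mem (mul_mem (conj_mem_of_norm hτ m1) (pow_mem m2 i))))
  refine ⟨_, hm, ?_⟩
  rw [← (c _ hm).eq]
  calc _ = (τ * σ)⁻¹ * (σ * τ * e * (σ * τ)⁻¹) * (τ * σ) := by group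
    _ = (τ * σ)⁻¹ * (σ * u₂ * σ⁻¹ * u₁ ^ j * (τ * u₁ * τ⁻¹ * u₂ ^ i)⁻¹ *
        (τ * σ * e * (τ * σ)⁻¹)) * (τ * σ) := by rw [e1, e2, mul_comm j i]; group
    _ = _ := by group

theorem conj_iter {σ e w : G} (c : Commute σ w) (h : σ * e * σ⁻¹ = e * w) (i : ℕ) :
    σ ^ i * e * (σ ^ i)⁻¹ = e * w ^ i := by
  induction i with
  | zero => simp
  | succ i ih =>
    calc σ ^ (i + 1) * e * (σ ^ (i + 1))⁻¹ = σ * (σ ^ i * e * (σ ^ i)⁻¹) * σ⁻¹ := by group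
      _ = σ * e * σ⁻¹ * (σ * w ^ i * σ⁻¹) := by rw [ih]; group
      _ = _ := by rw [h, (c.pow_right i).eq]; group

variable [Finite G] {p : ℕ} [hp : Fact p.Prime]

omit [Finite G] in
theorem not_cyc {U : Subgroup G} (hU : Nat.card U = p ^ 2) (he : ∀ u ∈ U, u ^ p = 1) :
    ¬ IsCyclic U := fun hc => by
  have := Monoid.exponent_dvd_of_forall_pow_eq_one (G := U) (n := p) fun u =>
    Subtype.ext (he u u.2)
  rw [IsCyclic.exponent_eq_card, hU] at this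
  have h1 := Nat.le_of_dvd hp.out.pos this
  have h2 := hp.out.one_lt
  nlinarith

theorem dec_two {E U V : Subgroup G} (hE : Nat.card E = p ^ 2)
    (hc : ∀ e ∈ E, ∀ e' ∈ E, Commute e e') (lU : U ≤ E) (lV : V ≤ E) (cU : Nat.card U = p)
    (cV : Nat.card V = p) (h : U ≠ V) {e : G} (he : e ∈ E) : ∃ u ∈ U, ∃ v ∈ V, u * v = e := by
  have hn : V ≤ 𝐍[U] := norm_of_cent fun v hv => mem_cent.2 fun u hu => hc _ (lU hu) _ (lV hv)
  have : U ⊔ V = E := eq_of_le_of_card_ge (sup_le lU lV) (by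
    rw [FT.card_sup_of_inf_eq_bot hn (line_inf cU cV h), cU, cV, hE, sq])
  exact (mem_sup_norm hn).1 (this ▸ he)

/-- An element normalizing three lines acts as a scalar. -/
theorem scal {E U₁ U₂ U₃ : Subgroup G} (hE : Nat.card E = p ^ 2)
    (hc : ∀ e ∈ E, ∀ e' ∈ E, Commute e e') (l1 : U₁ ≤ E) (l2 : U₂ ≤ E) (l3 : U₃ ≤ E)
    (c1 : Nat.card U₁ = p) (c2 : Nat.card U₂ = p) (c3 : Nat.card U₃ = p) (n12 : U₁ ≠ U₂)
    (n13 : U₁ ≠ U₃) (n23 : U₂ ≠ U₃) {g : G} (g1 : g ∈ 𝐍[U₁]) (g2 : g ∈ 𝐍[U₂]) (g3 : g ∈ 𝐍[U₃]) :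
    ∃ k : ℕ, ∀ e ∈ E, g * e * g⁻¹ = e ^ k := by
  obtain ⟨e, he, e1⟩ := exists_gen c3
  obtain ⟨u, hu, v, hv, rfl⟩ := dec_two hE hc l1 l2 c1 c2 n12 (l3 he)
  have u1 : u ≠ 1 := by
    rintro rfl
    rw [one_mul] at he e1
    exact n23 (line_eq c2 c3 hv he e1)
  have v1 : v ≠ 1 := by
    rintro rfl
    rw [mul_one] at he e1
    exact n13 (line_eq c1 c3 hu he e1)
  obtain ⟨k, hk⟩ := exists_npow ((zp_eq c3 he e1).ge (conj_mem_of_norm g3 he))
  have e2 : (u ^ k)⁻¹ * (g * u * g⁻¹) = v ^ k * (g * v * g⁻¹)⁻¹ := by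
    rw [inv_mul_eq_iff_eq_mul, ← mul_assoc, ← (hc _ (l1 hu) _ (l2 hv)).mul_pow, ← hk]; group
  have e3 : (u ^ k)⁻¹ * (g * u * g⁻¹) = 1 := (line_inf c1 c2 n12).le (mem_inf.2
    ⟨mul_mem (inv_mem (pow_mem hu k)) (conj_mem_of_norm g1 hu),
      e2 ▸ mul_mem (pow_mem hv k) (inv_mem (conj_mem_of_norm g2 hv))⟩)
  rw [e3, eq_comm, mul_inv_eq_one] at e2
  rw [inv_mul_eq_one] at e3
  refine ⟨k, fun d hd => ?_⟩
  obtain ⟨u', hu', v', hv', rfl⟩ := dec_two hE hc l1 l2 c1 c2 n12 hd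
  obtain ⟨i, rfl⟩ := exists_npow ((zp_eq c1 hu u1).ge hu')
  obtain ⟨j, rfl⟩ := exists_npow ((zp_eq c2 hv v1).ge hv')
  rw [(hc _ (l1 hu') _ (l2 hv')).mul_pow, ← pow_mul, ← pow_mul, mul_comm i, mul_comm j, pow_mul,
    pow_mul, e2, e3, conj_pow, conj_pow]
  group

end Alg

variable {G : Type u} {X : Type v} [Group G] [MulAction G X]
  {N R : X → Subgroup G} {x y : X} {p : ℕ} [hp : Fact p.Prime] {W : Subgroup G}

/-- The elements of `N z` fixing the line pointwise. -/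
abbrev Az (N : X → Subgroup G) (x y z : X) : Subgroup G := N z ⊓ fixingSubgroup G (ln N x y)

/-- The stabilizer of the line. -/
def Gm (N : X → Subgroup G) (x y : X) : Subgroup G where
  carrier := {g | ∀ c, g • c ∈ ln N x y ↔ c ∈ ln N x y}
  mul_mem' {g h} hg hh c := by rw [mul_smul, hg, hh]
  one_mem' c := by rw [one_smul]
  inv_mem' {g} hg c := by rw [← hg, smul_inv_smul]

theorem mem_Az {z : X} {e : G} : e ∈ Az N x y z ↔ e ∈ N z ∧ ∀ c ∈ ln N x y, e • c = c :=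
  and_congr Iff.rfl (mem_fixingSubgroup_iff G)

theorem Az_le {z : X} (hz : z ∈ ln N x y) : Az N x y z ≤ El N x y := fun _ he =>
  subset_closure ⟨⟨z, hz, he.1⟩, (mem_Az.1 he).2⟩

theorem Fam.conj_Az (h : Fam N) {g e : G} (hg : g ∈ Gm N x y) {z : X} (he : e ∈ Az N x y z) :
    g * e * g⁻¹ ∈ Az N x y (g • z) :=
  mem_Az.2 ⟨h.conj g z e he.1, fun c hc =>
    conj_smul_iff'.2 ((mem_Az.1 he).2 _ (((Gm N x y).inv_mem hg c).2 hc))⟩

variable [Finite G] [Finite X]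

omit [Finite X] in
theorem Fam.norm_Az (h : Fam N) {g : G} (hg : g ∈ Gm N x y) {z : X} (hz : g • z = z) :
    g ∈ 𝐍[Az N x y z] :=
  mem_norm_of_cj_le (cj_le_iff.2 fun _ he => by simpa only [hz] using h.conj_Az hg he)

namespace OD

variable (h : OD N R p) (hxy : x ≠ y)
include h hxy

omit [Finite G] [Finite X] hp in
theorem card_Az {z : X} (hz : z ∈ ln N x y) : Nat.card (Az N x y z) = p := by
  obtain ⟨w, hw, hzw⟩ : ∃ w ∈ ln N x y, z ≠ w := by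
    by_cases e : z = x
    exacts [⟨y, right_mem_ln x y, e ▸ hxy⟩, ⟨x, h.fam.left_mem_ln x y, e⟩]
  rw [← h.cardK hzw]
  congr 2
  ext e
  rw [mem_Az]
  exact ⟨fun he => ⟨he.1, he.2 w hw⟩, fun he => ⟨he.1, fun c hc =>
    (h.lnK hxy hz hw hzw ▸ hc : c ∈ ln N z w) e he⟩⟩

omit [Finite G] [Finite X] hp in
theorem Az_ne {z w : X} (hz : z ∈ ln N x y) (hzw : z ≠ w) [Fact p.Prime] :
    Az N x y z ≠ Az N x y w := fun e => by
  obtain ⟨a, ha, a1⟩ := exists_gen (h.card_Az hxy hz)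
  exact a1 (h.ti hzw a ha.1 (e ▸ ha : a ∈ Az N x y w).1)

omit [Finite G] [Finite X] hp in
theorem mem_Gm {g : G} {z w : X} (hz : z ∈ ln N x y) (hw : w ∈ ln N x y) (hzw : z ≠ w)
    (gz : g • z ∈ ln N x y) (gw : g • w ∈ ln N x y) : g ∈ Gm N x y := fun c => by
  have := h.fam.smul_mem_ln_iff (x := z) (y := w) (g := g) (z := c)
  rwa [h.lnK hxy hz hw hzw, h.lnK hxy gz gw (by simpa using hzw)] at this

theorem conj_El {g e : G} (hg : g ∈ Gm N x y) (he : e ∈ El N x y) : g * e * g⁻¹ ∈ El N x y := by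
  have := conj_mem_cj (g := g) he
  rwa [h.fam.cj_El, h.el_eq hxy ((hg x).2 (h.fam.left_mem_ln x y)) ((hg y).2 (right_mem_ln x y))
    (by simpa using hxy)] at this

omit hxy [Finite G] [Finite X] hp in
theorem el_norm : El N x y ≤ 𝐍[R x] := fun _ he =>
  h.famR.mem_norm (el_fix he (h.fam.left_mem_ln x y))

theorem el_cop {U : Subgroup G} (hU : U ≤ El N x y) : (Nat.card (R x)).Coprime (Nat.card U) := by
  have : IsPGroup p U := pg_iff.2 fun u hu => ⟨1, by rw [pow_one, h.el_pow hxy (hU hu)]⟩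
  obtain ⟨n, hn⟩ := this.exists_card_eq
  rw [hn]
  exact ((hp.out.coprime_iff_not_dvd.2 (h.cop x)).symm).pow_right n

theorem el_ab {U : Subgroup G} (hU : U ≤ El N x y) : IsMulCommutative U :=
  ⟨⟨fun a b => Subtype.ext (h.el_comm hxy (hU a.2) (hU b.2))⟩⟩

theorem el_ord {e : G} (he : e ∈ El N x y) (e1 : e ≠ 1) : orderOf e = p :=
  orderOf_eq_prime (h.el_pow hxy he) e1

theorem nt {e w : G} (he : e ∈ El N x y) (hw : w ∈ El N x y) (hn : e ∉ zpowers w)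
    (hA : ∀ i : ℕ, ∃ z ∈ ln N x y, e * w ^ i ∈ N z) : w = 1 := by
  by_contra w1
  have e1 : e ≠ 1 := fun e1 => hn (e1 ▸ one_mem _)
  have oe := h.el_ord hxy he e1
  have ow := h.el_ord hxy hw w1
  have c := h.el_comm hxy he hw
  have nm : w ∉ zpowers e := fun m => hn ((zp_eq (p := p) (by rw [Nat.card_zpowers, oe]) m w1).ge
    (mem_zpowers e))
  have hU : zpowers e ⊔ zpowers w ≤ El N x y := sup_le (zpowers_le.2 he) (zpowers_le.2 hw)
  have := FT.coprime_abelian_gen_cent1 (K := centralizer {w}) (h.el_ab hxy hU)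
    (not_cyc (card_zp_sup oe ow c nm) fun u hu => h.el_pow hxy (hU hu)) (hU.trans h.el_norm)
    (h.el_cop hxy hU) fun u hu u1 r hr => by
      obtain ⟨i, hi, -⟩ := lg_unique oe ow c nm hu u1
      have mm : lg e w i ∈ zpowers u := (zp_eq (p := p)
        (by rw [Nat.card_zpowers, orderOf_lg oe ow c nm]) hi u1).ge (mem_zpowers _)
      have cr : Commute r (lg e w i) := (mem_cent.1 (cent_zp u ▸ hr.2) _ mm).symm
      rcases i with _ | m
      · exact mem_centralizer_singleton_iff.2 cr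
      · obtain ⟨z, hz, hN⟩ := hA m.val
        rw [h.fpf hxy hz _ hN (fun e' => by
          have := orderOf_lg oe ow c nm (some m)
          rw [show lg e w (some m) = 1 from e', orderOf_one] at this
          exact hp.out.one_lt.ne this)
          (fun c hc => el_fix (mul_mem he (pow_mem hw _)) hc) r hr.1 cr]
        exact one_mem _
  exact w1 (h.el_faith hxy hw fun r hr => mem_centralizer_singleton_iff.1 (this hr))

theorem triv {σ e w : G} (hσ : σ ∈ Gm N x y) {z : X} (hz : z ∈ ln N x y) (he : e ∈ Az N x y z)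
    (hw : w ∈ El N x y) (hn : e ∉ zpowers w) (c : Commute σ w) (k : σ * e * σ⁻¹ = e * w) :
    w = 1 :=
  h.nt hxy (Az_le hz he) hw hn fun i =>
    ⟨σ ^ i • z, (pow_mem hσ i z).2 hz, conj_iter c k i ▸ h.fam.conj _ _ _ he.1⟩

omit [Finite G] [Finite X] in
theorem fix_of_cent {g : G} (hg : ∀ e ∈ El N x y, Commute g e) {c : X} (hc : c ∈ ln N x y) :
    g • c = c := by
  obtain ⟨a, ha, a1⟩ := exists_gen (h.card_Az hxy hc)
  exact h.cent_le ha.1 a1 (hg a (Az_le hc ha))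

theorem exists_gd : ∃ W, Gd N R p x y W := by
  by_contra hn
  refine h.R1 x (eq_bot_iff.2 (FT.coprime_abelian_gen_cent (h.el_ab hxy le_rfl) h.el_norm
    (h.el_cop hxy le_rfl) fun B hB hc => ?_))
  by_contra h1
  have n : El N x y ≤ 𝐍[B] :=
    norm_of_cent fun v hv => mem_cent.2 fun u hu => h.el_comm hxy (hB hu) hv
  have := Monoid.exponent_dvd_of_forall_pow_eq_one (G := FT.quot (El N x y) B) (n := p) fun u => by
    obtain ⟨d, hd, e⟩ := FT.mem_quot.1 u.2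
    refine Subtype.ext ?_
    rw [coe_pow, ← e, ← map_pow, show d ^ p = 1 from Subtype.ext (h.el_pow hxy hd), map_one]
    rfl
  rw [IsCyclic.exponent_eq_card, FT.card_quot n, Nat.dvd_prime hp.out] at this
  have h1' : R x ⊓ 𝐂[B] ≠ ⊥ := fun e => h1 e.le
  refine hn ⟨B, hB, this.resolve_left fun e => ?_, h1'⟩
  have hx := h.fam.left_mem_ln x y
  obtain ⟨a, ha, a1⟩ := exists_gen (h.card_Az hxy hx)
  exact h1 fun r hr => h.fpf hxy hx a ha.1 a1 (mem_Az.1 ha).2 r hr.1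
    (mem_cent.1 hr.2 a (relIndex_eq_one.1 e (Az_le hx ha))).symm

variable (k : Gd N R p x y W)
include k

omit [Finite G] [Finite X] hp in
theorem gd_dis {z : X} (hz : z ∈ ln N x y) {e : G} (he : e ∈ N z) (hW : e ∈ W) : e = 1 := by
  by_contra e1
  exact k.ne (eq_bot_iff.2 fun r hr => h.fpf hxy hz e he e1 (fun c hc => el_fix (k.le hW) hc) r
    hr.1 (mem_cent.1 hr.2 e hW).symm)

theorem gd_dec {z : X} (hz : z ∈ ln N x y) {a e : G} (ha : a ∈ Az N x y z) (a1 : a ≠ 1)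
    (he : e ∈ El N x y) : ∃ w ∈ W, ∃ i : ℕ, e = w * a ^ i := by
  have hn : Az N x y z ≤ 𝐍[W] :=
    norm_of_cent fun v hv => mem_cent.2 fun u hu => h.el_comm hxy (k.le hu) (Az_le hz hv)
  have : W ⊔ Az N x y z = El N x y := eq_of_le_of_card_ge (sup_le k.le (Az_le hz)) (by
    rw [FT.card_sup_of_inf_eq_bot hn (eq_bot_iff.2 fun u hu => h.gd_dis hxy k hz hu.2.1 hu.1),
      h.card_Az hxy hz, ← FT.card_mul_relIndex_of_le k.le, k.idx])
  obtain ⟨w, hw, v, hv, rfl⟩ := (mem_sup_norm hn).1 (this ▸ he)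
  obtain ⟨i, rfl⟩ := exists_npow ((zp_eq (h.card_Az hxy hz) ha a1).ge hv)
  exact ⟨w, hw, i, rfl⟩

theorem gd_triv {σ a w : G} (hσ : σ ∈ Gm N x y) (hc : σ ∈ 𝐂[W]) (ha : a ∈ Az N x y x)
    (a1 : a ≠ 1) (hw : w ∈ W) (e : σ * a * σ⁻¹ = a * w) : ∀ e ∈ El N x y, Commute σ e := by
  have hx := h.fam.left_mem_ln x y
  have := h.triv hxy hσ hx ha (k.le hw)
    (fun m => a1 (h.gd_dis hxy k hx ha.1 (zpowers_le.2 hw m))) (mem_cent.1 hc w hw).symm e
  rw [this, mul_one, mul_inv_eq_iff_eq_mul] at e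
  intro d hd
  obtain ⟨u, hu, i, rfl⟩ := h.gd_dec hxy k hx ha a1 hd
  exact Commute.mul_right (mem_cent.1 hc u hu).symm (Commute.pow_right e i)

theorem gd_comm {σ τ : G} (hσ : σ ∈ Gm N x y) (cσ : σ ∈ 𝐂[W]) (hτ : τ ∈ Gm N x y)
    (cτ : τ ∈ 𝐂[W]) : ∀ e ∈ El N x y, Commute ((τ * σ)⁻¹ * (σ * τ)) e := by
  have hx := h.fam.left_mem_ln x y
  obtain ⟨a, ha, a1⟩ := exists_gen (h.card_Az hxy hx)
  obtain ⟨w₁, m1, i, e1⟩ := h.gd_dec hxy k hx ha a1 (h.conj_El hxy hσ (Az_le hx ha))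
  obtain ⟨w₂, m2, j, e2⟩ := h.gd_dec hxy k hx ha a1 (h.conj_El hxy hτ (Az_le hx ha))
  obtain ⟨u, hu, e⟩ := conj_comm (fun u hu => h.el_comm hxy (k.le hu) (Az_le hx ha))
    (cent_le_norm W cσ) (cent_le_norm W cτ) m1 m2 e1 e2
  exact h.gd_triv hxy k (mul_mem (inv_mem (mul_mem hτ hσ)) (mul_mem hσ hτ))
    (mul_mem (inv_mem (mul_mem cτ cσ)) (mul_mem cσ cτ)) ha a1 hu e

theorem gd_sig {z : X} (hz : z ∈ ln N x y) : ∃ σ ∈ 𝐂[W], σ ∈ Gm N x y ∧ σ • x = z := by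
  obtain ⟨σ, c, e, hσ⟩ := h.gd_sigma hxy k hz
  exact ⟨σ, c, h.mem_Gm hxy (h.fam.left_mem_ln x y) (right_mem_ln x y) hxy
    (hσ _ (h.fam.left_mem_ln x y)) (hσ _ (right_mem_ln x y)), e⟩

omit k in
theorem card_El : Nat.card (El N x y) = p ^ 2 := by
  obtain ⟨W, k⟩ := h.exists_gd hxy
  have hx := h.fam.left_mem_ln x y
  have hy := right_mem_ln (N := N) x y
  obtain ⟨a, ha, a1⟩ := exists_gen (h.card_Az hxy hx)
  have aE := Az_le hx ha
  obtain ⟨τ, cτ, hτ, τx⟩ := h.gd_sig hxy k hy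
  obtain ⟨w₀, m0, j, e0⟩ := h.gd_dec hxy k hx ha a1 (h.conj_El hxy hτ aE)
  have hj : a ^ j ≠ a := fun e => hxy (((h.fix_of_cent hxy (h.gd_triv hxy k hτ cτ ha a1 m0
    (by rw [e0, e, (h.el_comm hxy (k.le m0) aE).eq])) hx).symm.trans τx))
  have le : El N x y ≤ zpowers w₀ ⊔ zpowers a := by
    rw [El, closure_le]
    rintro e ⟨⟨z, hz, he⟩, hf⟩
    obtain ⟨σ, cσ, hσ, rfl⟩ := h.gd_sig hxy k hz
    obtain ⟨w, m, i, e1⟩ := h.gd_dec hxy k hx ha a1 (h.conj_El hxy hσ aE)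
    refine ((zp_eq (h.card_Az hxy hz) (h.fam.conj_Az hσ ha) (by simpa using a1)).ge.trans
      (zpowers_le.2 ?_)) (mem_Az.2 ⟨he, hf⟩)
    rw [e1]
    refine mul_mem (mem_sup_left ?_) (mem_sup_right (npow_mem_zpowers a i))
    have f1 := conj_two (h.el_comm hxy (k.le m) aE) e1 e0
    have f2 := conj_two (h.el_comm hxy (k.le m0) aE) e0 e1
    have f3 : σ * τ * a * (σ * τ)⁻¹ = τ * σ * a * (τ * σ)⁻¹ := by
      calc _ = τ * σ * ((τ * σ)⁻¹ * (σ * τ) * a) * (σ * τ)⁻¹ := by group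
        _ = _ := by rw [(h.gd_comm hxy k hσ cσ hτ cτ a aE).eq]; group
    rw [f1, f2, mul_comm j i, mul_left_inj, ← mem_cent.1 cσ w₀ m0, ← mem_cent.1 cτ w m,
      mul_inv_cancel_right, mul_inv_cancel_right] at f3
    by_cases w1 : w = 1
    · rw [w1]; exact one_mem _
    have f4 : w ^ j * w⁻¹ = w₀⁻¹ * w₀ ^ i := by
      rw [eq_inv_mul_iff_mul_eq, ← mul_assoc, f3, (h.el_comm hxy (k.le m) (k.le (pow_mem m0 i))).eq,
        mul_inv_cancel_right]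
    have ow := h.el_ord hxy (k.le m) w1
    refine ((zp_eq (p := p) (U := zpowers w) (by rw [Nat.card_zpowers, ow])
      (mul_mem (npow_mem_zpowers w j) (inv_mem (mem_zpowers w))) fun e => hj ?_).ge.trans
      (zpowers_le.2 ?_)) (mem_zpowers w)
    · rw [mul_inv_eq_one, ← pow_one w, ← pow_mul, one_mul, pow_eq_pow_iff_modEq, ow,
        ← h.el_ord hxy aE a1, ← pow_eq_pow_iff_modEq, pow_one] at e
      exact e
    · rw [f4]; exact mul_mem (inv_mem (mem_zpowers _)) (npow_mem_zpowers _ i)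
  refine Nat.dvd_antisymm ((card_dvd_of_le le).trans ((FT.card_sup_dvd
    (zp_norm (h.el_comm hxy (k.le m0) aE))).trans ?_)) ?_
  · rw [Nat.card_zpowers, Nat.card_zpowers, sq]
    exact mul_dvd_mul (orderOf_dvd_of_pow_eq_one (h.el_pow hxy (k.le m0)))
      (orderOf_dvd_of_pow_eq_one (h.el_pow hxy aE))
  · have hn : Az N x y y ≤ 𝐍[Az N x y x] :=
      norm_of_cent fun v hv => mem_cent.2 fun u hu => h.el_comm hxy (Az_le hx hu) (Az_le hy hv)
    have := card_dvd_of_le (sup_le (Az_le hx) (Az_le hy))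
    rwa [FT.card_sup_of_inf_eq_bot hn (line_inf (h.card_Az hxy hx) (h.card_Az hxy hy)
      (h.Az_ne hxy hx hxy)), h.card_Az hxy hx, h.card_Az hxy hy, ← sq] at this

theorem card_gd : Nat.card W = p := by
  have := FT.card_mul_relIndex_of_le k.le
  rw [k.idx, h.card_El hxy, sq] at this
  exact Nat.eq_of_mul_eq_mul_right hp.out.pos this

end OD

end Cfsg.Agent.OT
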