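import Mathlib
import Cfsg.Agent.OT.O3A
import Cfsg.Agent.OT.O3BA

/-!
# The solvable configuration: exactly two good subgroups
-/

set_option autoImplicit false

namespace Cfsg.Agent.OT

open Subgroup MulAction Cfsg.Agent.TT Cfsg.Agent.Perm Cfsg.Agent.Perm.TT Cfsg.Agent.Loc.Mss
open Cfsg.Agent.Perm.TwoCount Cfsg.Agent.Perm.RankOne

universe u v

variable {G : Type u} {X : Type v} [Group G] [Finite G] [MulAction G X] [Finite X]
  {N R : X → Subgroup G} {x y : X} {p : ℕ} [hp : Fact p.Prime] {W : Subgroup G}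

namespace OD

variable (h : OD N R p) (hxy : x ≠ y)
include h hxy

theorem el_dec {U V : Subgroup G} (lU : U ≤ El N x y) (lV : V ≤ El N x y) (cU : Nat.card U = p)
    (cV : Nat.card V = p) (n : U ≠ V) {e : G} (he : e ∈ El N x y) :
    ∃ u ∈ U, ∃ v ∈ V, u * v = e :=
  dec_two (h.card_El hxy) (fun _ he _ he' => h.el_comm hxy he he') lU lV cU cV n he

/-- The two-point stabilizer fixes the line pointwise. -/
theorem st2_fix {g : G} (gx : g • x = x) (gy : g • y = y) {z : X} (hz : z ∈ ln N x y) :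
    g • z = z := by
  by_cases e : z = x
  · rw [e, gx]
  have hx := h.fam.left_mem_ln x y
  have hy := right_mem_ln (N := N) x y
  obtain ⟨k, kx, rfl⟩ := h.two.two hxy (Ne.symm e)
  have hg : g ∈ Gm N x y := h.mem_Gm hxy hx hy hxy (by rwa [gx]) (by rwa [gy])
  have hk : k ∈ Gm N x y := h.mem_Gm hxy hx hy hxy (by rwa [kx]) hz
  have cx := h.card_Az hxy hx
  have cy := h.card_Az hxy hy
  obtain ⟨a, ha, a1⟩ := exists_gen cx
  obtain ⟨f, hf, f1⟩ := exists_gen cy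
  have ng := h.fam.norm_Az hg gx
  have nk := h.fam.norm_Az hk kx
  obtain ⟨i, hi⟩ := exists_npow ((zp_eq cx ha a1).ge (conj_mem_of_norm ng ha))
  obtain ⟨j, hj⟩ := exists_npow ((zp_eq cx ha a1).ge (conj_mem_of_norm nk ha))
  obtain ⟨u, hu, e1⟩ := conj_comm (U := ⊥) (e := a) (σ := g) (τ := k) (i := i) (j := j)
    (fun u hu => by rw [mem_bot.1 hu]; exact Commute.one_left a) (norm_normal ⊤ ⊥ trivial)
    (norm_normal ⊤ ⊥ trivial) (one_mem _) (one_mem _) (by rw [hi, one_mul]) (by rw [hj, one_mul])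
  rw [mem_bot.1 hu, mul_one, mul_inv_eq_iff_eq_mul] at e1
  have dec : ∀ {d : G}, d ∈ Gm N x y → ∃ u ∈ Az N x y x, ∃ i : ℕ, d * f * d⁻¹ = u * f ^ i :=
    fun hd => by
      obtain ⟨u, hu, v, hv, e⟩ := h.el_dec hxy (Az_le hx) (Az_le hy) cx cy (h.Az_ne hxy hx hxy)
        (h.conj_El hxy hd (Az_le hy hf))
      obtain ⟨i, rfl⟩ := exists_npow ((zp_eq cy hf f1).ge hv)
      exact ⟨u, hu, i, e.symm⟩
  obtain ⟨u₁, m1, i', e2⟩ := dec hg
  obtain ⟨u₂, m2, j', e3⟩ := dec hk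
  obtain ⟨w, hw, e4⟩ := conj_comm (fun u hu => h.el_comm hxy (Az_le hx hu) (Az_le hy hf))
    ng nk m1 m2 e2 e3
  have ca : ∀ u ∈ Az N x y x, Commute ((k * g)⁻¹ * (g * k)) u := fun u hu => by
    obtain ⟨n, rfl⟩ := exists_npow ((zp_eq cx ha a1).ge hu)
    exact Commute.pow_right e1 n
  have w1 := h.triv hxy (mul_mem (inv_mem (mul_mem hk hg)) (mul_mem hg hk)) hy hf (Az_le hx hw)
    (fun m => f1 (h.ti hxy f (zpowers_le.2 hw m).1 hf.1)) (ca w hw) e4
  rw [w1, mul_one, mul_inv_eq_iff_eq_mul] at e4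
  have := h.cent_le hf.1 f1 e4
  rwa [mul_smul, inv_smul_eq_iff, mul_smul, mul_smul, gy] at this

theorem two_fix {g : G} {z w c : X} (hz : z ∈ ln N x y) (hw : w ∈ ln N x y) (hzw : z ≠ w)
    (gz : g • z = z) (gw : g • w = w) (hc : c ∈ ln N x y) : g • c = c :=
  h.st2_fix hzw gz gw (by rwa [h.lnK hxy hz hw hzw])

theorem el_scal {U₁ U₂ U₃ : Subgroup G} (l1 : U₁ ≤ El N x y) (l2 : U₂ ≤ El N x y)
    (l3 : U₃ ≤ El N x y) (c1 : Nat.card U₁ = p) (c2 : Nat.card U₂ = p) (c3 : Nat.card U₃ = p)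
    (n12 : U₁ ≠ U₂) (n13 : U₁ ≠ U₃) (n23 : U₂ ≠ U₃) {g : G} (g1 : g ∈ 𝐍[U₁]) (g2 : g ∈ 𝐍[U₂])
    (g3 : g ∈ 𝐍[U₃]) : ∃ k : ℕ, ∀ e ∈ El N x y, g * e * g⁻¹ = e ^ k :=
  scal (h.card_El hxy) (fun _ he _ he' => h.el_comm hxy he he') l1 l2 l3 c1 c2 c3 n12 n13 n23
    g1 g2 g3

theorem st2_scal (h3 : 3 ≤ (ln N x y).ncard) {g : G} (gx : g • x = x) (gy : g • y = y) :
    ∃ k : ℕ, ∀ e ∈ El N x y, g * e * g⁻¹ = e ^ k := by
  obtain ⟨z, hz, zx, zy⟩ : ∃ z ∈ ln N x y, x ≠ z ∧ y ≠ z := by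
    by_contra! hn
    have : (ln N x y).ncard ≤ ({x, y} : Set X).ncard := Set.ncard_le_ncard fun z hz => by
      by_cases e : x = z
      exacts [Or.inl e.symm, Or.inr (hn z hz e).symm]
    rw [Set.ncard_pair hxy] at this
    omega
  have hx := h.fam.left_mem_ln x y
  have hy := right_mem_ln (N := N) x y
  have hg : g ∈ Gm N x y := h.mem_Gm hxy hx hy hxy (by rwa [gx]) (by rwa [gy])
  exact h.el_scal hxy (Az_le hx) (Az_le hy) (Az_le hz) (h.card_Az hxy hx) (h.card_Az hxy hy)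
    (h.card_Az hxy hz) (h.Az_ne hxy hx hxy) (h.Az_ne hxy hx zx) (h.Az_ne hxy hy zy)
    (h.fam.norm_Az hg gx) (h.fam.norm_Az hg gy) (h.fam.norm_Az hg (h.st2_fix hxy gx gy hz))

theorem gd_fpf (k : Gd N R p x y W) :
    ∃ σ ∈ 𝐂[W], σ ∈ Gm N x y ∧ σ • x = y ∧ ∀ z ∈ ln N x y, σ • z ≠ z := by
  obtain ⟨σ, c, hσ, e⟩ := h.gd_sig hxy k (right_mem_ln x y)
  refine ⟨σ, c, hσ, e, fun z hz σz => hxy ?_⟩
  obtain ⟨τ, cτ, hτ, rfl⟩ := h.gd_sig hxy k hz
  have := h.fix_of_cent hxy (h.gd_comm hxy k hσ c hτ cτ) (h.fam.left_mem_ln x y)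
  rwa [mul_smul, inv_smul_eq_iff, mul_smul, mul_smul, σz, e, smul_left_cancel_iff] at this

theorem fpf_unique {σ σ' : G} (hσ : σ ∈ Gm N x y) (hσ' : σ' ∈ Gm N x y) (e : σ • x = y)
    (e' : σ' • x = y) (f : ∀ z ∈ ln N x y, σ • z ≠ z) (f' : ∀ z ∈ ln N x y, σ' • z ≠ z) :
    σ • y = σ' • y := by
  by_contra hn
  have hx := h.fam.left_mem_ln x y
  have hy := right_mem_ln (N := N) x y
  have ex : ∀ z : ln N x y, ∃ g ∈ Gm N x y, g • x = y ∧ (∀ c ∈ ln N x y, g • c = c → c = z) ∧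
      (x ≠ z → y ≠ z → g • (z : X) = z) ∧ (x = z → g = σ) ∧ (y = z → g = σ') := fun z => by
    by_cases zx : x = z
    · exact ⟨σ, hσ, e, fun c hc k => (f c hc k).elim, fun k => (k zx).elim, fun _ => rfl,
        fun k => (hxy (zx.trans k.symm)).elim⟩
    by_cases zy : y = z
    · exact ⟨σ', hσ', e', fun c hc k => (f' c hc k).elim, fun _ k => (k zy).elim,
        fun k => (zx k).elim, fun _ => rfl⟩
    obtain ⟨g, gx, gz⟩ := h.two.two zx zy
    refine ⟨g, h.mem_Gm hxy hx z.2 zx (by rwa [gx]) (by rw [gz]; exact z.2), gx,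
      fun c hc gc => by_contra fun k => hxy ?_, fun _ _ => gz, fun k => (zx k).elim,
      fun k => (zy k).elim⟩
    exact (h.two_fix hxy hc z.2 k gc gz hx).symm.trans gx
  choose g hg gx g1 g2 g3 g4 using ex
  have inj : Function.Injective fun z : ln N x y => (⟨g z • y, (hg z y).2 hy⟩ : ln N x y) := by
    intro z z' k
    replace k : g z • y = g z' • y := congrArg Subtype.val k
    have ag : ∀ c ∈ ln N x y, g z • c = g z' • c := fun c hc => by
      have := h.st2_fix hxy (g := (g z')⁻¹ * g z) (by rw [mul_smul, gx, inv_smul_eq_iff, gx])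
        (by rw [mul_smul, k, inv_smul_smul]) hc
      rwa [mul_smul, inv_smul_eq_iff] at this
    by_cases a : x ≠ z ∧ y ≠ z
    · exact Subtype.ext (g1 z' z z.2 ((ag z z.2).symm.trans (g2 z a.1 a.2)))
    by_cases a' : x ≠ z' ∧ y ≠ z'
    · exact (Subtype.ext (g1 z z' z'.2 ((ag z' z'.2).trans (g2 z' a'.1 a'.2)))).symm
    rw [not_and_or, not_not, not_not] at a a'
    rcases a with a | a <;> rcases a' with a' | a'
    · exact Subtype.ext (a.symm.trans a')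
    · exact (hn (by rwa [g3 z a, g4 z' a'] at k)).elim
    · exact (hn (by rw [g4 z a, g3 z' a'] at k; exact k.symm)).elim
    · exact Subtype.ext (a.symm.trans a')
  obtain ⟨z, hz⟩ := Finite.injective_iff_surjective.1 inj ⟨y, hy⟩
  replace hz : g z • y = y := congrArg Subtype.val hz
  exact hxy (smul_left_cancel (g z) ((gx z).trans hz.symm))

theorem not_three (h3 : 3 ≤ (ln N x y).ncard) {W₁ W₂ W₃ : Subgroup G} (k1 : Gd N R p x y W₁)
    (k2 : Gd N R p x y W₂) (k3 : Gd N R p x y W₃) (n12 : W₁ ≠ W₂) (n13 : W₁ ≠ W₃)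
    (n23 : W₂ ≠ W₃) : False := by
  obtain ⟨σ, c, hσ, e, f⟩ := h.gd_fpf hxy k1
  have nm : ∀ {W : Subgroup G}, Gd N R p x y W → σ ∈ 𝐍[W] := fun {W} k => by
    obtain ⟨σ', c', hσ', e', f'⟩ := h.gd_fpf hxy k
    obtain ⟨n, hn⟩ := h.st2_scal hxy h3 (g := σ'⁻¹ * σ) (by rw [mul_smul, e, inv_smul_eq_iff, e'])
      (by rw [mul_smul, h.fpf_unique hxy hσ hσ' e e' f f', inv_smul_smul])
    refine mem_norm_of_cj_le (cj_le_iff.2 fun w hw => ?_)
    have : σ * w * σ⁻¹ = σ' * w ^ n * σ'⁻¹ := by rw [← hn w (k.le hw)]; group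
    rw [this]
    exact conj_mem_of_norm (cent_le_norm W c') (pow_mem hw n)
  obtain ⟨n, hn⟩ := h.el_scal hxy k1.le k2.le k3.le (h.card_gd hxy k1) (h.card_gd hxy k2)
    (h.card_gd hxy k3) n12 n13 n23 (nm k1) (nm k2) (nm k3)
  have hx := h.fam.left_mem_ln x y
  obtain ⟨a, ha, a1⟩ := exists_gen (h.card_Az hxy hx)
  have := h.ti hxy (σ * a * σ⁻¹) (by rw [hn a (Az_le hx ha)]; exact pow_mem ha.1 n)
    (h.fam.conj' e ha.1)
  exact a1 (by simpa using this)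

theorem gd_zp {u : G} (hu : u ∈ El N x y) (u1 : u ≠ 1) (n : R x ⊓ centralizer {u} ≠ ⊥) :
    Gd N R p x y (zpowers u) := by
  refine ⟨zpowers_le.2 hu, ?_, by rwa [cent_zp]⟩
  have := FT.card_mul_relIndex_of_le (zpowers_le.2 hu)
  rw [Nat.card_zpowers, h.el_ord hxy hu u1, h.card_El hxy, sq] at this
  exact Nat.eq_of_mul_eq_mul_left hp.out.pos this

theorem exists_gd_ne (k : Gd N R p x y W) : ∃ W', Gd N R p x y W' ∧ W ≠ W' := by
  by_contra! hn
  have := FT.coprime_abelian_gen_cent1 (K := 𝐂[W]) (h.el_ab hxy le_rfl)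
    (not_cyc (h.card_El hxy) fun u hu => h.el_pow hxy hu) h.el_norm (h.el_cop hxy le_rfl)
    fun u hu u1 => by
      by_cases n : R x ⊓ centralizer {u} = ⊥
      · rw [n]; exact bot_le
      · rw [hn _ (h.gd_zp hxy hu u1 n), cent_zp]; exact inf_le_right
  obtain ⟨w, hw, w1⟩ := exists_gen (h.card_gd hxy k)
  exact w1 (h.el_faith hxy (k.le hw) fun r hr => (mem_cent.1 (this hr) w hw).symm)

end OD

theorem OD.two_gd (h : OD N R p) (hxy : x ≠ y) (h3 : 3 ≤ (ln N x y).ncard) :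
    ∃ W₁ W₂ : Subgroup G, Gd N R p x y W₁ ∧ Gd N R p x y W₂ ∧ W₁ ≠ W₂ ∧
      (∀ W, Gd N R p x y W → W = W₁ ∨ W = W₂) ∧ (R x ⊓ 𝐂[W₁]) ⊓ (R x ⊓ 𝐂[W₂]) = ⊥ ∧
      Nat.card (R x) = Nat.card ↥(R x ⊓ 𝐂[W₁]) * Nat.card ↥(R x ⊓ 𝐂[W₂]) := by
  obtain ⟨W₁, k1⟩ := h.exists_gd hxy
  obtain ⟨W₂, k2, n⟩ := h.exists_gd_ne hxy k1
  have c1 := h.card_gd hxy k1
  have c2 := h.card_gd hxy k2
  have all : ∀ W, Gd N R p x y W → W = W₁ ∨ W = W₂ := fun W k => by
    by_contra! hn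
    exact h.not_three hxy h3 k1 k2 k n hn.1.symm hn.2.symm
  have dis : (R x ⊓ 𝐂[W₁]) ⊓ (R x ⊓ 𝐂[W₂]) = ⊥ := eq_bot_iff.2 fun r hr => by
    have hx := h.fam.left_mem_ln x y
    obtain ⟨a, ha, a1⟩ := exists_gen (h.card_Az hxy hx)
    obtain ⟨u, hu, v, hv, e⟩ := h.el_dec hxy k1.le k2.le c1 c2 n (Az_le hx ha)
    exact h.fpf hxy hx a ha.1 a1 (mem_Az.1 ha).2 r hr.1.1 (e ▸ Commute.mul_right
      (mem_cent.1 hr.1.2 u hu).symm (mem_cent.1 hr.2.2 v hv).symm)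
  refine ⟨W₁, W₂, k1, k2, n, all, dis, ?_⟩
  obtain ⟨a, ha, a1⟩ := exists_gen c1
  obtain ⟨f, hf, f1⟩ := exists_gen c2
  obtain rfl := zp_eq c1 ha a1
  obtain rfl := zp_eq c2 hf f1
  have aE := k1.le ha
  have fE := k2.le hf
  have oa := h.el_ord hxy aE a1
  have of := h.el_ord hxy fE f1
  have c := h.el_comm hxy aE fE
  have nm : f ∉ zpowers a := fun m => n (line_eq c1 c2 m hf f1)
  have := h.nil x
  have key := wie_sq oa of c nm (h.el_norm aE) (h.el_norm fE) (h.cop x) inferInstance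
  have b : R x ⊓ centralizer {a, f} = ⊥ := eq_bot_iff.2 (dis ▸ by
    rw [cent_zp, cent_zp]
    exact le_inf (inf_le_inf_left _ (centralizer_le (by simp)))
      (inf_le_inf_left _ (centralizer_le (by simp))))
  rw [b, card_bot, one_pow, mul_one, Finset.prod_eq_single 0 (fun m _ m0 => ?_) (by simp)] at key
  · rw [← key, cent_zp, cent_zp]; simp
  have hm : lg a f (some m) ∈ zpowers a ⊔ zpowers f :=
    mul_mem (mem_sup_left ha) (mem_sup_right (pow_mem hf _))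
  have m1 : lg a f (some m) ≠ 1 := fun e => by
    have := orderOf_lg oa of c nm (some m)
    rw [e, orderOf_one] at this
    exact hp.out.one_lt.ne this
  obtain ⟨i, -, hi⟩ := lg_unique oa of c nm hm m1
  rw [card_eq_one]
  by_contra nb
  have e := hi _ (mem_zpowers _)
  rcases all _ (h.gd_zp hxy (sup_le k1.le k2.le hm) m1 nb) with e' | e'
  · have := hi (some 0) (by
      rw [show lg a f (some (0 : ZMod p)) = a by simp [lg], ← e']; exact mem_zpowers _)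
    exact m0 (Option.some_injective _ (e.trans this.symm))
  · have := hi none (by rw [show lg a f (none : Option (ZMod p)) = f from rfl, ← e']; exact mem_zpowers _)
    exact absurd (e.trans this.symm) (by simp)

end Cfsg.Agent.OT
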