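import Mathlib
import Cfsg.Agent.OT.O3B

/-!
# The solvable configuration: lines have two points
-/

set_option autoImplicit false

namespace Cfsg.Agent.OT

open Subgroup MulAction Cfsg.Agent.TT Cfsg.Agent.Perm Cfsg.Agent.Perm.TT Cfsg.Agent.Loc.Mss
open Cfsg.Agent.Perm.TwoCount Cfsg.Agent.Perm.RankOne

universe u v

variable {G : Type u} {X : Type v} [Group G] [Finite G] [MulAction G X] [Finite X]
  {N R : X → Subgroup G} {x y : X} {p : ℕ} [Fact p.Prime]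

set_option linter.unusedSectionVars false

theorem smul_mem_Fx_cj {W : Subgroup G} {g : G} {c : X} : g • c ∈ Fx X cj(g, W) ↔ c ∈ Fx X W := by
  refine ⟨fun k w hw => conj_smul_iff.1 (k _ (conj_mem_cj hw)), ?_⟩
  rintro k _ ⟨w, hw, rfl⟩
  exact conj_smul_iff.2 (k w hw)

theorem OD.gd_left (h : OD N R p) {W : Subgroup G} (k : Gd N R p x y W) : x ∈ Fx X W :=
  fun _ hw => el_fix (k.le hw) (h.fam.left_mem_ln x y)

theorem gd_right {W : Subgroup G} (k : Gd N R p x y W) : y ∈ Fx X W :=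
  fun _ hw => el_fix (k.le hw) (right_mem_ln x y)

/-- Transport of a good subgroup back to the base line. -/
theorem OD.gd_back (h : OD N R p) (hxy : x ≠ y) {W : Subgroup G} {r : G} (hr : r ∈ R x) {b : X}
    (hb : b ∈ ln N x y) (hx : r • b ≠ x) (k : Gd N R p x (r • b) W) :
    Gd N R p x y cj(r⁻¹, W) := by
  have rx := h.famR.le x r hr
  have k' := h.gd_conj k r⁻¹
  rw [inv_smul_smul, inv_smul_eq_iff.2 rx.symm] at k'
  have e := h.el_eq hxy (h.fam.left_mem_ln x y) hb fun e => hx (by rw [← e, rx])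
  exact ⟨e ▸ k'.le, e ▸ k'.idx, k'.ne⟩

theorem ncard_conj_mul_le (A W : Subgroup G) :
    {V | ∃ r ∈ A, V = cj(r, W)}.ncard * Nat.card ↥(A ⊓ 𝐂[W]) ≤ Nat.card A := by
  have h1 : {V | ∃ r ∈ A, V = cj(r, W)} ⊆
      (fun q : A ⧸ (𝐂[W]).subgroupOf A => cj((q.out : A), W)) '' Set.univ := by
    rintro _ ⟨r, hr, rfl⟩
    obtain ⟨d, hd⟩ := QuotientGroup.mk_out_eq_mul ((𝐂[W]).subgroupOf A) ⟨r, hr⟩
    refine ⟨(⟨r, hr⟩ : A), trivial, ?_⟩
    simp only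
    rw [hd, coe_mul, ← cj_cj, cj_of_cent (show ((d : A) : G) ∈ 𝐂[W] from d.2)]
  have h2 := (Set.ncard_le_ncard h1).trans (Set.ncard_image_le (Set.toFinite _))
  rw [Set.ncard_univ] at h2
  have h3 : (𝐂[W]).relIndex A * Nat.card ↥(A ⊓ 𝐂[W]) = Nat.card A := by
    rw [← inf_relIndex_left, ← relIndex_bot_left, ← relIndex_bot_left, mul_comm,
      relIndex_mul_relIndex _ _ _ bot_le inf_le_left]
  rw [← h3]
  exact Nat.mul_le_mul_right _ h2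

theorem OD.false_of_two (h : OD N R p) (hxy : x ≠ y) (h3 : 3 ≤ (ln N x y).ncard)
    {W₁ W₂ : Subgroup G} (k₁ : Gd N R p x y W₁) (k₂ : Gd N R p x y W₂)
    (all : ∀ W, Gd N R p x y W → W = W₁ ∨ W = W₂) (dis : (R x ⊓ 𝐂[W₁]) ⊓ (R x ⊓ 𝐂[W₂]) = ⊥)
    (prod : Nat.card (R x) = Nat.card ↥(R x ⊓ 𝐂[W₁]) * Nat.card ↥(R x ⊓ 𝐂[W₂]))
    (hle : Nat.card ↥(R x ⊓ 𝐂[W₂]) ≤ Nat.card ↥(R x ⊓ 𝐂[W₁])) : False := by
  have xY := h.gd_left k₁
  -- the planes through `x`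
  have Px : {W | ∃ c, c ≠ x ∧ Gd N R p x c W}.ncard ≤
      Nat.card ↥(R x ⊓ 𝐂[W₂]) + Nat.card ↥(R x ⊓ 𝐂[W₁]) := by
    have h1 : {W | ∃ c, c ≠ x ∧ Gd N R p x c W} ⊆
        {V | ∃ r ∈ R x, V = cj(r, W₁)} ∪ {V | ∃ r ∈ R x, V = cj(r, W₂)} := by
      rintro W ⟨c, hc, k⟩
      obtain ⟨r, hr, b, hb, rfl⟩ := h.dec hxy hc
      rcases all _ (h.gd_back hxy hr hb hc k) with e | e
      · exact Or.inl ⟨r, hr, by rw [← e, cj_cj_inv]⟩
      · exact Or.inr ⟨r, hr, by rw [← e, cj_cj_inv]⟩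
    have c₁ := ncard_conj_mul_le (R x) W₁
    have c₂ := ncard_conj_mul_le (R x) W₂
    rw [prod, mul_comm (Nat.card _)] at c₁
    rw [prod] at c₂
    exact (Set.ncard_le_ncard h1).trans ((Set.ncard_union_le _ _).trans (add_le_add
      (Nat.le_of_mul_le_mul_right c₁ Nat.card_pos) (Nat.le_of_mul_le_mul_right c₂ Nat.card_pos)))
  have key : ∀ z, z ∉ Fx X W₁ → ∃ W, (∃ c, c ≠ z ∧ Gd N R p z c W) ∧ x ∈ Fx X W ∧
      ∀ c ∈ Fx X W, c ∈ Fx X W₁ → c = x := fun z hz => by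
    have xz : x ≠ z := fun e => hz (e ▸ xY)
    have sub : ∀ W, Gd N R p x z W → (∀ c ∈ Fx X W, c ∈ Fx X W₁ → c = x) ∨
        ∃ d ∈ R x ⊓ 𝐂[W₁], W = cj(d, W₂) ∧ ∃ d' ∈ R x ⊓ 𝐂[W₂], ∃ b ∈ ln N x y,
          (d * d') • b = z := fun W k => by
      refine or_iff_not_imp_left.2 fun hn => ?_
      push Not at hn
      obtain ⟨c, c1, c2, c3⟩ := hn
      obtain ⟨d, hd, b, hb, rfl⟩ := (h.mem_fx hxy k₁.le c3).1 c2
      rcases all _ (h.gd_back hxy hd.1 hb c3 (h.gd_gd xz k (h.gd_left k) c1 c3.symm)) with e | e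
      · refine absurd ?_ hz
        rw [← cj_of_cent hd.2, ← e, cj_cj_inv]
        exact gd_right k
      · obtain ⟨d', hd', b', hb', e'⟩ := (h.mem_fx hxy k₂.le (c := d⁻¹ • z) fun e =>
          xz (by rw [inv_smul_eq_iff, h.famR.le x d hd.1] at e; exact e.symm)).1
          (e ▸ smul_mem_Fx_cj.2 (gd_right k))
        exact ⟨d, hd, by rw [← e, cj_cj_inv], d', hd', b', hb', by rw [mul_smul, e', smul_inv_smul]⟩
    obtain ⟨W, W', k, k', hne, -⟩ := h.two_gd xz (by rw [h.ncard_ln hxy xz]; exact h3)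
    have back : ∀ {V}, Gd N R p x z V → ∃ c, c ≠ z ∧ Gd N R p z c V := fun k =>
      ⟨x, xz, h.gd_gd xz k (gd_right k) (h.gd_left k) xz.symm⟩
    rcases sub W k with s | ⟨d, hd, rfl, d', hd', b, hb, e⟩
    · exact ⟨W, back k, h.gd_left k, s⟩
    rcases sub W' k' with s | ⟨c, hc, rfl, c', hc', b', hb', e'⟩
    · exact ⟨W', back k', h.gd_left k', s⟩
    have m1 := mul_mem hd.1 hd'.1
    have m2 := mul_mem hc.1 hc'.1
    have u := h.uniq hxy _ (mul_mem (inv_mem m2) m1) b hb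
      (fun k => xz (by rw [← e, k, h.famR.le x _ m1])) (by
        rw [mul_smul, e, ← e', inv_smul_smul]; exact hb')
    rw [inv_mul_eq_one] at u
    have u' : c⁻¹ * d = c' * d'⁻¹ := by
      rw [inv_mul_eq_iff_eq_mul, ← mul_assoc, u, mul_inv_cancel_right]
    have a1 : c⁻¹ * d ∈ R x ⊓ 𝐂[W₁] := mul_mem (inv_mem hc) hd
    have a2 : c⁻¹ * d ∈ R x ⊓ 𝐂[W₂] := u' ▸ mul_mem hc' (inv_mem hd')
    have : c⁻¹ * d ∈ (⊥ : Subgroup G) := dis ▸ ⟨a1, a2⟩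
    rw [mem_bot, inv_mul_eq_one] at this
    exact absurd (by rw [this]) hne
  obtain ⟨z, hz⟩ : ∃ z, z ∉ Fx X W₁ := by
    by_contra k
    push Not at k
    have : W₁ = ⊥ := eq_bot_iff.2 fun w hw => h.two.faith w fun c => k c w hw
    rw [this, cent_bot, inf_top_eq, ← inf_assoc, inf_idem] at dis
    exact k₂.ne dis
  have key' : ∀ u : Fx X W₁, ∃ W, (∃ c, c ≠ z ∧ Gd N R p z c W) ∧ u.1 ∈ Fx X W ∧
      ∀ c ∈ Fx X W, c ∈ Fx X W₁ → c = u.1 := fun u => by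
    obtain ⟨g, hg, e⟩ := h.gd_trans hxy k₁ xY u.2
    have inv : ∀ {c : X}, g • c ∈ Fx X W₁ ↔ c ∈ Fx X W₁ := by
      intro c
      rw [← smul_mem_Fx_cj (g := g) (c := c), cj_of_cent hg]
    obtain ⟨W, ⟨c, hc, k⟩, s1, s2⟩ := key (g⁻¹ • z) fun k => hz (by simpa using inv.2 k)
    refine ⟨cj(g, W), ⟨g • c, fun e => hc (by rw [← e, inv_smul_smul]), by
      simpa using h.gd_conj k g⟩, e ▸ smul_mem_Fx_cj.2 s1, fun d d1 d2 => ?_⟩
    rw [← smul_inv_smul g d] at d1 d2 ⊢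
    rw [s2 _ (smul_mem_Fx_cj.1 d1) (inv.1 d2), e]
  choose V V1 V2 V3 using key'
  obtain ⟨g, hg⟩ := h.two.trans z x
  have inj : Nat.card (Fx X W₁) ≤ Nat.card {W | ∃ c, c ≠ x ∧ Gd N R p x c W} := by
    refine Nat.card_le_card_of_injective (fun u => ⟨cj(g, V u), ?_⟩) fun u u' e => ?_
    · obtain ⟨c, hc, k⟩ := V1 u
      exact ⟨g • c, hg ▸ (MulAction.injective g).ne hc, hg ▸ h.gd_conj k g⟩
    · have e' : V u = V u' := cj_eq_cj.1 (congrArg Subtype.val e)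
      exact Subtype.ext (V3 u' _ (e' ▸ V2 u) u.2)
  rw [Nat.card_coe_set_eq, Nat.card_coe_set_eq, h.ncard_fx hxy k₁.le] at inj
  have : Nat.card ↥(R x ⊓ 𝐂[W₁]) * 2 ≤ Nat.card ↥(R x ⊓ 𝐂[W₁]) * ((ln N x y).ncard - 1) :=
    Nat.mul_le_mul_left _ (by omega)
  omega

theorem OD.mem_ln (h : OD N R p) (hxy : x ≠ y) {c : X} (hc : c ∈ ln N x y) : c = x ∨ c = y := by
  by_contra hn
  push Not at hn
  have h3 : 3 ≤ (ln N x y).ncard := (Set.two_lt_ncard (Set.toFinite _)).2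
    ⟨x, h.fam.left_mem_ln x y, y, right_mem_ln x y, c, hc, hxy, hn.1.symm, hn.2.symm⟩
  obtain ⟨W₁, W₂, k₁, k₂, -, all, dis, prod⟩ := h.two_gd hxy h3
  rcases le_total (Nat.card ↥(R x ⊓ 𝐂[W₂])) (Nat.card ↥(R x ⊓ 𝐂[W₁])) with e | e
  · exact h.false_of_two hxy h3 k₁ k₂ all dis prod e
  · exact h.false_of_two hxy h3 k₂ k₁ (fun W k => (all W k).symm) (by rw [inf_comm, dis])
      (by rw [prod, mul_comm]) e

end Cfsg.Agent.OT
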