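import Mathlib
import Cfsg.Agent.OT.S0B

/-!
# The split configuration: there are not exactly two parameters with nontrivial centralizer
-/

set_option autoImplicit false

namespace Cfsg.Agent.OT

open Subgroup MulAction Cfsg.Agent.TT Cfsg.Agent.Perm Cfsg.Agent.Perm.TT Cfsg.Agent.Loc.Mss
open Cfsg.Agent.Perm.TwoCount Cfsg.Agent.Perm.RankOne

universe u v

variable {G : Type u} {X : Type v} [Group G] [Finite G] [MulAction G X] [Finite X]
  {N R : X → Subgroup G} {x y : X} {a f : G} {p : ℕ} [Fact p.Prime]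

set_option linter.unusedSectionVars false

theorem smul_fix_of_conj {g w : G} (hg : g⁻¹ * w * g⁻¹⁻¹ ∈ zpowers w) {d : X}
    (hd : d ∈ {c : X | ∀ u ∈ ({w} : Set G), u • c = c}) :
    g • d ∈ {c : X | ∀ u ∈ ({w} : Set G), u • c = c} := by
  rintro _ rfl
  have : _ • d = d := (zpowers_le.2 (show _ ∈ stabilizer G d from hd _ rfl)) hg
  rwa [inv_inv, mul_smul, mul_smul, inv_smul_eq_iff] at this

theorem SS.fisher (h : SS R x y a f p) {m : ZMod p} (hm : m ∈ Tw (R x) a f p)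
    (hH : ∀ g : G, g • x = x → g • y = y → g * wl a f m * g⁻¹ ∈ zpowers (wl a f m)) :
    (Nat.card (Dm (R x) a f m) + 1) * Nat.card (Dm (R x) a f m) ≤ Nat.card (R x) := by
  have hU : ∀ u ∈ ({wl a f m} : Set G), u • x = x ∧ u • y = y := fun u hu => hu ▸ h.wl_fix m
  have t2 := h.t2' h.ne hU hm
  have hn := h.ncard_fix h.ne hU
  set Y := {c : X | ∀ u ∈ ({wl a f m} : Set G), u • c = c} with hY
  have hx : x ∈ Y := fun u hu => (hU u hu).1
  have hy : y ∈ Y := fun u hu => (hU u hu).2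
  have K : ∀ (g : G) {u v : X}, u ≠ v → u ∈ Y → v ∈ Y → g • u ∈ Y → g • v ∈ Y →
      ∀ d ∈ Y, g • d ∈ Y := fun g u v huv hu hv gu gv d hd => by
    obtain ⟨c, hc, rfl, rfl⟩ := t2.tr x hx y hy u hu v hv h.ne huv
    obtain ⟨c', hc', e1, e2⟩ := t2.tr x hx y hy _ gu _ gv h.ne ((MulAction.injective g).ne huv)
    have k := hH (c⁻¹ * g⁻¹ * c') (by rw [mul_smul, e1]; simp [mul_smul])
      (by rw [mul_smul, e2]; simp [mul_smul])
    have := t2.inv c' hc' _ (smul_fix_of_conj (g := (c⁻¹ * g⁻¹ * c')⁻¹) (by simpa only [inv_inv])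
      (t2.inv _ (inv_mem hc) d hd))
    simpa [mul_smul] using this
  obtain ⟨z, hz⟩ : ∃ z, z ∉ Y := by
    by_contra k
    push Not at k
    exact pw_ne_one (h.orderOf_wl m) (h.two.faith _ fun c => k c _ rfl)
  choose γ γx γy using fun c : Y => h.two.two (c := z) (d := c) h.ne fun e => hz (e ▸ c.2)
  have key : Nat.card (Y × ↥(Y \ {x})) ≤ Nat.card ↥(Set.univ \ {z} : Set X) := by
    refine Nat.card_le_card_of_injective (fun q => ⟨γ q.1 • q.2.1, trivial, fun e =>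
      q.2.2.2 (smul_left_cancel _ (e.trans (γx q.1).symm))⟩) ?_
    rintro ⟨c, e⟩ ⟨c', e'⟩ k
    have k' : γ c • e.1 = γ c' • e'.1 := congrArg Subtype.val k
    have k1 : ((γ c')⁻¹ * γ c) • y ∈ Y := K _ (Ne.symm e.2.2) hx e.2.1
      (by rw [mul_smul, γx, ← γx c', inv_smul_smul]; exact hx)
      (by rw [mul_smul, k', inv_smul_smul]; exact e'.2.1) y hy
    have hc : c = c' := by
      by_contra hc
      refine hz (γx c' ▸ K (γ c') (fun e => hc (Subtype.ext ?_)) hy k1 (γy c' ▸ c'.2)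
        (by rw [mul_smul, smul_inv_smul, γy]; exact c.2) x hx)
      rw [mul_smul, γy, eq_inv_smul_iff, γy] at e
      exact e.symm
    subst hc
    exact Prod.ext rfl (Subtype.ext (smul_left_cancel _ k'))
  rwa [Nat.card_prod, Nat.card_coe_set_eq, Nat.card_coe_set_eq, Nat.card_coe_set_eq,
    Set.ncard_sdiff_singleton_of_mem hx, Set.ncard_sdiff_singleton_of_mem (Set.mem_univ z), hn,
    Set.ncard_univ, h.card_eq h.ne, Nat.add_sub_cancel, Nat.add_sub_cancel] at key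

theorem mem_norm_zpowers' {g w : G} (hg : g * w * g⁻¹ ∈ zpowers w) : g ∈ 𝐍[zpowers w] :=
  mem_norm_of_cj_le (cj_le_iff.2 fun k hk => by
    obtain ⟨n, rfl⟩ := mem_zpowers_iff.1 hk
    rw [← conj_zpow]
    exact zpow_mem hg n)

theorem SS.card_norm_wl (h : SS R x y a f p) {m : ZMod p} (hm : m ∈ Tw (R x) a f p) :
    Nat.card 𝐍[zpowers (wl a f m)] = (Nat.card (Dm (R x) a f m) + 1) *
      (Nat.card (Dm (R x) a f m) * Nat.card ↥(𝐍[zpowers (wl a f m)] ⊓ st2 G x y)) := by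
  have hU : ∀ u ∈ ({wl a f m} : Set G), u • x = x ∧ u • y = y := fun u hu => hu ▸ h.wl_fix m
  have t2 := h.t2' h.ne hU hm
  have t2' : T2 𝐍[zpowers (wl a f m)] {c : X | ∀ u ∈ ({wl a f m} : Set G), u • c = c} :=
    ⟨fun g hg d hd => smul_fix_of_conj (conj_mem_of_norm (inv_mem hg) (mem_zpowers _)) hd,
      fun c hc d hd c' hc' d' hd' e e' => by
        obtain ⟨g, hg, k⟩ := t2.tr c hc d hd c' hc' d' hd' e e'
        exact ⟨g, cent_le_norm _ (cent_zpowers (wl a f m) ▸ hg), k⟩⟩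
  rw [t2'.t1.card (a := x) fun u hu => (hU u hu).1, t2'.card_stab (fun u hu => (hU u hu).1)
    (fun u hu => (hU u hu).2) h.ne, h.ncard_fix h.ne hU, Nat.add_sub_cancel, inf_assoc]

theorem SS.wl_inj (h : SS R x y a f p) {m m' i : ZMod p} (hi : i ≠ 0)
    (e : wl a f m ^ i.val ∈ zpowers (wl a f m')) : m = m' := by
  rw [h.wl_pw, h.mem_line] at e
  exact (mul_right_cancel₀ hi e).symm

theorem SS.card_Dm_conj (h : SS R x y a f p) {g : G} (gx : g • x = x) {m m' i : ZMod p}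
    (hi : i ≠ 0) (e : g * wl a f m * g⁻¹ = wl a f m' ^ i.val) :
    Nat.card (Dm (R x) a f m) ≤ Nat.card (Dm (R x) a f m') := by
  rw [← card_cj _ g]
  refine card_le_of_le (cj_le_iff.2 fun r hr => mem_Dm.2
    ⟨h.fam.conj' gx hr.1, commute_of_pw (h.orderOf_wl m') hi ?_⟩)
  rw [← e]
  exact (mem_Dm.1 hr).2.conj g

theorem SS.ncard_ne_two (h : SS R x y a f p) : (Tw (R x) a f p).ncard ≠ 2 := fun h2 => by
  classical
  obtain ⟨m₁, m₂, hne, hT⟩ := Set.ncard_eq_two.1 h2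
  have h₁ : m₁ ∈ Tw (R x) a f p := hT ▸ Or.inl rfl
  have h₂ : m₂ ∈ Tw (R x) a f p := hT ▸ Or.inr rfl
  have hR : Nat.card (R x) = Nat.card (Dm (R x) a f m₁) * Nat.card (Dm (R x) a f m₂) := by
    rw [← h.prod, ← Finset.prod_pair (f := fun m => Nat.card (Dm (R x) a f m)) hne]
    refine (Finset.prod_subset (Finset.subset_univ _) fun m _ hm => ?_).symm
    have : Dm (R x) a f m = ⊥ := by_contra fun k => hm (by
      have : m ∈ ({m₁, m₂} : Set (ZMod p)) := hT ▸ k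
      simpa using this)
    rw [this, card_bot]
  -- the action of the two-point stabilizer on the parameters
  have act : ∀ g : G, g • x = x → g • y = y → ∃ α l : ZMod p, α ≠ 0 ∧ l ≠ 0 ∧
      (∀ m, g * wl a f m * g⁻¹ = wl a f (l * m) ^ α.val) ∧
      ((l * m₁ = m₁ ∧ l * m₂ = m₂) ∨ (l * m₁ = m₂ ∧ l * m₂ = m₁)) := fun g gx gy => by
    obtain ⟨α, β, hα, hβ, ha, hf⟩ := h.exists_H gx gy
    have e : ∀ m, β * m / α = β / α * m := fun m => by ring
    have l0 : β / α ≠ 0 := div_ne_zero hβ hα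
    refine ⟨α, β / α, hα, l0, fun m => e m ▸ h.conj_wl_H hα ha hf m, ?_⟩
    have k₁ := h.mem_Tw_H gx gy hα ha hf h₁
    have k₂ := h.mem_Tw_H gx gy hα ha hf h₂
    rw [hT, e] at k₁ k₂
    rcases k₁ with k₁ | k₁ <;> rcases k₂ with k₂ | k₂
    · exact absurd (mul_left_cancel₀ l0 (k₁.trans k₂.symm)) hne
    · exact Or.inl ⟨k₁, k₂⟩
    · exact Or.inr ⟨k₁, k₂⟩
    · exact absurd (mul_left_cancel₀ l0 (k₁.trans k₂.symm)) hne
  have p₁ : 1 < Nat.card (Dm (R x) a f m₁) := one_lt_card_iff_ne_bot _ |>.2 h₁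
  have p₂ : 1 < Nat.card (Dm (R x) a f m₂) := one_lt_card_iff_ne_bot _ |>.2 h₂
  by_cases hH : ∀ g : G, g • x = x → g • y = y → g * wl a f m₁ * g⁻¹ ∈ zpowers (wl a f m₁)
  · have f₁ := h.fisher h₁ hH
    have f₂ := h.fisher h₂ fun g gx gy => by
      obtain ⟨α, l, hα, -, e, k | k⟩ := act g gx gy
      · rw [e, k.2]; exact pow_mem (mem_zpowers _) _
      · exact absurd (h.wl_inj hα (k.1 ▸ e m₁ ▸ hH g gx gy)) hne.symm
    rw [hR] at f₁ f₂
    nlinarith
  push Not at hH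
  obtain ⟨g₀, gx, gy, hg⟩ := hH
  obtain ⟨α, l, hα, -, e, k | k⟩ := act g₀ gx gy
  · exact hg (by rw [e, k.1]; exact pow_mem (mem_zpowers _) _)
  have hρ : Nat.card (Dm (R x) a f m₂) = Nat.card (Dm (R x) a f m₁) :=
    le_antisymm (h.card_Dm_conj gx hα (k.2 ▸ e m₂)) (h.card_Dm_conj gx hα (k.1 ▸ e m₁))
  have hi : (𝐍[zpowers (wl a f m₁)]).relIndex (st2 G x y) = 2 := by
    refine relIndex_eq_two_iff_exists_notMem_and.2 ⟨g₀, ⟨gx, gy⟩,
      fun k => hg (conj_mem_of_norm k (mem_zpowers _)), fun b hb => ?_⟩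
    obtain ⟨α', l', -, -, e', k' | k'⟩ := act b hb.1 hb.2
    · exact Or.inr (mem_norm_zpowers' (by rw [e', k'.1]; exact pow_mem (mem_zpowers _) _))
    · refine Or.inl (mem_norm_zpowers' ?_)
      rw [show b * g₀ * wl a f m₁ * (b * g₀)⁻¹ = b * (g₀ * wl a f m₁ * g₀⁻¹) * b⁻¹ by group, e, k.1,
        ← conj_pow, e', k'.2]
      exact pow_mem (pow_mem (mem_zpowers _) _) _
  have c1 := h.card_norm_wl h₁
  have c2 := h.two.card_eq h.ne
  have c3 : Nat.card ↥(𝐍[zpowers (wl a f m₁)] ⊓ st2 G x y) * 2 = Nat.card (st2 G x y) := by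
    rw [← hi, ← inf_relIndex_right, ← relIndex_bot_left, ← relIndex_bot_left,
      relIndex_mul_relIndex _ _ _ bot_le inf_le_right]
  have c4 := card_subgroup_dvd_card 𝐍[zpowers (wl a f m₁)]
  have c5 := h.dvd_sub_one m₁
  have c6 : 0 < Nat.card ↥(𝐍[zpowers (wl a f m₁)] ⊓ st2 G x y) := Nat.card_pos
  rw [c1, c2, ← c3, h.card_eq h.ne, hR, hρ, Nat.add_sub_cancel] at c4
  generalize Nat.card ↥(𝐍[zpowers (wl a f m₁)] ⊓ st2 G x y) = κ at c4 c6
  generalize Nat.card (Dm (R x) a f m₁) = ρ at c4 c5 p₁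
  obtain ⟨t, rfl⟩ : ∃ t, ρ = t + 1 := ⟨ρ - 1, by omega⟩
  have c7 : t + 1 + 1 ∣ ((t + 1) * (t + 1) + 1) * ((t + 1) * 2) :=
    Nat.dvd_of_mul_dvd_mul_right (show 0 < (t + 1) * κ by positivity) (by
      convert c4 using 1; ring)
  have c8 : t + 1 + 1 ∣ 4 := (Nat.dvd_add_right c7).1 ⟨2 * t * t + 2 * t + 4, by ring⟩
  have c9 := Nat.le_of_dvd (by norm_num) c8
  have : t = 2 := by
    have : t = 1 ∨ t = 2 := by omega
    rcases this with rfl | rfl
    · norm_num at c8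
    · rfl
  subst this
  exact h.odd ((Nat.prime_dvd_prime_iff_eq Fact.out Nat.prime_two).1 c5)

end Cfsg.Agent.OT
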