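import Mathlib
import Cfsg.Agent.OT.S0B

/-!
# The elements `μ = b ρ b` interchanging two points
-/

set_option autoImplicit false
set_option linter.unusedSectionVars false

namespace Cfsg.Agent.OT

open Subgroup MulAction Cfsg.Agent.TT Cfsg.Agent.Perm Cfsg.Agent.Perm.TT Cfsg.Agent.Loc.Mss
open Cfsg.Agent.Perm.TwoCount Cfsg.Agent.Perm.RankOne

universe u v

variable {G : Type u} {X : Type v} [Group G] [Finite G] [MulAction G X] [Finite X]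
  {N R : X → Subgroup G} {x y : X} {a f : G} {p : ℕ} [Fact p.Prime] {b μ : G}

/-- A fixed point free involution inverts. -/
theorem inverts_of_fpf {D : Subgroup G} {s : G} (h2 : s * s = 1)
    (hn : ∀ r ∈ D, s * r * s⁻¹ ∈ D) (hf : ∀ r ∈ D, Commute r s → r = 1) :
    ∀ r ∈ D, s * r * s⁻¹ = r⁻¹ := by
  let φ : D → D := fun r => ⟨r.1⁻¹ * (s * r * s⁻¹), mul_mem (inv_mem r.2) (hn r r.2)⟩
  have hi : Function.Injective φ := fun r r' e => by
    have e1 : r.1⁻¹ * (s * r * s⁻¹) = r'.1⁻¹ * (s * r' * s⁻¹) := congrArg Subtype.val e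
    have := hf (r'.1 * r.1⁻¹) (mul_mem r'.2 (inv_mem r.2)) (by
      show _ = _
      calc r'.1 * r.1⁻¹ * s = r'.1 * (r.1⁻¹ * (s * r * s⁻¹)) * s * r.1⁻¹ := by group
        _ = s * (r'.1 * r.1⁻¹) := by rw [e1]; group)
    exact (Subtype.ext (mul_inv_eq_one.1 this)).symm
  intro r hr
  obtain ⟨t, ht⟩ := Finite.surjective_of_injective hi ⟨r, hr⟩
  have e : t.1⁻¹ * (s * t * s⁻¹) = r := congrArg Subtype.val ht
  have hs : s⁻¹ = s := inv_eq_of_mul_eq_one_right h2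
  rw [← e]
  calc s * (t.1⁻¹ * (s * t * s⁻¹)) * s⁻¹ = s * t.1⁻¹ * s * t * (s * s)⁻¹ := by group
    _ = (t.1⁻¹ * (s * t * s⁻¹))⁻¹ := by rw [h2]; nth_rewrite 2 [← hs]; group

theorem Mu.bx (k : Mu R x y b μ) (h : RF R) : b • x = x := h.fam.le x b k.mem

theorem Mu.rho_x (k : Mu R x y b μ) (h : RF R) : (b⁻¹ * μ * b⁻¹) • x = b⁻¹ • y := by
  rw [mul_smul, mul_smul, inv_smul_eq_iff.2 (k.bx h).symm, k.sx]

theorem Mu.ne_one (k : Mu R x y b μ) (h : RF R) (hxy : x ≠ y) : b ≠ 1 := by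
  rintro rfl
  have := h.fam.le y _ k.rho
  rw [inv_one, one_mul, mul_one, k.sy] at this
  exact hxy this

theorem Mu.unique (k : Mu R x y b μ) (h : RF R) (hxy : x ≠ y) {μ' : G} (k' : Mu R x y b μ') :
    μ' = μ := by
  have := h.eq_of_smul hxy k'.rho k.rho ((k'.rho_x h).trans (k.rho_x h).symm)
  simpa using this

theorem Mu.inv (k : Mu R x y b μ) : Mu R x y b⁻¹ μ⁻¹ :=
  ⟨inv_mem k.mem, inv_smul_eq_iff.2 k.sy.symm, inv_smul_eq_iff.2 k.sx.symm, by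
    simpa [mul_assoc] using inv_mem k.rho⟩

theorem Mu.conjH (k : Mu R x y b μ) (h : RF R) {g : G} (gx : g • x = x) (gy : g • y = y) :
    Mu R x y (g * b * g⁻¹) (g * μ * g⁻¹) := by
  refine ⟨h.fam.conj' gx k.mem, ?_, ?_, ?_⟩
  · rw [mul_smul, mul_smul, inv_smul_eq_iff.2 gx.symm, k.sx, gy]
  · rw [mul_smul, mul_smul, inv_smul_eq_iff.2 gy.symm, k.sy, gx]
  · have := h.fam.conj' gy k.rho
    convert this using 1
    group

theorem Mu.self' (k : Mu R x y b μ) (h : RF R) : μ • b⁻¹ • y = b • y := by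
  have := h.fam.le y _ k.rho
  rwa [mul_smul, mul_smul, inv_smul_eq_iff] at this

theorem Mu.conj_rho (k : Mu R x y b μ) (h : RF R) (hxy : x ≠ y) {τ e : G} (tx : τ • x = y)
    (ty : τ • y = x) (he : e ∈ R x) (ee : e • y = τ • b⁻¹ • y) :
    τ * (b⁻¹ * μ * b⁻¹) * τ⁻¹ = e := by
  refine h.eq_of_smul hxy.symm (h.fam.conj' ty k.rho) he ?_
  rw [mul_smul, mul_smul τ, inv_smul_eq_iff.2 tx.symm, k.rho_x h, ee]

theorem Mu.rho_eq (k : Mu R x y b μ) (h : RF R) (hxy : x ≠ y) :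
    μ * (b⁻¹ * μ * b⁻¹) * μ⁻¹ = b :=
  k.conj_rho h hxy k.sx k.sy k.mem (k.self' h).symm

theorem Mu.rbr (k : Mu R x y b μ) (h : RF R) (hxy : x ≠ y) :
    (b⁻¹ * μ * b⁻¹) * b * (b⁻¹ * μ * b⁻¹) = μ :=
  calc (b⁻¹ * μ * b⁻¹) * b * (b⁻¹ * μ * b⁻¹) = b⁻¹ * (μ * (b⁻¹ * μ * b⁻¹) * μ⁻¹) * μ := by group
    _ = μ := by rw [k.rho_eq h hxy]; group

theorem Mu.rho_eq' (k : Mu R x y b μ) (h : RF R) (hxy : x ≠ y) :
    μ * b * μ⁻¹ = b⁻¹ * μ * b⁻¹ :=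
  calc μ * b * μ⁻¹ = ((b⁻¹ * μ * b⁻¹) * b * (b⁻¹ * μ * b⁻¹)) * b * μ⁻¹ := by rw [k.rbr h hxy]
    _ = _ := by group

theorem Mu.self (k : Mu R x y b μ) (h : RF R) (hxy : x ≠ y) : μ • b • y = b⁻¹ • y := by
  rw [← k.rho_x h, ← k.rho_eq' h hxy, mul_smul, mul_smul, inv_smul_eq_iff.2 k.sy.symm]

theorem Mu.conjS (k : Mu R x y b μ) (h : RF R) (hxy : x ≠ y) {τ e : G} (tx : τ • x = y)
    (ty : τ • y = x) (he : e ∈ R x) (ee : e • y = τ • b⁻¹ • y) :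
    Mu R x y e (τ * μ * τ⁻¹) := by
  refine ⟨he, ?_, ?_, ?_⟩
  · rw [mul_smul, mul_smul, inv_smul_eq_iff.2 ty.symm, k.sy, tx]
  · rw [mul_smul, mul_smul, inv_smul_eq_iff.2 tx.symm, k.sx, ty]
  · have e1 := k.conj_rho h hxy tx ty he ee
    have e2 := k.rbr h hxy
    generalize b⁻¹ * μ * b⁻¹ = ρ at e1 e2
    have := h.fam.conj' tx k.mem
    convert this using 1
    rw [← e1, ← e2]
    group

theorem Mu.F (k : Mu R x y b μ) (h : RF R) (hxy : x ≠ y) {τ e : G} (tx : τ • x = y)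
    (ty : τ • y = x) (he : e ∈ R x) (ee : e • y = τ • b⁻¹ • y) (c : X) :
    τ • b⁻¹ • μ • c = e • τ • b • c := by
  rw [← k.conj_rho h hxy tx ty he ee]
  simp only [← mul_smul]
  congr 1
  group

theorem Mu.comm_sq (k : Mu R x y b μ) (h : RF R) (hxy : x ≠ y) : Commute b (μ * μ) := by
  have e := k.rho_eq h hxy
  rw [← k.rho_eq' h hxy] at e
  show _ = _
  calc b * (μ * μ) = μ * (μ * b * μ⁻¹) * μ⁻¹ * (μ * μ) := by rw [e]
    _ = μ * μ * b := by group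

theorem Mu.ident (k : Mu R x y b μ) (h : RF R) (hxy : x ≠ y) {c ν e : G} (hc : Commute c b)
    (k' : Mu R x y (b * c) ν) (he : e ∈ R x) (ee : e • y = ν • b⁻¹ • y) (ce : Commute e (b * c)) :
    b⁻¹ • μ • c • y = (b * c) • ν⁻¹ • c • y := by
  have e1 := k.F h hxy k'.sx k'.sy he ee (c • y)
  have e2 := k'.rho_eq h hxy
  have e3 : b * c * b⁻¹ = c := by rw [← hc.eq]; group
  rw [← mul_smul b c, k'.self h hxy, ← mul_smul e, ce.inv_right.eq, mul_smul, ee] at e1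
  generalize b * c = u at e1 e2 e3 ⊢
  have e4 : u⁻¹ * ν * b⁻¹ = ν * (u * ν⁻¹ * (u * b⁻¹)) := by
    calc u⁻¹ * ν * b⁻¹ = (ν * (u⁻¹ * ν * u⁻¹) * ν⁻¹)⁻¹ * ν * b⁻¹ := by rw [e2]
      _ = _ := by group
  rw [← mul_smul u⁻¹, ← mul_smul (u⁻¹ * ν), e4, e3, mul_smul ν, smul_left_cancel_iff] at e1
  rw [e1, mul_smul, mul_smul]

theorem RF.exists_mu (h : RF R) (hxy : x ≠ y) {U : Set G} (hU : ∀ u ∈ U, u • x = x ∧ u • y = y)
    {s : G} (sx : s • x = x) (sy : s • y = y)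
    (hx : ∀ r ∈ R x ⊓ centralizer U, s * r * s⁻¹ = r⁻¹)
    (hy : ∀ r ∈ R y ⊓ centralizer U, s * r * s⁻¹ = r⁻¹) (hb : b ∈ R x ⊓ centralizer U)
    (h1 : b ≠ 1) : ∃ μ ∈ centralizer U, Mu R x y b μ := by
  have bx : b • x = x := h.fam.le x b hb.1
  have hb2 : b ∈ centralizer U := hb.2
  obtain ⟨ρ, hρ, e⟩ := h.reg y x (b⁻¹ • y) hxy fun e =>
    h1 (inv_eq_one.1 (h.sr x _ (inv_mem hb.1) y hxy.symm e))
  have hc : ρ ∈ centralizer U := fun u hu => by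
    refine ((h.fix_iff hxy hρ (hU u hu).2 (hU u hu).1).1 ?_).eq.symm
    rw [e]
    exact smul_fix_of_commute (Commute.symm (inv_mem hb2 u hu)) (hU u hu).2
  refine ⟨b * ρ * b, mul_mem (mul_mem hb2 hc) hb2, hb.1, ?_, ?_, by simpa [mul_assoc] using hρ⟩
  · rw [mul_smul, mul_smul, bx, e, smul_inv_smul]
  · have e0 := hx _ (inv_mem hb)
    rw [inv_inv] at e0
    have e1 : ρ⁻¹ • x = b • y := by
      rw [← hy ρ ⟨hρ, hc⟩, mul_smul, mul_smul, inv_smul_eq_iff.2 sx.symm, e]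
      conv_rhs => rw [← e0]
      rw [mul_smul, mul_smul, inv_smul_eq_iff.2 sy.symm]
    rw [mul_smul, mul_smul, ← e1, smul_inv_smul, bx]

/-- When `R x` is abelian, `μ` determines `b` up to inversion. -/
theorem Mu.eq_or (k : Mu R x y b μ) (h : RF R) (hxy : x ≠ y)
    (ab : ∀ r ∈ R x, ∀ r' ∈ R x, Commute r r') {b' : G} (k' : Mu R x y b' μ) :
    b' = b ∨ b' = b⁻¹ := by
  refine or_iff_not_imp_left.2 fun hne => ?_
  have hc : b⁻¹ * b' ∈ R x := mul_mem (inv_mem k.mem) k'.mem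
  have c1 : b⁻¹ * b' ≠ 1 := fun e => hne (inv_mul_eq_one.1 e).symm
  have eb : b * (b⁻¹ * b') = b' := by group
  have e := k.ident h hxy (c := b⁻¹ * b') (ν := μ) (e := b) (ab _ hc _ k.mem) (eb.symm ▸ k') k.mem
    (k.self' h).symm (eb.symm ▸ ab _ k.mem _ k'.mem)
  have cm : Commute (b⁻¹ * b') (μ * μ) := (k.comm_sq h hxy).inv_left.mul_left (k'.comm_sq h hxy)
  have e2 : μ • (b⁻¹ * b') • y = μ⁻¹ • (b⁻¹ * b') • y := by
    rw [eq_inv_smul_iff, ← mul_smul μ]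
    exact smul_fix_of_commute cm (by rw [mul_smul, k.sy, k.sx])
  rw [eb, ← e2] at e
  refine (h.eq_of_smul (fun e3 => c1 ?_) (inv_mem k.mem) k'.mem e).symm
  rw [← k.sy, smul_left_cancel_iff] at e3
  exact h.sr x _ hc y hxy.symm e3

theorem commute_of_sq {r w : G} (ho : Odd (orderOf w)) (hc : Commute r (w * w)) : Commute r w := by
  obtain ⟨n, hn⟩ := ho
  have e : (w * w) ^ (n + 1) = w := by
    rw [← sq, ← pow_mul, show 2 * (n + 1) = orderOf w + 1 by omega, pow_succ, pow_orderOf_eq_one,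
      one_mul]
  simpa [e] using hc.pow_right (n + 1)

theorem SS.odd_p (h : SS R x y a f p) : Odd p := (Fact.out : p.Prime).odd_of_ne_two h.odd

theorem SS.commute_wl_wl (h : SS R x y a f p) (m m' : ZMod p) :
    Commute (wl a f m) (wl a f m') :=
  ((Commute.refl a).mul_right (h.comm.pow_right _)).mul_left
    ((h.comm.symm.mul_right ((Commute.refl f).pow_right _)).pow_left _)

/-- An element fixing `z` and commuting with `wl a f m` normalizes `Dm`. -/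
theorem RF.conj_Dm (h : RF R) {z : X} {g r : G} {m : ZMod p} (gz : g • z = z)
    (hc : Commute g (wl a f m)) (hr : r ∈ Dm (R z) a f m) : g * r * g⁻¹ ∈ Dm (R z) a f m :=
  mem_Dm.2 ⟨h.fam.conj' gz (mem_Dm.1 hr).1, (hc.mul_left (mem_Dm.1 hr).2).mul_left hc.inv_left⟩

theorem SS.eq_one (h : SS R x y a f p) {m m' : ZMod p} (hm : m ≠ m') {r : G}
    (h1 : r ∈ Dm (R x) a f m) (h2 : r ∈ Dm (R x) a f m') : r = 1 :=
  mem_bot.1 (h.Dm_inf hm ▸ (⟨h1, h2⟩ : r ∈ Dm (R x) a f m ⊓ Dm (R x) a f m'))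

theorem exists_of_mem_Tw {D : Subgroup G} {m : ZMod p} (hm : m ∈ Tw D a f p) :
    ∃ r ∈ Dm D a f m, r ≠ 1 := by
  obtain ⟨k, hk⟩ := (Subgroup.ne_bot_iff_exists_ne_one).1 hm
  exact ⟨k, k.2, fun e => hk (Subtype.ext e)⟩

/-- No involution of `C0` inverts `R x`. -/
theorem SS.cent_ne_bot (h : SS R x y a f p) (ho : Odd (Nat.card (R x))) {s : G}
    (hs : s ∈ C0 x y a f) (h2 : orderOf s = 2) : R x ⊓ centralizer {s} ≠ ⊥ := by
  intro hb
  have _ := ho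
  obtain ⟨⟨sx, sy⟩, sa, sf⟩ := mem_C0.1 hs
  have hb' : R y ⊓ centralizer {s} = ⊥ := by
    rw [← card_eq_one, h.toRF.card_cent h.ne (by rintro _ rfl; exact ⟨sx, sy⟩), hb, card_bot]
  have key : ∀ z : X, s • z = z → R z ⊓ centralizer {s} = ⊥ → ∀ r ∈ R z, s * r * s⁻¹ = r⁻¹ :=
    fun z sz e => inverts_of_fpf (mul_self_two h2) (fun r hr => h.fam.conj' sz hr) fun r hr hc =>
      mem_bot.1 (e ▸ (⟨hr, mem_centralizer_singleton_iff.2 hc⟩ : r ∈ R z ⊓ centralizer {s}))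
  have ix := key x sx hb
  have iy := key y sy hb'
  have ab : ∀ r ∈ R x, ∀ r' ∈ R x, Commute r r' := fun r hr r' hr' => by
    have e := ix _ (mul_mem (inv_mem hr) (inv_mem hr'))
    show _ = _
    calc r * r' = (s * r⁻¹ * s⁻¹) * (s * r'⁻¹ * s⁻¹) := by
          rw [ix _ (inv_mem hr), ix _ (inv_mem hr'), inv_inv, inv_inv]
      _ = s * (r⁻¹ * r'⁻¹) * s⁻¹ := by group
      _ = r' * r := by rw [e]; group
  have all : ∀ b ∈ R x, b ≠ 1 → ∃ i : ZMod p, b ∈ Dm (R x) a f i := fun b hb b1 => by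
    obtain ⟨μ, -, k⟩ := h.toRF.exists_mu h.ne (U := ∅) (by simp) sx sy (fun r hr => ix r hr.1)
      (fun r hr => iy r hr.1) ⟨hb, fun _ hu => hu.elim⟩ b1
    have e1 : s * μ * s⁻¹ = μ⁻¹ := k.inv.unique h.toRF h.ne (ix b hb ▸ k.conjH h.toRF sx sy)
    obtain ⟨i, j, -, -, ea, -⟩ := h.exists_S k.sx k.sy
    have e2 : μ * f ^ i.val * μ⁻¹ = a := by
      have e3 : μ⁻¹ * a * μ = f ^ i.val := by
        calc μ⁻¹ * a * μ = (s * μ * s⁻¹) * a * (s * μ * s⁻¹)⁻¹ := by rw [e1, inv_inv]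
          _ = s * (μ * (s⁻¹ * a * s) * μ⁻¹) * s⁻¹ := by group
          _ = f ^ i.val := by
            rw [sa.inv_left.eq, inv_mul_cancel_right, ea, (sf.pow_right _).eq, mul_inv_cancel_right]
      rw [← e3]; group
    have cw : wl a f i * μ * (wl a f i)⁻¹ = μ := by
      rw [mul_inv_eq_iff_eq_mul, eq_comm, ← mul_inv_eq_iff_eq_mul]
      calc μ * (a * f ^ i.val) * μ⁻¹ = (μ * a * μ⁻¹) * (μ * f ^ i.val * μ⁻¹) := by group
        _ = _ := by rw [ea, e2]; exact (h.comm.pow_right _).eq.symm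
    have k2 := k.conjH h.toRF (h.wl_fix i).1 (h.wl_fix i).2
    rw [cw] at k2
    refine ⟨i, mem_Dm.2 ⟨hb, ?_⟩⟩
    rcases k.eq_or h.toRF h.ne ab k2 with e | e
    · exact (mul_inv_eq_iff_eq_mul.1 e).symm
    · refine commute_of_sq (by rw [h.orderOf_wl]; exact h.odd_p) ?_
      generalize wl a f i = w at e
      show _ = _
      calc b * (w * w) = (w * b * w⁻¹)⁻¹ * (w * w) := by rw [e, inv_inv]
        _ = w * b⁻¹ * w := by group
        _ = w * w * b := by rw [← e]; group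
  obtain ⟨m, hm, m', hm', hne⟩ := (Set.one_lt_ncard (Set.toFinite _)).1 h.two_le
  obtain ⟨b, hb, b1⟩ := exists_of_mem_Tw hm
  obtain ⟨b', hb', b1'⟩ := exists_of_mem_Tw hm'
  obtain ⟨i, hi⟩ := all (b * b') (mul_mem hb.1 hb'.1) fun e =>
    b1 (h.eq_one hne hb (by rw [mul_eq_one_iff_eq_inv.1 e]; exact inv_mem hb'))
  have c := (mem_Dm.1 hi).2
  have n1 := h.toRF.conj_Dm (h.wl_fix i).1 (h.commute_wl_wl i m) hb
  have n2 := h.toRF.conj_Dm (h.wl_fix i).1 (h.commute_wl_wl i m') hb'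
  have e : b⁻¹ * (wl a f i * b * (wl a f i)⁻¹) = b' * (wl a f i * b' * (wl a f i)⁻¹)⁻¹ := by
    generalize wl a f i = w at c
    calc b⁻¹ * (w * b * w⁻¹) = b⁻¹ * (w * (b * b')) * b'⁻¹ * w⁻¹ := by group
      _ = _ := by rw [← c.eq]; group
  have e1 := h.eq_one hne (mul_mem (inv_mem hb) n1) (e ▸ mul_mem hb' (inv_mem n2))
  have e2 := e1
  rw [e, mul_inv_eq_one, eq_mul_inv_iff_mul_eq] at e2
  rw [inv_mul_eq_one, eq_mul_inv_iff_mul_eq] at e1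
  by_cases hm : m = i
  · exact b1' (h.eq_one (hm ▸ hne.symm) hb' (mem_Dm.2 ⟨hb'.1, e2⟩))
  · exact b1 (h.eq_one hm hb (mem_Dm.2 ⟨hb.1, e1⟩))

end Cfsg.Agent.OT
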