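import Mathlib
import Cfsg.Agent.OT.S3

/-!
# Three involutions in the centralizer
-/

set_option autoImplicit false
set_option linter.unusedSectionVars false

namespace Cfsg.Agent.OT

open Subgroup MulAction Cfsg.Agent.TT Cfsg.Agent.Perm Cfsg.Agent.Perm.TT Cfsg.Agent.Loc.Mss
open Cfsg.Agent.Perm.TwoCount Cfsg.Agent.Perm.RankOne

universe u v

variable {G : Type u} {X : Type v} [Group G] [Finite G] [MulAction G X] [Finite X]
  {N R : X → Subgroup G} {x y : X} {a f : G} {p : ℕ} [Fact p.Prime]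

/-- `σ` is an involution of `C0` of type `t`. -/
structure InvTy (R : X → Subgroup G) (x y : X) (a f : G) {p : ℕ} (σ : G) (t : ZMod p) : Prop where
  mem : σ ∈ C0 x y a f
  two : orderOf σ = 2
  tw : t ∈ Tw (R x) a f p
  lx : ∀ r ∈ R x, Commute r σ → Commute r (wl a f t)
  ly : ∀ r ∈ R y, Commute r σ → Commute r (wl a f t)

theorem s5a_cube {g w : G} (hw : orderOf w = p) {α : ZMod p} (e : g * w * g⁻¹ = w ^ α.val)
    (h3 : α * α * α = 1) : Commute (g ^ 3) w := by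
  have e1 : ∀ k : ℕ, g * w ^ k * g⁻¹ = (w ^ α.val) ^ k := fun k => by rw [← e, conj_pow]
  have e2 : g ^ 3 * w * (g ^ 3)⁻¹ = w := by
    calc g ^ 3 * w * (g ^ 3)⁻¹ = g * (g * (g * w * g⁻¹) * g⁻¹) * g⁻¹ := by
          simp only [pow_succ, pow_zero]; group
      _ = w := by
          rw [e, e1, ← pw_mul hw, e1, ← pw_mul hw, ← mul_assoc, h3, ZMod.val_one, pow_one]
  exact mul_inv_eq_iff_eq_mul.1 e2

theorem SS.s5a_ne (h : SS R x y a f p) {m : ZMod p} (hm : m ∈ Tw (R x) a f p) : m ≠ 0 :=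
  fun e => h.zero_not_mem (e ▸ hm)

theorem SS.s5a_swap (h : SS R x y a f p) {m : ZMod p} (hm : m ∈ Tw (R x) a f p) :
    ∃ s : G, Commute s (wl a f m) ∧ s • x = y ∧ s • y = x := by
  obtain ⟨s, hs, h1, h2⟩ := h.toRF.exists_swap h.ne (U := {wl a f m})
    (by rintro _ rfl; exact h.wl_fix m) hm
  exact ⟨s, mem_centralizer_singleton_iff.1 ((sup_le inf_le_right inf_le_right :
    _ ≤ centralizer {wl a f m}) hs), h1, h2⟩

theorem SS.s5a_div (h : SS R x y a f p) {m t : ZMod p} (hm : m ∈ Tw (R x) a f p)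
    (ht : t ∈ Tw (R x) a f p) : m * m / t ∈ Tw (R x) a f p := by
  obtain ⟨s, hc, sx, sy⟩ := h.s5a_swap hm
  have m0 := h.s5a_ne hm
  have := h.mem_Tw_S sx sy (inv_ne_zero m0) (h.refl sx sy hc).1 (h.refl sx sy hc).2 ht
  convert this using 1
  have := h.s5a_ne ht
  field_simp

theorem SI.s5a_ty (h : SI R x y a f p) (ho : Odd (Nat.card (R x))) {σ : G}
    (hs : σ ∈ C0 x y a f) (h2 : orderOf σ = 2) : ∃ t : ZMod p, InvTy R x y a f σ t := by
  obtain ⟨m, h3, h4⟩ := h.le_Dm hs (ne_one_two h2)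
  exact ⟨m, hs, h2, fun e => h.toSS.cent_ne_bot ho hs h2 (le_bot_iff.1 (e ▸ h3)),
    fun r hr c => (mem_Dm.1 (h3 ⟨hr, mem_centralizer_singleton_iff.2 c⟩)).2,
    fun r hr c => (mem_Dm.1 (h4 ⟨hr, mem_centralizer_singleton_iff.2 c⟩)).2⟩

namespace InvTy

variable {σ σ' : G} {t t' τ : ZMod p}

theorem inv_x (k : InvTy R x y a f σ t) (h : SS R x y a f p) (hτ : τ ≠ t) :
    ∀ r ∈ Dm (R x) a f τ, σ * r * σ⁻¹ = r⁻¹ :=
  inverts_of_fpf (mul_self_two k.two)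
    (fun _ hr => h.toRF.conj_Dm k.mem.1.1 (h.commute_wl k.mem τ) hr)
    fun r hr c => h.eq_one hτ hr (mem_Dm.2 ⟨hr.1, k.lx r hr.1 c⟩)

theorem inv_y (k : InvTy R x y a f σ t) (h : SS R x y a f p) (hτ : τ ≠ t) :
    ∀ r ∈ Dm (R y) a f τ, σ * r * σ⁻¹ = r⁻¹ :=
  inverts_of_fpf (mul_self_two k.two)
    (fun _ hr => h.toRF.conj_Dm k.mem.1.2 (h.commute_wl k.mem τ) hr)
    fun r hr c => h.symm.eq_one hτ hr (mem_Dm.2 ⟨hr.1, k.ly r hr.1 c⟩)

theorem comm_mul (k : InvTy R x y a f σ t) (k' : InvTy R x y a f σ' t') (h : SS R x y a f p)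
    (h1 : τ ≠ t) (h2 : τ ≠ t') {r : G} (hr : r ∈ Dm (R x) a f τ) : Commute r (σ * σ') := by
  have e : σ * σ' * r * (σ * σ')⁻¹ = r := by
    calc σ * σ' * r * (σ * σ')⁻¹ = σ * (σ' * r * σ'⁻¹) * σ⁻¹ := by group
      _ = r := by rw [k'.inv_x h h2 r hr, k.inv_x h h1 _ (inv_mem hr), inv_inv]
  exact (mul_inv_eq_iff_eq_mul.1 e).symm

theorem eq_of_two (k : InvTy R x y a f σ t) (k' : InvTy R x y a f σ' t') (h : SI R x y a f p)
    {τ' : ZMod p} (hτ : τ ∈ Tw (R x) a f p) (hτ' : τ' ∈ Tw (R x) a f p) (hne : τ ≠ τ')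
    (h1 : τ ≠ t) (h2 : τ ≠ t') (h3 : τ' ≠ t) (h4 : τ' ≠ t') : σ' = σ := by
  obtain ⟨r, hr, r1⟩ := exists_of_mem_Tw hτ
  obtain ⟨r', hr', r1'⟩ := exists_of_mem_Tw hτ'
  have := h.tw (mul_mem k.mem k'.mem) hne hr hr' r1 r1' (k.comm_mul k' h.toSS h1 h2 hr)
    (k.comm_mul k' h.toSS h3 h4 hr')
  rw [mul_eq_one_iff_inv_eq.1 this |>.symm, inv_two k.two]

theorem eq_of_same (k : InvTy R x y a f σ t) (k' : InvTy R x y a f σ' t) (h : SI R x y a f p)
    (h3 : 3 ≤ (Tw (R x) a f p).ncard) : σ' = σ := by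
  have : 1 < (Tw (R x) a f p \ {t}).ncard := by
    rw [Set.ncard_sdiff_singleton_of_mem k.tw]; omega
  obtain ⟨τ, hτ, τ', hτ', hne⟩ := (Set.one_lt_ncard (Set.toFinite _)).1 this
  exact k.eq_of_two k' h hτ.1 hτ'.1 hne hτ.2 hτ.2 hτ'.2 hτ'.2

/-- The type is determined by any nontrivial commuting element. -/
theorem eq_of_comm (k : InvTy R x y a f σ t) (h : SS R x y a f p) {r : G} (hr : r ∈ Dm (R x) a f τ)
    (r1 : r ≠ 1) (c : Commute r σ) : τ = t :=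
  by_contra fun e => r1 (h.eq_one e hr (mem_Dm.2 ⟨hr.1, k.lx r hr.1 c⟩))

theorem conj_C (k : InvTy R x y a f σ t) (h : SS R x y a f p) {c : G} (hc : c ∈ C0 x y a f) :
    InvTy R x y a f (c * σ * c⁻¹) t := by
  have key : ∀ z : X, c • z = z → (∀ r ∈ R z, Commute r σ → Commute r (wl a f t)) →
      ∀ r ∈ R z, Commute r (c * σ * c⁻¹) → Commute r (wl a f t) := fun z cz H r hr e => by
    have e1 := H _ (h.fam.conj_inv cz hr) (by simpa [mul_assoc] using e.conj c⁻¹)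
    have cw := h.commute_wl hc t
    simpa [mul_assoc] using (cw.mul_left e1).mul_left cw.inv_left
  exact ⟨mul_mem (mul_mem hc k.mem) (inv_mem hc), two_conj k.two c, k.tw, key x hc.1.1 k.lx,
    key y hc.1.2 k.ly⟩

theorem central (k : InvTy R x y a f σ t) (h : SI R x y a f p) (h3 : 3 ≤ (Tw (R x) a f p).ncard)
    {c : G} (hc : c ∈ C0 x y a f) : Commute c σ :=
  mul_inv_eq_iff_eq_mul.1 (k.eq_of_same (k.conj_C h.toSS hc) h h3)

theorem conj_S (k : InvTy R x y a f σ t) (h : SS R x y a f p) {m : ZMod p}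
    (hm : m ∈ Tw (R x) a f p) {s : G} (sx : s • x = y) (sy : s • y = x)
    (hc : Commute s (wl a f m)) : InvTy R x y a f (s * σ * s⁻¹) (m * m / t) := by
  have m0 := h.s5a_ne hm
  have t0 := h.s5a_ne k.tw
  have e := h.conj_wl_S (inv_ne_zero m0) (h.refl sx sy hc).1 (h.refl sx sy hc).2 t0
  rw [show m / (m⁻¹ * t) = m * m / t by field_simp] at e
  have key : ∀ z w : X, s • z = w → (∀ r ∈ R z, Commute r σ → Commute r (wl a f t)) →
      ∀ r ∈ R w, Commute r (s * σ * s⁻¹) → Commute r (wl a f (m * m / t)) :=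
    fun z w cz H r hr e0 => by
    have e1 := (H _ (h.fam.conj_inv cz hr) (by simpa [mul_assoc] using e0.conj s⁻¹)).conj s
    rw [e] at e1
    exact commute_of_pw (h.orderOf_wl _) (mul_ne_zero (inv_ne_zero m0) t0)
      (by simpa [mul_assoc] using e1)
  exact ⟨h.conj_C0_S sx sy k.mem, two_conj k.two s, h.s5a_div hm k.tw, key y x sy k.ly,
    key x y sx k.lx⟩

theorem mul (k : InvTy R x y a f σ t) (k' : InvTy R x y a f σ' t') (h : SI R x y a f p)
    (ho : Odd (Nat.card (R x))) (h3 : 3 ≤ (Tw (R x) a f p).ncard) (hne : σ' ≠ σ)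
    (hτ : τ ∈ Tw (R x) a f p) (h1 : τ ≠ t) (h2 : τ ≠ t') : InvTy R x y a f (σ * σ') τ := by
  obtain ⟨r, hr, r1⟩ := exists_of_mem_Tw hτ
  obtain ⟨u, hu⟩ := h.s5a_ty ho (mul_mem k.mem k'.mem) (two_of (by
    rw [← sq, (k'.central h h3 k.mem).mul_pow, sq, sq, mul_self_two k.two, mul_self_two k'.two,
      mul_one]) fun e => hne (by rw [mul_eq_one_iff_inv_eq.1 e |>.symm, inv_two k.two]))
  rwa [hu.eq_of_comm h.toSS hr r1 (k.comm_mul k' h.toSS h1 h2 hr)]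

theorem ne_of_ne (k : InvTy R x y a f σ t) (k' : InvTy R x y a f σ' t') (h : SS R x y a f p)
    (ho : Odd (Nat.card (R x))) (hne : t ≠ t') : σ' ≠ σ := by
  rintro rfl
  obtain ⟨r, hr⟩ := (Subgroup.ne_bot_iff_exists_ne_one).1 (h.cent_ne_bot ho k.mem k.two)
  have c : Commute r.1 σ' := mem_centralizer_singleton_iff.1 r.2.2
  exact hne (k'.eq_of_comm h (mem_Dm.2 ⟨r.2.1, k.lx _ r.2.1 c⟩) (fun e => hr (Subtype.ext e)) c)

end InvTy

/-- The three involutions and their types. -/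
theorem SI.s5a_three (h : SI R x y a f p) (ho : Odd (Nat.card (R x)))
    (h3 : 3 ≤ (Tw (R x) a f p).ncard) (he : Even (Nat.card (C0 x y a f))) :
    ∃ (s : Fin 3 → G) (t : Fin 3 → ZMod p), (∀ i, InvTy R x y a f (s i) (t i)) ∧
      Function.Injective t ∧ (∀ m ∈ Tw (R x) a f p, ∃ i, t i = m) ∧
      ∀ i j, t i * t i * t i = t j * t j * t j := by
  obtain ⟨σ, hσ⟩ := exists_prime_orderOf_dvd_card' (G := C0 x y a f) 2 he.two_dvd
  obtain ⟨t1, k0⟩ := h.s5a_ty ho σ.2 (by rw [orderOf_coe, hσ])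
  obtain ⟨m, hm, hm'⟩ := Set.exists_mem_notMem_of_ncard_lt_ncard (s := {t1, -t1})
    (t := Tw (R x) a f p) (lt_of_le_of_lt ((Set.ncard_insert_le _ _).trans (by simp)) h3)
  simp only [Set.mem_insert_iff, Set.mem_singleton_iff, not_or] at hm'
  obtain ⟨s, hc, sx, sy⟩ := h.toSS.s5a_swap hm
  have k1 := k0.conj_S h.toSS hm sx sy hc
  have m0 := h.toSS.s5a_ne hm
  have t0 := h.toSS.s5a_ne k0.tw
  have q : m * m ≠ t1 * t1 := fun e => (mul_self_eq_mul_self_iff.1 e).elim hm'.1 hm'.2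
  have n1 : t1 ≠ m * m / t1 := fun e => q (by rw [eq_div_iff t0] at e; exact e.symm)
  have n2 : m ≠ m * m / t1 := fun e => hm'.1 (by
    rw [eq_div_iff t0] at e; exact (mul_left_cancel₀ m0 e).symm)
  have ns := k0.ne_of_ne k1 h.toSS ho n1
  have all : ∀ τ ∈ Tw (R x) a f p, τ ≠ t1 → τ ≠ m * m / t1 → τ = m := fun τ hτ h1 h2 =>
    by_contra fun e => ns (k0.eq_of_two k1 h hτ hm e h1 h2 hm'.1 n2)
  have k2 := k0.mul k1 h ho h3 ns hm hm'.1 n2
  have c1 : t1 * t1 * t1 = m * m * m := by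
    by_contra e
    have := all _ (h.toSS.s5a_div k0.tw hm)
      (fun e => hm'.1 (by rw [div_eq_iff m0] at e; exact (mul_left_cancel₀ t0 e).symm))
      (fun e' => e (by rwa [div_eq_div_iff m0 t0] at e'))
    rw [div_eq_iff m0] at this
    exact q this.symm
  have c2 : m * m / t1 * (m * m / t1) * (m * m / t1) = m * m * m := by
    field_simp
    linear_combination (-1 : ZMod p) * c1
  refine ⟨![σ, s * σ * s⁻¹, σ * (s * σ * s⁻¹)], ![t1, m * m / t1, m], fun i => ?_, fun i j e => ?_,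
    fun τ hτ => ?_, fun i j => ?_⟩
  · fin_cases i
    exacts [k0, k1, k2]
  · fin_cases i <;> fin_cases j <;>
      first | rfl | exact absurd e n1 | exact absurd e.symm n1 | exact absurd e n2 |
        exact absurd e.symm n2 | exact absurd e hm'.1 | exact absurd e.symm hm'.1
  · by_cases h1 : τ = t1
    · exact ⟨0, h1.symm⟩
    by_cases h2 : τ = m * m / t1
    · exact ⟨1, h2.symm⟩
    exact ⟨2, (all τ hτ h1 h2).symm⟩
  · have : ∀ i : Fin 3, ![t1, m * m / t1, m] i * ![t1, m * m / t1, m] i * ![t1, m * m / t1, m] i =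
        m * m * m := fun i => by
      fin_cases i
      exacts [c1, c2, rfl]
    rw [this, this]

theorem SI.t3 (h : SI R x y a f p) (ho : Odd (Nat.card (R x)))
    (h3 : 3 ≤ (Tw (R x) a f p).ncard) (he : Even (Nat.card (C0 x y a f))) :
    ∃ s : Fin 3 → G, T3 R x y (C0 x y a f) s := by
  obtain ⟨s, t, k, inj, surj, cub⟩ := h.s5a_three ho h3 he
  have t0 : ∀ i, t i ≠ 0 := fun i => h.toSS.s5a_ne (k i).tw
  have mul : ∀ {i j l}, i ≠ j → i ≠ l → j ≠ l → s j * s l = s i := fun {i j l} h1 h2 h4 =>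
    (k i).eq_of_same ((k j).mul (k l) h ho h3 ((k j).ne_of_ne (k l) h.toSS ho (inj.ne h4))
      (k i).tw (inj.ne h1) (inj.ne h2)) h h3
  have oth : ∀ i : Fin 3, ∃ j l, i ≠ j ∧ i ≠ l ∧ j ≠ l := by decide
  have thr : ∀ i j l n : Fin 3, i ≠ j → i ≠ l → j ≠ l → n ≠ i → n ≠ j → n = l := by omega
  have cm : ∀ i, ∀ r ∈ Dm (R x) a f (t i), Commute r (s i) := fun i r hr => by
    obtain ⟨j, l, h1, h2, h4⟩ := oth i
    rw [← mul h1 h2 h4]
    exact (k j).comm_mul (k l) h.toSS (inj.ne h1) (inj.ne h2) hr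
  have dm : ∀ i, ∀ r ∈ R x, Commute r (s i) → r ∈ Dm (R x) a f (t i) := fun i r hr c =>
    mem_Dm.2 ⟨hr, (k i).lx r hr c⟩
  have sq : ∀ {i j l}, i ≠ j → i ≠ l → j ≠ l → t i * t i / t j = t l := fun {i j l} h1 h2 h4 => by
    obtain ⟨n, hn⟩ := surj _ (h.toSS.s5a_div (k i).tw (k j).tw)
    rw [← hn, thr i j l n h1 h2 h4]
    · rintro rfl
      rw [eq_div_iff (t0 j)] at hn
      exact h1 (inj (mul_left_cancel₀ (t0 n) hn)).symm
    · rintro rfl
      rw [eq_div_iff (t0 n)] at hn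
      have := cub i n
      rw [hn] at this
      exact h1 (inj (mul_left_cancel₀ (mul_ne_zero (t0 i) (t0 i)) this))
  have ex : ∀ i, ∀ b ∈ R x, b ≠ 1 → Commute b (s i) →
      ∃ μ, Commute μ (wl a f (t i)) ∧ Mu R x y b μ := fun i b hb b1 c => by
    obtain ⟨j, -, h1, -, -⟩ := oth i
    obtain ⟨μ, h2, h4⟩ := h.toRF.exists_mu h.ne (U := {wl a f (t i)})
      (by rintro _ rfl; exact h.toSS.wl_fix _) (k j).mem.1.1 (k j).mem.1.2
      ((k j).inv_x h.toSS (inj.ne h1)) ((k j).inv_y h.toSS (inj.ne h1)) (dm i b hb c) b1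
    exact ⟨μ, mem_centralizer_singleton_iff.1 h2, h4⟩
  have cw : ∀ i {b μ : G}, Commute b (s i) → Mu R x y b μ → Commute μ (wl a f (t i)) :=
    fun i {b μ} c m => by
    obtain ⟨μ', h1, h2⟩ := ex i b m.mem (m.ne_one h.toRF h.ne) c
    rwa [h2.unique h.toRF h.ne m]
  have fx : ∀ {b b' μ μ' : G}, Mu R x y b μ → Mu R x y b' μ' →
      (μ * μ') • x = x ∧ (μ * μ') • y = y := fun m m' =>
    ⟨by rw [mul_smul, m'.sx, m.sy], by rw [mul_smul, m'.sy, m.sx]⟩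
  refine ⟨s, h.toRF, h.ne, ho, h.toSS.nil, inf_le_left, fun g gx gy c hc => h.toSS.conj_C0_H gx gy hc,
    fun g gx gy c hc => h.toSS.conj_C0_S gx gy hc, fun i => (k i).mem,
    fun i => mul_self_two (k i).two, mul (by decide) (by decide) (by decide),
    fun c hc i => (k i).central h h3 hc,
    fun {i j} hij r hr c => (k i).inv_x h.toSS (inj.ne hij.symm) r (dm j r hr c), fun i => ?_,
    fun c hc {i j} hij r hr r' hr' r1 r1' c1 c2 c3 c4 =>
      h.tw hc (inj.ne hij) (dm i r hr c1) (dm j r' hr' c2) r1 r1' c3 c4,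
    fun i b hb b1 c => ?_, fun i {b b' μ μ'} c c' m m' => ?_, fun i j {b b' μ μ'} c c' m m' => ?_⟩
  · obtain ⟨r, hr, r1⟩ := exists_of_mem_Tw (k i).tw
    exact ⟨r, hr.1, r1, cm i r hr⟩
  · obtain ⟨μ, h1, m⟩ := ex i b hb b1 c
    have e : ∀ j l, i ≠ j → i ≠ l → j ≠ l → μ * s j * μ⁻¹ = s l := fun j l h2 h4 h5 =>
      (k l).eq_of_same (sq h2 h4 h5 ▸ (k j).conj_S h.toSS (k i).tw m.sx m.sy h1) h h3
    refine ⟨μ, m, ?_, e⟩
    obtain ⟨j, l, h2, h4, h5⟩ := oth i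
    have e1 : s j * μ * (s j)⁻¹ = μ⁻¹ := m.inv.unique h.toRF h.ne
      ((k j).inv_x h.toSS (inj.ne h2) b (dm i b hb c) ▸ m.conjH h.toRF (k j).mem.1.1 (k j).mem.1.2)
    rw [← mul h4 h2 h5.symm, ← e j l h2 h4 h5, ← e1]
    calc μ * μ = μ * (s j * s j) * μ * (s j * s j) * 1 := by simp [mul_self_two (k j).two]
      _ = μ * (s j * s j) * μ * ((s j)⁻¹ * s j) := by rw [inv_two (k j).two, mul_one]
      _ = _ := by group
  · exact h.toSS.mem_C0_of (fx m m').1 (fx m m').2 (t0 i) ((cw i c m).mul_left (cw i c' m'))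
  · obtain ⟨a1, f1⟩ := h.toSS.refl m.sx m.sy (cw i c m)
    obtain ⟨a2, f2⟩ := h.toSS.refl m'.sx m'.sy (cw j c' m')
    have hc := cub i j
    have i0 := t0 i
    have j0 := t0 j
    refine mem_C0.2 ⟨pow_mem (mem_st2.2 (fx m m')) 3,
      s5a_cube h.oa (α := (t i)⁻¹ * t j) ?_ ?_, s5a_cube h.of (α := t i * (t j)⁻¹) ?_ ?_⟩
    · calc μ * μ' * a * (μ * μ')⁻¹ = μ * (μ' * a * μ'⁻¹) * μ⁻¹ := by group
        _ = _ := by rw [a2, ← conj_pow, f1, pw_mul h.oa]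
    · field_simp
      linear_combination (-1 : ZMod p) * hc
    · calc μ * μ' * f * (μ * μ')⁻¹ = μ * (μ' * f * μ'⁻¹) * μ⁻¹ := by group
        _ = _ := by rw [f2, ← conj_pow, a1, pw_mul h.of]
    · field_simp
      linear_combination hc

end Cfsg.Agent.OT
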