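import Mathlib
import Cfsg.Agent.OT.Defs
import Cfsg.Agent.GT.CoprimeActThms
import Cfsg.Agent.FG.H93Cyc

/-!
# The algebraic configuration with three involutions: basic facts and pairs
-/

set_option autoImplicit false

namespace Cfsg.Agent.OT

open Subgroup

variable {Γ M : Type*} [Group Γ] [AddCommGroup M] [MulAction Γ M] {H C : Subgroup Γ}
  {s : Fin 3 → Γ} {μ : M → Γ}

namespace MS

variable (h : MS H C s μ)
include h

theorem sH (i : Fin 3) : s i ∈ H := h.CH (h.sC i)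

theorem smul_neg {g : Γ} (hg : g ∈ H) (c : M) : g • (-c) = -(g • c) :=
  eq_neg_of_add_eq_zero_left (by rw [← h.add g hg, neg_add_cancel, h.zero])

theorem smul_sub {g : Γ} (hg : g ∈ H) (c d : M) : g • (c - d) = g • c - g • d := by
  rw [sub_eq_add_neg, h.add g hg, h.smul_neg hg, sub_eq_add_neg]

theorem smul_ne (g : Γ) {c : M} (hc : c ≠ 0) : g • c ≠ 0 := fun e =>
  hc (by rw [← inv_smul_smul g c, e, h.zero])

theorem conj_H {τ g : Γ} (hτ : τ ∉ H) (hg : g ∈ H) : τ * g * τ⁻¹ ∈ H :=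
  h.sw (fun e => hτ ((H.mul_mem_cancel_right hg).1 e)) (fun e => hτ (inv_mem_iff.1 e))

theorem s_inv (i : Fin 3) : (s i)⁻¹ = s i := inv_eq_of_mul_eq_one_right (h.s2 i)

theorem s_mul {i j k : Fin 3} (h1 : i ≠ j) (h2 : i ≠ k) (h3 : j ≠ k) : s i * s j = s k := by
  have e := h.s01
  have c := (h.cen _ (h.sC 0) 1).eq
  have a02 : s 0 * s 2 = s 1 := by rw [← e, ← mul_assoc, h.s2, one_mul]
  have a12 : s 1 * s 2 = s 0 := by rw [← e, c, ← mul_assoc, h.s2, one_mul]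
  have a20 := (h.cen _ (h.sC 2) 0).eq.trans a02
  have a21 := (h.cen _ (h.sC 2) 1).eq.trans a12
  have a10 := c.symm.trans e
  fin_cases i <;> fin_cases j <;> fin_cases k <;> simp_all

theorem eq_zero_of_neg {d : M} (e : d = -d) : d = 0 := h.two d (by nth_rw 2 [e]; simp)

theorem s_ne_one (i : Fin 3) : s i ≠ 1 := fun e => by
  obtain ⟨j, hj⟩ := exists_ne i
  obtain ⟨d, h0, hd⟩ := h.D1 j
  have := h.neg hj.symm d hd
  rw [e, one_smul] at this
  exact h0 (h.eq_zero_of_neg this)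

theorem fix_C {i : Fin 3} {c : Γ} (hc : c ∈ C) {d : M} (hd : s i • d = d) :
    s i • c • d = c • d := by
  rw [← mul_smul, ← (h.cen c hc i).eq, mul_smul, hd]

theorem fix_neg {i : Fin 3} {d : M} (hd : s i • d = d) : s i • (-d) = -d := by
  rw [h.smul_neg (h.sH i), hd]

theorem fix_add {i : Fin 3} {d d' : M} (hd : s i • d = d) (hd' : s i • d' = d') :
    s i • (d + d') = d + d' := by rw [h.add _ (h.sH i), hd, hd']

theorem fix_sub {i : Fin 3} {d d' : M} (hd : s i • d = d) (hd' : s i • d' = d') :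
    s i • (d - d') = d - d' := by rw [h.smul_sub (h.sH i), hd, hd']

omit h [AddCommGroup M] in
theorem fix_conj {g a b : Γ} (e : g * a * g⁻¹ = b) {d : M} (hd : a • d = d) :
    b • g • d = g • d := by rw [← e, mul_smul, mul_smul, inv_smul_smul, hd]

theorem indep {a b c : M} (ha : s 0 • a = a) (hb : s 1 • b = b) (hc : s 2 • c = c)
    (e : a + b + c = 0) : a = 0 ∧ b = 0 ∧ c = 0 := by
  have e0 := congrArg (s 0 • ·) e
  have e1 := congrArg (s 1 • ·) e
  simp only [h.add _ (h.sH _), h.zero, ha, hb, h.neg (i := 0) (j := 1) (by decide) b hb,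
    h.neg (i := 0) (j := 2) (by decide) c hc, h.neg (i := 1) (j := 0) (by decide) a ha,
    h.neg (i := 1) (j := 2) (by decide) c hc] at e0 e1
  have a0 : a = 0 := h.two a (by linear_combination (norm := abel1) e + e0)
  have b0 : b = 0 := h.two b (by linear_combination (norm := abel1) e + e1)
  exact ⟨a0, b0, by simpa [a0, b0] using e⟩

theorem comp {a b c a' b' c' : M} (ha : s 0 • a = a) (hb : s 1 • b = b) (hc : s 2 • c = c)
    (ha' : s 0 • a' = a') (hb' : s 1 • b' = b') (hc' : s 2 • c' = c')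
    (e : a + b + c = a' + b' + c') : a = a' ∧ b = b' ∧ c = c' := by
  have := h.indep (h.fix_sub ha ha') (h.fix_sub hb hb') (h.fix_sub hc hc')
    (by linear_combination (norm := abel1) e)
  simpa only [sub_eq_zero] using this

/-- An element of `C` with a nonzero fixed point has one in some `D i`. -/
theorem exists_fix {c : Γ} (hc : c ∈ C) {m : M} (h0 : m ≠ 0) (hm : c • m = m) :
    ∃ (i : Fin 3) (d : M), d ≠ 0 ∧ s i • d = d ∧ c • d = d := by
  by_contra hn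
  have key : ∀ i, s i • m = -m := fun i => by
    by_contra e
    refine hn ⟨i, m + s i • m, fun e' => e (eq_neg_of_add_eq_zero_right e'), ?_, ?_⟩
    · rw [h.add _ (h.sH i), ← mul_smul, h.s2, one_smul, add_comm]
    · rw [h.add _ (h.CH hc), ← mul_smul, (h.cen c hc i).eq, mul_smul, hm]
  have := key 2
  rw [← h.s01, mul_smul, key 1, h.smul_neg (h.sH 0), key 0, neg_neg] at this
  exact h0 (h.eq_zero_of_neg this)

section One

variable {i : Fin 3} {b : M} (h0 : b ≠ 0) (hb : s i • b = b)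
include h0 hb

theorem mu_comm : Commute (μ b) (s i) := by
  rw [← h.mu_sq i h0 hb]; exact (Commute.refl _).mul_right (Commute.refl _)

theorem mu_inv : (μ b)⁻¹ = μ b * s i := by
  rw [inv_eq_iff_mul_eq_one, ← mul_assoc, h.mu_sq i h0 hb, h.s2]

theorem mu_fix {d : M} (hd : s i • d = d) : s i • μ b • d = μ b • d := by
  rw [← mul_smul, ← (h.mu_comm h0 hb).eq, mul_smul, hd]

theorem mu_inv_smul {d : M} (hd : s i • d = d) : (μ b)⁻¹ • d = μ b • d := by
  rw [h.mu_inv h0 hb, mul_smul, hd]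

theorem mu_mu {d : M} (hd : s i • d = d) : μ b • μ b • d = d := by
  rw [← mul_smul, h.mu_sq i h0 hb, hd]

theorem mu_self' : μ b • (-b) = b := by
  rw [← h.mu_self i h0 hb, h.mu_mu h0 hb hb]

theorem mu_s' {j k : Fin 3} (h1 : i ≠ j) (h2 : i ≠ k) (h3 : j ≠ k) : μ b * s j = s k * μ b := by
  rw [← h.mu_s h1 h2 h3 h0 hb, inv_mul_cancel_right]

theorem mu_smul_neg {d : M} (hd : s i • d = d) : μ b • (-d) = -(μ b • d) := by
  obtain ⟨j, k, h1, h2, h3⟩ : ∃ j k : Fin 3, i ≠ j ∧ i ≠ k ∧ j ≠ k := by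
    clear hb hd; revert i; decide
  rw [← h.neg h1.symm d hd, ← mul_smul, h.mu_s' h0 hb h1 h2 h3, mul_smul,
    h.neg h2.symm _ (h.mu_fix h0 hb hd)]

theorem mu_inv_sw : (μ b)⁻¹ ∉ H := fun e => h.mu_sw i h0 hb (inv_mem_iff.1 e)

theorem mu_conj {y : Γ} (hy : y ∈ H) (e : μ b * y * (μ b)⁻¹ = y⁻¹) : μ (y • b) = y * y * μ b := by
  have : μ b * y⁻¹ * (μ b)⁻¹ = y := by rw [← conj_inv, e, inv_inv]
  rw [← h.mu_H i h0 hb y hy, mul_assoc, mul_inv_eq_iff_eq_mul.1 this, mul_assoc]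

/-- The basic identity inside one `D i`. -/
theorem ident {c : M} (c0 : c ≠ 0) (hc : s i • c = c) (hbc : c + b ≠ 0) :
    μ b • c - b = μ (c + b) • c + (c + b) := by
  have hu := h.fix_add hc hb
  have e1 := h.F i h0 hb _ (h.mu_sw i hbc hu) c c0 hbc
  have e2 := h.F i (neg_ne_zero.2 hbc) (h.fix_neg hu) _ (h.mu_sw i hbc hu) c c0
    (by simpa using h0)
  rw [h.mu_neg i hbc hu, h.mu_inv_smul hbc hu hc, neg_neg, sub_neg_eq_add,
    show c + -(c + b) = -b by abel, add_comm (μ (c + b) • -b), ← e1] at e2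
  exact (smul_left_cancel _ e2).symm

theorem mu_inj {u : M} (u0 : u ≠ 0) (hu : s i • u = u) (e : μ u = μ b) : u = b := by
  by_contra hne
  have := h.ident h0 hb (sub_ne_zero.2 hne) (h.fix_sub hu hb) (by simpa using u0)
  rw [sub_add_cancel, e, sub_eq_add_neg, add_left_cancel_iff] at this
  rw [← this, h.mu_neg i h0 hb, h.mu_inv h0 hb, mul_eq_left] at e
  exact h.s_ne_one i e

end One

/-- A commutative group acting without fixed points on a nonzero invariant subgroup is cyclic. -/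
theorem cyc [Finite Γ] [Finite M] {A : Subgroup Γ} (hA : A ≤ C)
    (hc : ∀ a ∈ A, ∀ a' ∈ A, a * a' = a' * a) (i : Fin 3)
    (hf : ∀ a ∈ A, ∀ d : M, d ≠ 0 → s i • d = d → a • d = d → a = 1) : IsCyclic A := by
  by_contra hn
  let φ : A →* MulAut (Multiplicative M) :=
    { toFun := fun a =>
        { toFun := fun c => Multiplicative.ofAdd ((a : Γ) • c.toAdd)
          invFun := fun c => Multiplicative.ofAdd ((a : Γ)⁻¹ • c.toAdd)
          left_inv := fun c => by simp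
          right_inv := fun c => by simp
          map_mul' := fun c d => congrArg Multiplicative.ofAdd (h.add _ (h.CH (hA a.2)) _ _) }
      map_one' := by ext c; simp
      map_mul' := fun a a' => by ext c; simp [mul_smul] }
  let U : Subgroup (Multiplicative M) :=
    { carrier := {c | s i • c.toAdd = c.toAdd}
      mul_mem' := fun ha hb => h.fix_add ha hb
      one_mem' := h.zero _
      inv_mem' := fun ha => h.fix_neg ha }
  have hU : GT.CopAct.ActInv φ U := fun a u hu => h.fix_C (hA a.2) hu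
  have hcop : (Nat.card A).Coprime (Nat.card U) := by
    by_contra hp
    obtain ⟨p, hp, h1, h2⟩ := Nat.Prime.not_coprime_iff_dvd.1 hp
    have := Fact.mk hp
    obtain ⟨a, ha⟩ := exists_prime_orderOf_dvd_card' p h1
    classical
    have := Fintype.ofFinite U
    let σ : Equiv.Perm U := Equiv.Perm.subtypePerm (φ a).toEquiv fun u =>
      ⟨fun e => by simpa using hU a⁻¹ _ e, hU a u⟩
    obtain ⟨u, e, hu⟩ := Equiv.Perm.exists_fixed_point_of_prime' (p := p) (n := 1) (σ := σ)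
      (by rwa [← Nat.card_eq_fintype_card]) (by
        ext u
        have : (φ a).toEquiv ^ p = 1 := by
          have := congrArg (MulAut.toPerm _) (show φ a ^ p = 1 by
            rw [← map_pow, ← ha, pow_orderOf_eq_one, map_one])
          rwa [map_pow, map_one] at this
        simp only [σ, Equiv.Perm.subtypePerm_pow, pow_one, this]
        rfl) (a := 1) (Subtype.ext (map_one (φ a)))
    have := hf a a.2 u.1.toAdd (fun e => hu (Subtype.ext e)) u.2 (congrArg Subtype.val e)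
    rw [show a = 1 from Subtype.ext this, orderOf_one] at ha
    exact hp.one_lt.ne ha
  have := GT.CopAct.act_le_of_fixed_elt (φ := φ) (H := ⊥)
    (IsMulCommutative.of_comm fun a a' => Subtype.ext (hc _ a.2 _ a'.2)) hn hU hcop
    fun a a1 u hu e => by_contra fun u1 => a1 (Subtype.ext (hf a a.2 u.toAdd u1 hu e))
  obtain ⟨d, d0, hd⟩ := h.D1 i
  exact d0 (this (x := Multiplicative.ofAdd d) hd)

end MS

/-- The elements of `C` commuting with `κ = μ v (μ u)⁻¹`. -/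
def JJ (C : Subgroup Γ) (μ : M → Γ) (u v : M) : Subgroup Γ :=
  C ⊓ centralizer {μ v * (μ u)⁻¹}

omit [AddCommGroup M] [MulAction Γ M] in
theorem mem_JJ {u v : M} {j : Γ} : j ∈ JJ C μ u v ↔ j ∈ C ∧ Commute j (μ v * (μ u)⁻¹) :=
  and_congr Iff.rfl mem_centralizer_singleton_iff

/-- A pair of nonzero elements of the first two types. -/
structure Ty (s : Fin 3 → Γ) (u v : M) : Prop where
  u0 : u ≠ 0
  v0 : v ≠ 0
  hu : s 0 • u = u
  hv : s 1 • v = v

/-- The invariant `y` of a pair. -/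
structure Pr (C : Subgroup Γ) (s : Fin 3 → Γ) (μ : M → Γ) (u v : M) (y : Γ) : Prop
    extends Ty s u v where
  mem : y ∈ JJ C μ u v
  sq : y * y = (μ v * (μ u)⁻¹) ^ 3

namespace MS

variable (h : MS H C s μ) {u v : M} (k : Ty s u v)
include h k

theorem kH : μ v * (μ u)⁻¹ ∈ H := h.sw (h.mu_sw 1 k.v0 k.hv) (h.mu_inv_sw k.u0 k.hu)

theorem As1 : μ u * s 1 = s 2 * μ u := h.mu_s' k.u0 k.hu (by decide) (by decide) (by decide)
theorem As2 : μ u * s 2 = s 1 * μ u := h.mu_s' k.u0 k.hu (by decide) (by decide) (by decide)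
theorem Bs0 : μ v * s 0 = s 2 * μ v := h.mu_s' k.v0 k.hv (by decide) (by decide) (by decide)
theorem Bs2 : μ v * s 2 = s 0 * μ v := h.mu_s' k.v0 k.hv (by decide) (by decide) (by decide)

theorem k0 : μ v * (μ u)⁻¹ * s 0 * (μ v * (μ u)⁻¹)⁻¹ = s 2 := by
  rw [mul_inv_eq_iff_eq_mul, mul_assoc, (h.mu_comm k.u0 k.hu).inv_left.eq, ← mul_assoc, h.Bs0 k,
    mul_assoc]

theorem k1 : μ v * (μ u)⁻¹ * s 1 * (μ v * (μ u)⁻¹)⁻¹ = s 0 := by
  have : (μ u)⁻¹ * s 1 = s 2 * (μ u)⁻¹ := by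
    rw [inv_mul_eq_iff_eq_mul, ← mul_assoc, h.As2 k, mul_inv_cancel_right]
  rw [mul_inv_eq_iff_eq_mul, mul_assoc, this, ← mul_assoc, h.Bs2 k, mul_assoc]

theorem k2 : μ v * (μ u)⁻¹ * s 2 * (μ v * (μ u)⁻¹)⁻¹ = s 1 := by
  have : (μ u)⁻¹ * s 2 = s 1 * (μ u)⁻¹ := by
    rw [inv_mul_eq_iff_eq_mul, ← mul_assoc, h.As1 k, mul_inv_cancel_right]
  rw [mul_inv_eq_iff_eq_mul, mul_assoc, this, ← mul_assoc, (h.mu_comm k.v0 k.hv).eq, mul_assoc]

theorem he : s 2 • μ v • u = μ v • u := by rw [← mul_smul, ← h.Bs0 k, mul_smul, k.hu]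

theorem ku : (μ v * (μ u)⁻¹) • u = -(μ v • u) := by
  rw [mul_smul, h.mu_inv_smul k.u0 k.hu k.hu, h.mu_self 0 k.u0 k.hu,
    ← h.neg (i := 1) (by decide) u k.hu, ← mul_smul, (h.mu_comm k.v0 k.hv).eq, mul_smul,
    h.neg (by decide) _ (h.he k)]

theorem J_fpf {j : Γ} (hj : j ∈ JJ C μ u v) {m : M} (h0 : m ≠ 0) (hm : j • m = m) : j = 1 := by
  obtain ⟨hC, hc⟩ := mem_JJ.1 hj
  obtain ⟨i, d, d0, hd, e⟩ := h.exists_fix hC h0 hm
  obtain ⟨i', hi, e'⟩ : ∃ i', i ≠ i' ∧ μ v * (μ u)⁻¹ * s i * (μ v * (μ u)⁻¹)⁻¹ = s i' := by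
    fin_cases i
    exacts [⟨2, by decide, h.k0 k⟩, ⟨0, by decide, h.k1 k⟩, ⟨1, by decide, h.k2 k⟩]
  exact h.tw j hC hi d _ d0 (h.smul_ne _ d0) hd (fix_conj e' hd) e
    (by rw [← mul_smul, hc.eq, mul_smul, e])

theorem J_two {j : Γ} (hj : j ∈ JJ C μ u v) (h2 : j * j = 1) : j = 1 := by
  by_contra h1
  have hC := (mem_JJ.1 hj).1
  have key : ∀ d : M, j • d = -d := fun d => by
    by_contra e
    refine h1 (h.J_fpf k hj (m := d + j • d) (fun e' => e (eq_neg_of_add_eq_zero_right e')) ?_)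
    rw [h.add _ (h.CH hC), ← mul_smul, h2, one_smul, add_comm]
  have := h.tw (j * s 0) (mul_mem hC (h.sC 0)) (i := 1) (j := 2) (by decide) v _ k.v0
    (h.smul_ne (μ v) k.u0) k.hv (h.he k)
    (by rw [mul_smul, h.neg (by decide) v k.hv, key, neg_neg])
    (by rw [mul_smul, h.neg (by decide) _ (h.he k), key, neg_neg])
  have e := key u
  rw [mul_eq_one_iff_eq_inv, h.s_inv] at this
  rw [this, k.hu] at e
  exact k.u0 (h.eq_zero_of_neg e)

theorem J_odd [Finite Γ] {j : Γ} (hj : j ∈ JJ C μ u v) : Odd (orderOf j) := by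
  by_contra ho
  obtain ⟨n, hn⟩ := Nat.not_odd_iff_even.1 ho
  have h1 := h.J_two k (pow_mem hj n) (by rw [← pow_add, ← hn, pow_orderOf_eq_one])
  have h2 := Nat.le_of_dvd (by have := orderOf_pos j; omega) (orderOf_dvd_of_pow_eq_one h1)
  have := orderOf_pos j
  omega

theorem AkA : μ u * (μ v * (μ u)⁻¹) * (μ u)⁻¹ = (μ v * (μ u)⁻¹)⁻¹ * s 2 := by
  rw [mul_inv_rev, inv_inv, h.mu_inv k.v0 k.hv, mul_assoc (μ u), mul_assoc (μ v), ← mul_inv_rev,
    h.mu_sq 0 k.u0 k.hu, h.s_inv, mul_assoc, mul_assoc,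
    h.s_mul (i := 1) (j := 2) (k := 0) (by decide) (by decide) (by decide)]

theorem J_conj {j : Γ} (hj : j ∈ JJ C μ u v) : μ u * j * (μ u)⁻¹ ∈ JJ C μ u v := by
  obtain ⟨hC, hc⟩ := mem_JJ.1 hj
  have hC' := h.Cn.conj_mem j hC (μ u)
  refine mem_JJ.2 ⟨hC', ?_⟩
  have := hc.conj (μ u)
  rw [h.AkA k] at this
  simpa using (this.mul_right (h.cen _ hC' 2).inv_right).inv_right

theorem fix_of_comm {c : Γ} (hc : c ∈ C) (e : Commute c (μ u)) : c • u = u :=
  h.mu_inj k.u0 k.hu (h.smul_ne c k.u0) (h.fix_C hc k.hu)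
    (by rw [← h.mu_H 0 k.u0 k.hu c (h.CH hc), e.eq, mul_inv_cancel_right])

theorem J_invA [Finite Γ] {j : Γ} (hj : j ∈ JJ C μ u v) : μ u * j * (μ u)⁻¹ = j⁻¹ := by
  let φ : JJ C μ u v →* JJ C μ u v :=
    { toFun := fun j => ⟨_, h.J_conj k j.2⟩
      map_one' := Subtype.ext (by simp)
      map_mul' := fun a b => Subtype.ext (by simp [mul_assoc]) }
  have h1 : MonoidHom.FixedPointFree φ := fun j e => Subtype.ext (h.J_fpf k j.2 k.u0
    (h.fix_of_comm k j.2.1 (mul_inv_eq_iff_eq_mul.1 (congrArg Subtype.val e)).symm))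
  have h2 : Function.Involutive φ := fun j => Subtype.ext (by
    show μ u * (μ u * j * (μ u)⁻¹) * (μ u)⁻¹ = j
    rw [← mul_assoc, ← mul_assoc, mul_assoc _ (μ u)⁻¹, ← mul_inv_rev, h.mu_sq 0 k.u0 k.hu,
      ← (h.cen _ j.2.1 0).eq, mul_inv_cancel_right])
  exact congrArg Subtype.val (congrFun (h1.coe_eq_inv_of_involutive h2) ⟨j, hj⟩)

theorem J_invB [Finite Γ] {j : Γ} (hj : j ∈ JJ C μ u v) : μ v * j * (μ v)⁻¹ = j⁻¹ := by
  have e : μ v * j * (μ v)⁻¹ =
      μ v * (μ u)⁻¹ * (μ u * j * (μ u)⁻¹) * (μ v * (μ u)⁻¹)⁻¹ := by group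
  rw [e, h.J_invA k hj, ← (mem_JJ.1 hj).2.inv_left.eq, mul_inv_cancel_right]

theorem J_comm [Finite Γ] {j j' : Γ} (hj : j ∈ JJ C μ u v) (hj' : j' ∈ JJ C μ u v) :
    j * j' = j' * j := by
  have := h.J_invA k (mul_mem hj hj')
  rw [← conj_mul, h.J_invA k hj, h.J_invA k hj', ← mul_inv_rev, inv_inj] at this
  exact this.symm

theorem J_cyc [Finite Γ] [Finite M] : IsCyclic (JJ C μ u v) :=
  h.cyc inf_le_left (fun _ ha _ hb => h.J_comm k ha hb) 0 fun _ ha _ d0 _ e => h.J_fpf k ha d0 e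

theorem J_sq_inj [Finite Γ] {j j' : Γ} (hj : j ∈ JJ C μ u v) (hj' : j' ∈ JJ C μ u v)
    (e : j * j = j' * j') : j = j' := by
  rw [← mul_inv_eq_one]
  refine h.J_two k (mul_mem hj (inv_mem hj')) ?_
  rw [mul_assoc, ← mul_assoc j'⁻¹, ← h.J_comm k hj (inv_mem hj'), mul_assoc, ← mul_assoc, e]
  group

theorem exists_pr [Finite Γ] : ∃ y, Pr C s μ u v y := by
  have h1 : (μ v * (μ u)⁻¹) ^ 3 ∈ JJ C μ u v := mem_JJ.2 ⟨by
    rw [← h.mu_neg 0 k.u0 k.hu]
    exact h.cube 1 0 k.v0 (neg_ne_zero.2 k.u0) k.hv (h.fix_neg k.hu), (Commute.refl _).pow_left 3⟩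
  obtain ⟨n, hn⟩ := h.J_odd k h1
  refine ⟨_, k, pow_mem h1 (n + 1), ?_⟩
  rw [← pow_add, show n + 1 + (n + 1) = (2 * n + 1) + 1 by ring, pow_succ, ← hn,
    pow_orderOf_eq_one, one_mul]

theorem ty_smul {j j' : Γ} (hj : j ∈ C) (hj' : j' ∈ C) : Ty s (j • u) (j' • v) :=
  ⟨h.smul_ne _ k.u0, h.smul_ne _ k.v0, h.fix_C hj k.hu, h.fix_C hj' k.hv⟩

/-- The effect of `u ↦ j u` on `κ`. -/
theorem kap_smul [Finite Γ] {j : Γ} (hj : j ∈ JJ C μ u v) :
    μ v * (μ (j • u))⁻¹ = (j * j)⁻¹ * (μ v * (μ u)⁻¹) := by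
  rw [h.mu_conj k.u0 k.hu (h.CH hj.1) (h.J_invA k hj), mul_inv_rev, ← mul_assoc,
    (mem_JJ.1 (inv_mem (mul_mem hj hj))).2.eq]

theorem JJ_smul [Finite Γ] {j : Γ} (hj : j ∈ JJ C μ u v) : JJ C μ (j • u) v = JJ C μ u v := by
  have key : ∀ {u' : M} {j : Γ}, Ty s u' v → j ∈ JJ C μ u' v → JJ C μ u' v ≤ JJ C μ (j • u') v :=
    fun k' hj c hc => mem_JJ.2 ⟨hc.1, by
      rw [h.kap_smul k' hj]
      exact Commute.mul_right (h.J_comm k' hc (inv_mem (mul_mem hj hj))) (mem_JJ.1 hc).2⟩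
  refine le_antisymm ?_ (key k hj)
  have k' : Ty s (j • u) v := by simpa using h.ty_smul k hj.1 (one_mem C)
  simpa using key k' (key k hj (inv_mem hj))

end MS

namespace Pr

variable [Finite Γ] {u v : M} {y : Γ} (k : Pr C s μ u v y) (h : MS H C s μ)
include k h

theorem smul {j : Γ} (hj : j ∈ JJ C μ u v) : Pr C s μ (j • u) v (y * (j ^ 3)⁻¹) := by
  have hy := mul_mem k.mem (inv_mem (pow_mem hj 3))
  refine ⟨by simpa using h.ty_smul k.toTy hj.1 (one_mem C), (h.JJ_smul k.toTy hj).symm ▸ hy, ?_⟩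
  have c : y * (j ^ 3)⁻¹ = (j ^ 3)⁻¹ * y := h.J_comm k.toTy k.mem (inv_mem (pow_mem hj 3))
  rw [h.kap_smul k.toTy hj, (mem_JJ.1 (inv_mem (mul_mem hj hj))).2.mul_pow, ← k.sq, c, mul_assoc,
    ← mul_assoc y, c]
  group

omit [Finite Γ] in
theorem yH : y ∈ H := h.CH k.mem.1

theorem ke : (μ v * (μ u)⁻¹) • μ v • u = y • v := by
  have k' := k.toTy
  set κ := μ v * (μ u)⁻¹ with hκ
  have e0 := h.smul_ne (μ v) k.u0
  refine h.mu_inj (i := 1) (h.smul_ne _ k.v0) (h.fix_C k.mem.1 k.hv) (h.smul_ne _ e0)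
    (MS.fix_conj (h.k2 k') (h.he k')) ?_
  have e1 : μ (μ v • u) = κ * (μ v)⁻¹ := by
    have := h.mu_S 0 (neg_ne_zero.2 k.u0) (h.fix_neg k.hu) _ (h.mu_sw 1 k.v0 k.hv)
    rw [neg_neg, h.mu_neg 0 k.u0 k.hu] at this
    exact this.symm
  have e2 : (μ v)⁻¹ * κ⁻¹ = κ * μ v := by
    have a1 : (μ v)⁻¹ = μ v * s 1 := h.mu_inv k.v0 k.hv
    have a2 : μ u = (μ u)⁻¹ * s 0 := by rw [h.mu_inv k.u0 k.hu, mul_assoc, h.s2, mul_one]
    have a3 : s 1 * μ u = μ u * s 2 := (h.As2 k').symm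
    rw [hκ, mul_inv_rev, inv_inv, a1, mul_assoc, ← mul_assoc (s 1), a3, mul_assoc, mul_assoc,
      ← mul_assoc (s 2), ← h.Bs0 k', mul_assoc,
      h.s_mul (i := 0) (j := 1) (k := 2) (by decide) (by decide) (by decide), h.Bs2 k',
      ← mul_assoc (μ u), mul_left_cancel_iff, h.mu_inv k.u0 k.hu]
  rw [← h.mu_H 2 e0 (h.he k') _ (h.kH k'), h.mu_conj k.v0 k.hv (k.yH h) (h.J_invB k' k.mem), k.sq,
    e1]
  calc κ * (κ * (μ v)⁻¹) * κ⁻¹ = κ * κ * ((μ v)⁻¹ * κ⁻¹) := by simp only [mul_assoc]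
    _ = κ ^ 3 * μ v := by rw [e2, pow_succ, pow_two]; simp only [mul_assoc]

theorem kv : (μ v * (μ u)⁻¹) • v = -(y • u) := by
  have k' := k.toTy
  have c := (mem_JJ.1 k.mem).2
  have e : (y * y) • u = y • -((μ v * (μ u)⁻¹) • v) := by
    rw [k.sq, pow_succ, mul_smul, h.ku k', pow_two, mul_smul, h.smul_neg (h.kH k'), k.ke h,
      h.smul_neg (h.kH k'), ← mul_smul, ← c.eq, mul_smul, h.smul_neg (k.yH h)]
  rw [mul_smul] at e
  rw [smul_left_cancel _ e, neg_neg]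

omit [Finite Γ] in
/-- The two-step equation. -/
theorem two_step : (μ u)⁻¹ • (u + v) = (μ v)⁻¹ • (u + v) + v - u := by
  have k' := k.toTy
  have e0 := h.smul_ne (μ v) k.u0
  have hτ := h.mu_inv_sw k.v0 k.hv
  have n1 : u + v ≠ 0 := fun e => k.u0 (h.indep k.hu k.hv (h.zero _) (by simpa using e)).1
  have n2 : -v + μ v • u ≠ 0 := fun e =>
    e0 (h.indep (h.zero _) (h.fix_neg k.hv) (h.he k') (by simpa using e)).2.2
  have e1 := h.F 1 k.v0 k.hv _ hτ u k.u0 n1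
  have e2 := h.F 2 e0 (h.he k') _ hτ (-v) (neg_ne_zero.2 k.v0) n2
  have e3 : μ (μ v • u) = μ v * (μ u)⁻¹ * (μ v)⁻¹ := by
    have := h.mu_S 0 (neg_ne_zero.2 k.u0) (h.fix_neg k.hu) _ (h.mu_sw 1 k.v0 k.hv)
    rw [neg_neg, h.mu_neg 0 k.u0 k.hu] at this
    exact this.symm
  have e4 : (μ v)⁻¹ • (-v) = v := by
    rw [h.mu_inv_smul k.v0 k.hv (h.fix_neg k.hv), h.mu_self' k.v0 k.hv]
  rw [e3, mul_smul, e4, neg_add_eq_sub, e1, e4, sub_eq_add_neg, ← h.ku k', ← h.add _ (h.kH k'),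
    ← mul_smul, ← mul_smul, inv_mul_cancel_left, h.mu_inv_smul k.u0 k.hu k.hu,
    h.mu_self 0 k.u0 k.hu, add_comm v u] at e2
  rw [e2, sub_eq_add_neg]

theorem zeta {ζ : M} (hζ : ζ = (μ v)⁻¹ • (u + v)) :
    ζ - y • y • ζ = (-(y • u) + y • v - μ v • u) + y • (-(y • u) + y • v - μ v • u) := by
  have k' := k.toTy
  set κ := μ v * (μ u)⁻¹ with hκ
  have kH : κ ∈ H := h.kH k'
  have yH := k.yH h
  have c : Commute y (κ * s 1) := (mem_JJ.1 k.mem).2.mul_right (h.cen _ k.mem.1 1)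
  have nH : κ * s 1 ∈ H := mul_mem kH (h.sH 1)
  have e1 : (κ * s 1) • (μ u)⁻¹ • (u + v) = ζ := by
    rw [hζ, ← mul_smul, h.mu_inv k.v0 k.hv, hκ, mul_assoc, mul_assoc]
    congr 2
    rw [inv_mul_eq_iff_eq_mul, mul_inv_eq_iff_eq_mul, mul_assoc, ← h.As2 k', ← mul_assoc,
      h.mu_sq 0 k.u0 k.hu, h.s_mul (i := 0) (j := 2) (k := 1) (by decide) (by decide) (by decide)]
  have nu : (κ * s 1) • u = μ v • u := by
    rw [mul_smul, h.neg (by decide) u k.hu, h.smul_neg kH, h.ku k', neg_neg]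
  have nv : (κ * s 1) • v = -(y • u) := by rw [mul_smul, k.hv, k.kv h]
  have ne : (κ * s 1) • μ v • u = -(y • v) := by
    rw [mul_smul, h.neg (by decide) _ (h.he k'), h.smul_neg kH, k.ke h]
  have ny : ∀ m : M, (κ * s 1) • y • m = y • (κ * s 1) • m := fun m => by
    rw [← mul_smul, ← c.eq, mul_smul]
  have n3 : (κ * s 1) • (κ * s 1) • (κ * s 1) • ζ = y • y • ζ := by
    rw [← mul_smul, ← mul_smul, ← mul_smul y, k.sq]
    congr 1
    have a1 : κ * s 1 = s 0 * κ := mul_inv_eq_iff_eq_mul.1 (h.k1 k')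
    have a0 : κ * s 0 = s 2 * κ := mul_inv_eq_iff_eq_mul.1 (h.k0 k')
    have a2 : κ * s 2 = s 1 * κ := mul_inv_eq_iff_eq_mul.1 (h.k2 k')
    calc κ * s 1 * (κ * s 1) * (κ * s 1) = κ * s 1 * (s 0 * κ) * (κ * s 1) := by rw [← a1]
      _ = κ * (s 1 * s 0) * κ * κ * s 1 := by group
      _ = s 1 * κ * κ * (κ * s 1) := by
        rw [h.s_mul (i := 1) (j := 0) (k := 2) (by decide) (by decide) (by decide), a2]; group
      _ = s 1 * κ * (κ * s 0) * κ := by rw [a1]; group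
      _ = s 1 * (κ * s 2) * κ * κ := by rw [a0]; group
      _ = κ ^ 3 := by rw [a2, ← mul_assoc (s 1) (s 1), h.s2, one_mul, pow_succ, pow_two]
  rw [k.two_step h, ← hζ, h.smul_sub nH, h.add _ nH, nu, nv] at e1
  have e2 := congrArg ((κ * s 1) • ·) e1
  simp only [h.smul_sub nH, h.add _ nH, h.smul_neg nH, ny, nu, ne] at e2
  have e3 := congrArg ((κ * s 1) • ·) e2
  simp only [h.smul_sub nH, h.add _ nH, h.smul_neg nH, ny, nv, ne, n3, h.smul_neg yH] at e3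
  simp only [h.smul_sub yH, h.add _ yH, h.smul_neg yH]
  linear_combination (norm := abel1) -e1 - e2 - e3

theorem ne_one : y ≠ 1 := by
  rintro rfl
  have := k.zeta h rfl
  simp only [one_smul, sub_self] at this
  have := h.indep (h.fix_neg k.hu) k.hv (h.fix_neg (h.he k.toTy))
    (by rw [← sub_eq_add_neg]; exact h.two _ this.symm)
  exact k.v0 this.2.1

theorem fpf {m : M} (hm : y • m = m) : m = 0 :=
  by_contra fun e => k.ne_one h (h.J_fpf k.toTy k.mem e hm)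

theorem fpf2 {m : M} (hm : y • y • m = m) : m = 0 := by_contra fun e =>
  k.ne_one h (h.J_two k.toTy k.mem (h.J_fpf k.toTy (mul_mem k.mem k.mem) e (by rwa [mul_smul])))

theorem fpf_neg {m : M} (hm : m + y • m = 0) : m = 0 := k.fpf2 h (by
  have e := eq_neg_of_add_eq_zero_right hm
  rw [e, h.smul_neg (k.yH h), e, neg_neg])

/-- The main formula. -/
theorem main {ζ : M} (hζ : ζ = (μ v)⁻¹ • (u + v)) :
    ζ - y • ζ = -(y • u) + y • v - μ v • u := by
  have := k.zeta h hζ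
  rw [← sub_eq_zero]
  refine k.fpf_neg h ?_
  rw [h.smul_sub (k.yH h), h.smul_sub (k.yH h) ζ]
  linear_combination (norm := abel1) this

theorem main' {ζ : M} (hζ : ζ = (μ u)⁻¹ • (u + v)) : ζ - y • ζ = -u + v - μ v • u := by
  have := k.main h rfl
  rw [hζ, k.two_step h, h.smul_sub (k.yH h), h.add _ (k.yH h)]
  linear_combination (norm := abel1) this

/-- Some pair with the same group `J` has an invariant generating it. -/
theorem exists_gen [Finite M] :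
    ∃ u' y', Pr C s μ u' v y' ∧ zpowers y' = JJ C μ u v := by
  have k' := k.toTy
  obtain ⟨g, hg⟩ := (isCyclic_iff_exists_zpowers_eq_top (α := JJ C μ u v)).1 (h.J_cyc k')
  have hg' : zpowers (g : Γ) = JJ C μ u v := by
    have := congrArg (map (JJ C μ u v).subtype) hg
    rwa [MonoidHom.map_zpowers, ← MonoidHom.range_eq_map, range_subtype] at this
  obtain ⟨a, ha⟩ := mem_zpowers_iff.1 (hg'.symm ▸ k.mem)
  have key : ∀ b : ℤ, Pr C s μ (((g : Γ) ^ b) • u) v ((g : Γ) ^ (a - 3 * b)) := fun b => by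
    have := k.smul h (zpow_mem g.2 b)
    rwa [← ha, show (g : Γ) ^ a * (((g : Γ) ^ b) ^ 3)⁻¹ = (g : Γ) ^ (a - 3 * b) by group] at this
  obtain ⟨b, hb | hb | hb⟩ : ∃ b : ℤ, a - 3 * b = 0 ∨ a - 3 * b = 1 ∨ a - 3 * b = -1 :=
    ⟨(a + 1) / 3, by omega⟩
  · exact absurd (by rw [hb, zpow_zero]) ((key b).ne_one h)
  · exact ⟨_, _, key b, by rw [hb, zpow_one, hg']⟩
  · exact ⟨_, _, key b, by rw [hb, zpow_neg_one, zpowers_inv, hg']⟩

end Pr

end Cfsg.Agent.OT
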