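import Mathlib
import Cfsg.Agent.OT.S5BA
import Cfsg.Agent.GT.PGroupRank
import Cfsg.Agent.GT.PGroupElemAb

/-!
# The algebraic configuration with three involutions: a commutator vanishes
-/

set_option autoImplicit false

namespace Cfsg.Agent.OT

open Subgroup

theorem exists_sq_of_not_cyclic {Q : Type*} [Group Q] [Finite Q] (hc : IsMulCommutative Q)
    (h : ¬ IsCyclic Q) : ∃ p, p.Prime ∧ ∃ B : Subgroup Q, (∀ b ∈ B, b ^ p = 1) ∧ ¬ IsCyclic B := by
  by_contra hn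
  apply h
  have : IsZGroup Q := ⟨fun p hp P => by
    by_contra hP
    have := Fact.mk hp
    obtain ⟨B, -, hB, e⟩ := GT.PG.exists_elementary_sq_of_not_isCyclic P.isPGroup'
      inferInstance hP
    exact hn ⟨p, hp, B, hB.2, hB.not_isCyclic e le_rfl⟩⟩
  let : CommGroup Q := { (inferInstance : Group Q) with mul_comm := hc.is_comm.comm }
  infer_instance

variable {Γ : Type*} [Group Γ] [Finite Γ] {C : Subgroup Γ} {A : Γ} {P : Γ → Prop}

/-- Abstract setting: `P c` says that `c` has a fixed point of a certain kind. -/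
structure CL (C : Subgroup Γ) (A : Γ) (P : Γ → Prop) : Prop where
  hI : ∀ c ∈ C, A * c * A⁻¹ = c⁻¹ → P c → c = 1
  hW : ∀ c ∈ C, Commute c A → P c → c = 1
  cj : ∀ c, ∀ g ∈ C, P c → P (g * c * g⁻¹)
  cyc : ∀ B ≤ C, (∀ a ∈ B, ∀ a' ∈ B, a * a' = a' * a) → (∀ a ∈ B, P a → a = 1) → IsCyclic B

theorem CL.prime (h : CL C A P) {p : ℕ} (hp : p.Prime) {a b c : Γ} (ha : a ∈ C) (hb : b ∈ C)
    (ia : A * a * A⁻¹ = a⁻¹) (ap : a ^ p = 1) (e : b * a * b⁻¹ = a * c) (ca : Commute c a)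
    (cb : Commute c b) (cA : Commute c A) (h2 : c * c = 1 → c = 1) : c = 1 := by
  by_contra c1
  have := Fact.mk hp
  have hc : c ∈ C := (C.mul_mem_cancel_left ha).1 (e ▸ mul_mem (mul_mem hb ha) (inv_mem hb))
  have cp : c ^ p = 1 := by
    have := congrArg (· ^ p) e
    simp only [conj_pow, ca.symm.mul_pow, ap] at this
    simpa using this.symm
  have a1 : a ≠ 1 := by rintro rfl; exact c1 (by simpa using e.symm)
  have oa := orderOf_eq_prime ap a1
  have oc := orderOf_eq_prime cp c1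
  have hm : ∀ m : ℕ, b ^ m * a * (b ^ m)⁻¹ = a * c ^ m := fun m => by
    induction m with
    | zero => simp
    | succ m ih =>
      calc b ^ (m + 1) * a * (b ^ (m + 1))⁻¹ = b * (b ^ m * a * (b ^ m)⁻¹) * b⁻¹ := by group
        _ = b * a * b⁻¹ * (b * c ^ m * b⁻¹) := by rw [ih]; group
        _ = a * c ^ (m + 1) := by
          rw [e, ← (cb.pow_left m).eq, mul_inv_cancel_right, mul_assoc, ← pow_succ']
  have cc : ∀ i j i' j' : ℤ, a ^ i * c ^ j * (a ^ i' * c ^ j') = a ^ (i + i') * c ^ (j + j') :=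
    fun i j i' j' => by
      rw [mul_assoc, ← mul_assoc (c ^ j), (ca.zpow_zpow j i').eq, zpow_add, zpow_add]
      simp only [mul_assoc]
  let B : Subgroup Γ :=
    { carrier := {g | ∃ i j : ℤ, g = a ^ i * c ^ j}
      mul_mem' := by rintro _ _ ⟨i, j, rfl⟩ ⟨i', j', rfl⟩; exact ⟨_, _, cc i j i' j'⟩
      one_mem' := ⟨0, 0, by simp⟩
      inv_mem' := by
        rintro _ ⟨i, j, rfl⟩
        exact ⟨-i, -j, by rw [inv_eq_iff_mul_eq_one, cc]; simp⟩ }
  by_cases hf : ∀ g ∈ B, P g → g = 1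
  · have := h.cyc B (by rintro _ ⟨i, j, rfl⟩; exact mul_mem (zpow_mem ha i) (zpow_mem hc j))
      (by rintro _ ⟨i, j, rfl⟩ _ ⟨i', j', rfl⟩; rw [cc, cc, add_comm i, add_comm j]) hf
    obtain ⟨n, hn⟩ := FG.H93.mem_zpowers_of_orderOf_dvd_of_mem (C := B) (v := c) (x := a)
      ⟨0, 1, by simp⟩ ⟨1, 0, by simp⟩ (by rw [oa, oc])
    have h3 : A * c * A⁻¹ = c⁻¹ := by
      rw [← hn]; simp only [← conj_zpow, ia, inv_zpow]
    rw [← cA.eq, mul_inv_cancel_right] at h3
    exact c1 (h2 (by nth_rw 2 [h3]; simp))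
  push Not at hf
  obtain ⟨_, ⟨i, j, rfl⟩, hP, h1⟩ := hf
  by_cases hi : a ^ i = 1
  · rw [hi, one_mul] at hP h1
    exact h1 (h.hW _ (zpow_mem hc j) (cA.zpow_left j) hP)
  have ci : c ^ i ≠ 1 := by
    rwa [Ne, ← orderOf_dvd_iff_zpow_eq_one, oc, ← oa, orderOf_dvd_iff_zpow_eq_one]
  have pw : ∀ n : ℤ, (c ^ n) ^ p = 1 := fun n => by
    rw [← zpow_natCast, ← zpow_mul, mul_comm, zpow_mul, zpow_natCast, cp, one_zpow]
  obtain ⟨m, hm'⟩ := mem_powers_iff_mem_zpowers.2 (FG.H93.mem_zpowers_of_orderOf_dvd_of_mem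
    (C := zpowers c) (v := c ^ (-j)) (x := c ^ i) ⟨_, rfl⟩ ⟨_, rfl⟩
    (by rw [orderOf_eq_prime (pw i) ci]; exact orderOf_dvd_of_pow_eq_one (pw _)))
  have := h.cj _ _ (pow_mem hb m) hP
  rw [← conj_mul, ← conj_zpow, hm, ← ((cb.pow_right m).zpow_left j).eq, mul_inv_cancel_right,
    (ca.pow_left m).symm.mul_zpow, ← zpow_natCast, ← zpow_mul, mul_comm (m : ℤ), zpow_mul,
    zpow_natCast] at this
  simp only at hm'
  rw [hm', zpow_neg, inv_mul_cancel_right] at this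
  exact hi (h.hI _ (zpow_mem ha i) (by rw [← conj_zpow, ia, inv_zpow]) this)

theorem CL.main (h : CL C A P) {y ε w : Γ} (hy : y ∈ C) (hε : ε ∈ C) (iy : A * y * A⁻¹ = y⁻¹)
    (iε : A * ε * A⁻¹ = ε⁻¹) (hw : w = y⁻¹ * ε⁻¹ * y * ε) (c1 : Commute w y) (c2 : Commute w ε)
    (c3 : Commute w A) (ho : Odd (orderOf w)) : Commute y ε := by
  have wC : w ∈ C := hw ▸ mul_mem (mul_mem (mul_mem (inv_mem hy) (inv_mem hε)) hy) hε
  let N := centralizer ({w} : Set Γ)
  let w' : N := ⟨w, mem_centralizer_singleton_iff.2 rfl⟩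
  let y' : N := ⟨y, mem_centralizer_singleton_iff.2 c1.eq.symm⟩
  let ε' : N := ⟨ε, mem_centralizer_singleton_iff.2 c2.eq.symm⟩
  have hz : ∀ z ∈ zpowers w', ∀ g : N, Commute z g := by
    rintro _ ⟨n, rfl⟩ g
    exact Commute.zpow_left (Subtype.ext (mem_centralizer_singleton_iff.1 g.2).symm) n
  have hzC : ∀ z ∈ zpowers w', (z : Γ) ∈ C ∧ Commute (z : Γ) A := by
    rintro _ ⟨n, rfl⟩
    exact ⟨zpow_mem wC n, c3.zpow_left n⟩
  have hsq : ∀ z ∈ zpowers w', ∃ z' ∈ zpowers w', z' * z' = z ∧ (z * z = 1 → z = 1) := by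
    intro z hz
    obtain ⟨n, hn⟩ := ho
    have e : z ^ (2 * n + 1) = 1 := by
      rw [← hn, show orderOf w = orderOf w' from (orderOf_coe w'), ← orderOf_dvd_iff_pow_eq_one]
      exact orderOf_dvd_of_mem_zpowers hz
    refine ⟨z ^ (n + 1), pow_mem hz _, ?_, fun e' => ?_⟩
    · rw [← pow_add, show n + 1 + (n + 1) = 2 * n + 1 + 1 by ring, pow_succ, e, one_mul]
    · rwa [pow_succ, pow_mul, pow_two, e', one_pow, one_mul] at e
  have : (zpowers w').Normal := ⟨fun z h g => by rwa [← (hz z h g).eq, mul_inv_cancel_right]⟩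
  let π := QuotientGroup.mk' (zpowers w')
  have hπ : ∀ {a b : N}, π a = π b ↔ a⁻¹ * b ∈ zpowers w' := QuotientGroup.eq
  have h1 : ∀ {z : N}, z ∈ zpowers w' → π z = 1 := fun h => (QuotientGroup.eq_one_iff _).2 h
  let E := closure ({π y', π ε'} : Set (N ⧸ zpowers w'))
  have cE : IsMulCommutative E := by
    have : π y' * π ε' = π ε' * π y' := by
      rw [← map_mul, ← map_mul, eq_comm, hπ]
      exact ⟨1, Subtype.ext (by simp [w', y', ε', hw, mul_assoc])⟩
    refine isMulCommutative_closure ?_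
    rintro _ (rfl | rfl) _ (rfl | rfl)
    exacts [rfl, this, this.symm, rfl]
  have cm : ∀ {a b : N}, π a ∈ E → π b ∈ E → a * b * a⁻¹ * b⁻¹ ∈ zpowers w' := fun {a b} ha hb => by
    rw [← QuotientGroup.eq_one_iff]
    show π _ = 1
    have : π a * π b = π b * π a := congrArg Subtype.val (cE.is_comm.comm ⟨_, ha⟩ ⟨_, hb⟩)
    simp only [map_mul, map_inv, this]
    group
  have lift : ∀ x ∈ E, ∃ a : N, (a : Γ) ∈ C ∧ A * a * A⁻¹ = (a : Γ)⁻¹ ∧ π a = x := by
    intro x hx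
    induction hx using closure_induction with
    | mem x hx =>
      rcases hx with rfl | rfl
      exacts [⟨y', hy, iy, rfl⟩, ⟨ε', hε, iε, rfl⟩]
    | one => exact ⟨1, one_mem _, by simp, map_one _⟩
    | inv x _ ih =>
      obtain ⟨a, h1, h2, rfl⟩ := ih
      exact ⟨a⁻¹, inv_mem h1, by simp only [coe_inv, ← conj_inv, h2], map_inv _ _⟩
    | mul x x' hx hx' ih ih' =>
      obtain ⟨a, a1, a2, rfl⟩ := ih
      obtain ⟨b, b1, b2, rfl⟩ := ih'
      obtain ⟨z, hz', e, -⟩ := hsq _ (cm hx hx')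
      refine ⟨a * b * z⁻¹, mul_mem (mul_mem a1 b1) (inv_mem (hzC z hz').1), ?_,
        by rw [map_mul, h1 (inv_mem hz'), mul_one, map_mul]⟩
      have e2 : a⁻¹ * b⁻¹ * z⁻¹ = (a * b * z⁻¹)⁻¹ := by
        rw [mul_inv_rev, inv_inv, (hz z hz' _).eq, mul_inv_eq_iff_eq_mul, mul_assoc _ z, e]; group
      simp only [coe_mul, coe_inv, ← conj_mul, a2, b2]
      rw [← (hzC z hz').2.inv_left.eq, mul_inv_cancel_right]
      exact congrArg Subtype.val e2
  by_cases hc : IsCyclic E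
  · obtain ⟨g, hg⟩ := hc.exists_zpow_surjective
    obtain ⟨a, -, -, ha⟩ := lift g g.2
    obtain ⟨i, hi⟩ := hg ⟨π y', subset_closure (by simp)⟩
    obtain ⟨j, hj⟩ := hg ⟨π ε', subset_closure (by simp)⟩
    have e1 := hπ.1 (show π (a ^ i) = π y' by rw [map_zpow, ha]; exact congrArg Subtype.val hi)
    have e2 := hπ.1 (show π (a ^ j) = π ε' by rw [map_zpow, ha]; exact congrArg Subtype.val hj)
    have : Commute (a ^ i * ((a ^ i)⁻¹ * y')) (a ^ j * ((a ^ j)⁻¹ * ε')) :=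
      (((Commute.refl a).zpow_zpow i j).mul_right (hz _ e2 _).symm).mul_left (hz _ e1 _)
    rw [mul_inv_cancel_left, mul_inv_cancel_left] at this
    exact congrArg Subtype.val this
  exfalso
  obtain ⟨p, hp, B, hB, hB'⟩ := exists_sq_of_not_cyclic cE hc
  have pw : ∀ a : N, A * a * A⁻¹ = (a : Γ)⁻¹ → π a ∈ B.map E.subtype → (a : Γ) ^ p = 1 := by
    rintro a ia ⟨b, hb, e⟩
    have hp' : a ^ p ∈ zpowers w' := by
      rw [← QuotientGroup.eq_one_iff]
      show π _ = 1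
      rw [map_pow, ← e, ← map_pow, hB b hb, map_one]
    obtain ⟨-, -, -, h2⟩ := hsq _ hp'
    have h3 : A * (a : Γ) ^ p * A⁻¹ = ((a : Γ) ^ p)⁻¹ := by rw [← conj_pow, ia, inv_pow]
    rw [← coe_pow, ← (hzC _ hp').2.eq, mul_inv_cancel_right] at h3
    exact congrArg Subtype.val (h2 (Subtype.ext (by rw [coe_mul]; nth_rw 2 [h3]; simp)))
  have cT : ∀ a b : N, (a : Γ) ∈ C → (b : Γ) ∈ C → A * a * A⁻¹ = (a : Γ)⁻¹ →
      π a ∈ B.map E.subtype → π b ∈ B.map E.subtype → a * b = b * a := by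
    intro a b ha hb ia a1 b1
    have hc := cm (map_subtype_le B b1) (map_subtype_le B a1)
    obtain ⟨-, -, -, h2⟩ := hsq _ hc
    have := h.prime hp (c := (b * a * b⁻¹ * a⁻¹ : N)) ha hb ia (pw a ia a1)
      (congrArg Subtype.val (show b * a * b⁻¹ = a * _ by rw [← (hz _ hc a).eq]; group))
      (congrArg Subtype.val (hz _ hc a).eq) (congrArg Subtype.val (hz _ hc b).eq) (hzC _ hc).2
      fun e => congrArg Subtype.val (h2 (Subtype.ext e))
    have : b * a * b⁻¹ * a⁻¹ = 1 := Subtype.ext this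
    rw [mul_inv_eq_one, mul_inv_eq_iff_eq_mul] at this
    exact this.symm
  let T : Subgroup N :=
    { carrier := {a | (a : Γ) ∈ C ∧ A * a * A⁻¹ = (a : Γ)⁻¹ ∧ π a ∈ B.map E.subtype}
      mul_mem' := fun {a b} ha hb => ⟨mul_mem ha.1 hb.1, by
        rw [coe_mul, ← conj_mul, ha.2.1, hb.2.1, ← mul_inv_rev, ← coe_mul, ← coe_mul,
          cT a b ha.1 hb.1 ha.2.1 ha.2.2 hb.2.2], by rw [map_mul]; exact mul_mem ha.2.2 hb.2.2⟩
      one_mem' := ⟨one_mem _, by simp, by rw [map_one]; exact one_mem _⟩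
      inv_mem' := fun {a} ha => ⟨inv_mem ha.1, by simp only [coe_inv, ← conj_inv, ha.2.1],
        by rw [map_inv]; exact inv_mem ha.2.2⟩ }
  have hT := h.cyc (T.map N.subtype) (by rintro _ ⟨a, ha, rfl⟩; exact ha.1)
    (by
      rintro _ ⟨a, ha, rfl⟩ _ ⟨b, hb, rfl⟩
      exact congrArg Subtype.val (cT a b ha.1 hb.1 ha.2.1 ha.2.2 hb.2.2))
    (by rintro _ ⟨a, ha, rfl⟩; exact h.hI _ ha.1 ha.2.1)
  have hT' : IsCyclic T := (T.equivMapOfInjective _ N.subtype_injective).isCyclic.2 hT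
  have e : T.map π = B.map E.subtype := by
    refine le_antisymm (by rintro _ ⟨a, ha, rfl⟩; exact ha.2.2) fun x hx => ?_
    obtain ⟨a, a1, a2, rfl⟩ := lift x (map_subtype_le B hx)
    exact ⟨a, ⟨a1, a2, hx⟩, rfl⟩
  have : IsCyclic (B.map E.subtype) := e ▸ isCyclic_of_surjective _ (π.subgroupMap_surjective T)
  exact hB' ((B.equivMapOfInjective _ E.subtype_injective).isCyclic.2 this)

universe w

variable {M : Type w} [AddCommGroup M] [MulAction Γ M] {H : Subgroup Γ} {s : Fin 3 → Γ} {μ : M → Γ}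

/-- Scalars for the action of `y`. -/
structure LS (M : Type*) [AddCommGroup M] [MulAction Γ M] {S : Type*} [CommRing S] [Module S M]
    (H : Subgroup Γ) (y : Γ) (Y Yi t π : S) : Prop where
  hY : ∀ m : M, y • m = Y • m
  hi : Yi * Y = 1
  ht : t * (1 - Y) = 1
  hp : π * (1 + Y) = 1
  lin : ∀ g ∈ H, Commute g y → ∀ (a : S) (m : M), g • a • m = a • g • m

omit [Finite Γ] in
theorem MS.exists_ls [Finite M] (h : MS H C s μ) {y : Γ} (hy : y ∈ H)
    (h1 : ∀ m : M, y • m = m → m = 0) (h2 : ∀ m : M, m + y • m = 0 → m = 0) :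
    ∃ (S : Type w) (_ : CommRing S) (_ : Module S M) (Y Yi t π : S), LS M H y Y Yi t π := by
  let L : ∀ g ∈ H, Module.End ℤ M := fun g hg =>
    (AddMonoidHom.mk' (g • ·) (h.add g hg)).toIntLinearMap
  let S := Algebra.adjoin ℤ ({L y hy} : Set (Module.End ℤ M))
  have hS : IsMulCommutative S := Algebra.isMulCommutative_adjoin ℤ (by simp)
  let : CommRing S := { (inferInstance : Ring S) with mul_comm := hS.is_comm.comm }
  let Y : S := ⟨L y hy, Algebra.subset_adjoin rfl⟩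
  have : Finite (Module.End ℤ M) := DFunLike.finite _
  have key : ∀ f : S, (∀ m : M, f • m = 0 → m = 0) → ∃ t : S, t * f = 1 := fun f hf => by
    obtain ⟨t, ht⟩ := Finite.injective_iff_surjective.1 (show Function.Injective (f * ·) from
      fun a b e => by
        ext m
        rw [← sub_eq_zero]
        refine hf _ ?_
        have : (f * a) • m = (f * b) • m := congrArg (· • m) e
        rw [mul_smul, mul_smul] at this
        rw [_root_.smul_sub, sub_eq_zero]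
        exact this) 1
    exact ⟨t, (mul_comm t f).trans ht⟩
  obtain ⟨Yi, e1⟩ := key Y fun m e => by_contra fun h0 => h.smul_ne y h0 e
  obtain ⟨t, e2⟩ := key (1 - Y) fun m e => h1 m (by
    rw [sub_smul, one_smul, sub_eq_zero] at e; exact e.symm)
  obtain ⟨π, e3⟩ := key (1 + Y) fun m e => h2 m (by rwa [add_smul, one_smul] at e)
  refine ⟨S, inferInstance, inferInstance, Y, Yi, t, π, fun _ => rfl, e1, e2, e3, fun g hg c a m => ?_⟩
  have : Commute (L g hg) a := Algebra.commute_of_mem_adjoin_of_forall_mem_commute a.2 (by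
    rintro _ rfl
    ext m
    show g • y • m = y • g • m
    rw [← mul_smul, c.eq, mul_smul])
  exact congrArg (· m) this.eq

section Eps

variable {S : Type*} [CommRing S] [Module S M] {y : Γ} {Y Yi t π : S}

omit [Finite Γ] in
theorem LS.inv (l : LS M H y Y Yi t π) (m : M) : y⁻¹ • m = Yi • m := by
  rw [inv_smul_eq_iff, l.hY, smul_smul, mul_comm, l.hi, one_smul]

theorem LS.ne (a a' : S) (e : a' * a = 1) {m : M} (h0 : m ≠ 0) : a • m ≠ 0 := fun e' =>
  h0 (by rw [← one_smul S m, ← e, mul_smul, e', smul_zero])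

omit [Finite Γ] in
theorem LS.fix (l : LS M H y Y Yi t π) (h : MS H C s μ) (hy : y ∈ C) {i : Fin 3} {b : M}
    (hb : s i • b = b) (a : S) : s i • a • b = a • b := by
  rw [l.lin _ (h.sH i) (h.cen y hy i).symm, hb]

/-- The element `ε` attached to `b`. -/
theorem MS.eps [Finite M] (h : MS H C s μ) (l : LS M H y Y Yi t π) (hy : y ∈ C)
    (ho : Odd (orderOf y)) {i : Fin 3} {b : M} (h0 : b ≠ 0) (hb : s i • b = b)
    (iy : μ b * y * (μ b)⁻¹ = y⁻¹) :
    μ b • t • b = -((1 - Y) • b) ∧ ∃ ε ∈ C, Commute ε y ∧ μ b * ε * (μ b)⁻¹ = ε⁻¹ ∧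
      μ (t • b) = μ b * ε ∧ ε • b = ((1 - Y) * (1 - Y)) • b := by
  obtain ⟨j, k, h1, h2, h3⟩ : ∃ j k : Fin 3, i ≠ j ∧ i ≠ k ∧ j ≠ k := by
    clear hb; revert i; decide
  have yH := h.CH hy
  have hY := l.hY
  have d0 : (1 - Y) • b ≠ 0 := LS.ne _ _ l.ht h0
  have hd := l.fix h hy hb (1 - Y)
  have y0 := h.smul_ne y h0
  have hyb := h.fix_C hy hb
  have t0 : t • b ≠ 0 := LS.ne _ _ (by rw [mul_comm, l.ht]) h0
  have htb := l.fix h hy hb t
  set A := μ b with hA
  set ε := μ ((1 - Y) • b) * A⁻¹ with hε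
  have εC : ε ∈ C := by
    rw [hε, hA, ← h.mu_neg i h0 hb]; exact h.same i d0 (neg_ne_zero.2 h0) hd (h.fix_neg hb)
  have εH := h.CH εC
  have μd : μ ((1 - Y) • b) = ε * A := by rw [hε, inv_mul_cancel_right]
  have iε : A * ε * A⁻¹ = ε⁻¹ := by
    rw [hε, mul_inv_rev, inv_inv, h.mu_inv d0 hd, mul_assoc, mul_assoc, ← mul_inv_rev,
      h.mu_sq i h0 hb, h.s_inv]
  have μy : μ (y • b) = y * y * A := h.mu_conj h0 hb yH iy
  have Ab : A • b = -b := h.mu_self i h0 hb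
  have ea : A • (1 - Y) • b = -(t • b) := by
    have e : (1 - Y) • b + y • b = b := by rw [hY]; module
    have := h.ident y0 hyb d0 hd (by rwa [e])
    rw [e, μy, mul_smul, mul_smul, hY, hY, hY, ← hA] at this
    generalize A • (1 - Y) • b = x at this ⊢
    linear_combination (norm := module) -(t * π) • this - (t * (1 - Y)) • congrArg (· • x) l.hp
      - congrArg (· • x) l.ht - t • congrArg (· • b) l.hp
  have eb : ε • b = ((1 - Y) * (1 - Y)) • b := by
    have e : b + -(y • b) = (1 - Y) • b := by rw [hY]; module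
    have := h.ident (neg_ne_zero.2 y0) (h.fix_neg hyb) h0 hb (by rwa [e])
    rw [e, h.mu_neg i y0 hyb, h.mu_inv_smul y0 hyb hb, μy, μd, mul_smul, mul_smul, mul_smul, Ab,
      h.smul_neg εH, hY, hY, hY] at this
    generalize ε • b = x at this ⊢
    linear_combination (norm := module) this
  have ec : ε • Yi • b = (Yi * ((1 - Y) * (1 - Y))) • b := by
    have e : -(y • b) + b = (1 - Y) • b := by rw [hY]; module
    have := h.ident h0 hb (neg_ne_zero.2 y0) (h.fix_neg hyb) (by rwa [e])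
    rw [e, μd, mul_smul, ← hA, h.mu_smul_neg h0 hb hyb, ← mul_smul A,
      mul_inv_eq_iff_eq_mul.1 iy, mul_smul, Ab, h.smul_neg (inv_mem yH), neg_neg, l.inv] at this
    generalize ε • Yi • b = x at this ⊢
    linear_combination (norm := module) -this - congrArg (· • (Y - 2) • b) l.hi
  have ed : ε • t • b = (1 - Y) • b := by
    have := h.mu_self i d0 hd
    rwa [μd, mul_smul, ea, h.smul_neg εH, neg_inj] at this
  have μt : μ (t • b) = A * ε := by
    have := h.mu_H i t0 htb ε εH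
    rw [ed, μd, mul_assoc, mul_left_cancel_iff, mul_inv_eq_iff_eq_mul] at this
    exact this
  refine ⟨?_, ε, εC, ?_, iε, μt, eb⟩
  · rw [← neg_eq_iff_eq_neg, ← h.mu_smul_neg h0 hb htb, ← ea, h.mu_mu h0 hb hd]
  set w := y⁻¹ * ε⁻¹ * y * ε with hw
  have wH : w ∈ H := mul_mem (mul_mem (mul_mem (inv_mem yH) (inv_mem εH)) yH) εH
  have w1 : w • y⁻¹ • b = y⁻¹ • b := by
    rw [hw, mul_smul, mul_smul, mul_smul, l.inv b, ec, hY, smul_smul Y, ← mul_assoc Y, mul_comm Y,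
      l.hi, one_mul, ← eb, inv_smul_smul, l.inv]
  have w2 : w • t • b = t • b := by
    rw [hw, mul_smul, mul_smul, mul_smul, inv_smul_eq_iff, inv_smul_eq_iff, ed, hY, hY,
      show Y • t • b = t • b - b by linear_combination (norm := module) -congrArg (· • b) l.ht,
      h.smul_sub εH, ed, eb]
    module
  have c1 : Commute w (y⁻¹ * y⁻¹ * A) := by
    have := h.mu_H i (h.smul_ne _ h0) (h.fix_C (inv_mem hy) hb) w wH
    rw [w1, h.mu_conj h0 hb (inv_mem yH) (by rw [← conj_inv, iy])] at this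
    exact mul_inv_eq_iff_eq_mul.1 this
  have c2 : Commute w (A * ε) := by
    have := h.mu_H i t0 htb w wH
    rw [w2, μt] at this
    exact mul_inv_eq_iff_eq_mul.1 this
  have c3 : Commute (ε⁻¹ * y * ε) y := by
    have e1 : A * w * A⁻¹ = y * ε * y⁻¹ * ε⁻¹ := by
      rw [hw, ← conj_mul, ← conj_mul, ← conj_mul, ← conj_inv, ← conj_inv, iy, iε, inv_inv, inv_inv]
    have e2 : A * ε = ε⁻¹ * A := mul_inv_eq_iff_eq_mul.1 iε
    have e3 : ε⁻¹ * (A * w * A⁻¹) * ε = w := by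
      have := c2.eq
      rw [e2] at this
      calc ε⁻¹ * (A * w * A⁻¹) * ε = (ε⁻¹ * A * w) * (ε⁻¹ * A)⁻¹ := by group
        _ = w := by rw [← this, mul_inv_cancel_right]
    rw [e1, hw] at e3
    refine Commute.inv_right_iff.1 ?_
    show _ = _
    calc ε⁻¹ * y * ε * y⁻¹ = ε⁻¹ * (y * ε * y⁻¹ * ε⁻¹) * ε := by group
      _ = _ := by rw [e3]; group
  have hw' : w = y⁻¹ * (ε⁻¹ * y * ε) := by rw [hw]; group
  have wy : Commute w y := hw' ▸ ((Commute.refl y).inv_left.mul_left c3)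
  have wA : Commute w A := by
    simpa [← mul_assoc] using (wy.mul_right wy).mul_right c1
  have wε : Commute w ε := by simpa using wA.inv_right.mul_right c2
  have wo : Odd (orderOf w) := by
    refine ho.of_dvd_nat (orderOf_dvd_of_pow_eq_one ?_)
    rw [hw', c3.symm.inv_left.mul_pow, inv_pow, pow_orderOf_eq_one,
      show ε⁻¹ * y * ε = ε⁻¹ * y * ε⁻¹⁻¹ by rw [inv_inv], conj_pow, pow_orderOf_eq_one]
    simp
  have cl : CL C A fun c => ∃ d : M, d ≠ 0 ∧ s j • d = d ∧ c • d = d := by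
    refine ⟨?_, ?_, ?_, fun B hB hc hf => h.cyc hB hc j fun a ha d d0 hd e => hf a ha ⟨d, d0, hd, e⟩⟩
    · rintro c hc ic ⟨d, d0, hd, e⟩
      refine h.tw c hc h3 d (A • d) d0 (h.smul_ne _ d0) hd (MS.fix_conj (h.mu_s h1 h2 h3 h0 hb) hd)
        e ?_
      rw [smul_eq_iff_eq_inv_smul]
      exact (MS.fix_conj ic e).symm
    · rintro c hc cA ⟨d, d0, hd, e⟩
      refine h.tw c hc h1 b d h0 d0 hb hd ?_ e
      exact h.mu_inj h0 hb (h.smul_ne c h0) (h.fix_C hc hb)
        (by rw [← h.mu_H i h0 hb c (h.CH hc), cA.eq, mul_inv_cancel_right])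
    · rintro c g hg ⟨d, d0, hd, e⟩
      exact ⟨g • d, h.smul_ne _ d0, h.fix_C hg hd, MS.fix_conj rfl e⟩
  exact (cl.main hy εC iy iε hw wy wε wA wo).symm

end Eps

end Cfsg.Agent.OT
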