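import Mathlib
import Cfsg.Agent.OT.S5BB

/-!
# The algebraic configuration with three involutions does not exist
-/

set_option autoImplicit false

namespace Cfsg.Agent.OT

open Subgroup

theorem MS.false {Γ M : Type*} [Group Γ] [Finite Γ] [AddCommGroup M] [Finite M] [MulAction Γ M]
    {H C : Subgroup Γ} {s : Fin 3 → Γ} {μ : M → Γ} (h : MS H C s μ) : False := by
  obtain ⟨u0, hu0, hu0'⟩ := h.D1 0
  obtain ⟨v0, hv0, hv0'⟩ := h.D1 1
  obtain ⟨y0, k0⟩ := h.exists_pr ⟨hu0, hv0, hu0', hv0'⟩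
  obtain ⟨⟨u, v, y⟩, k, hmax⟩ := Set.exists_max_image {x : M × M × Γ | Pr C s μ x.1 x.2.1 x.2.2}
    (fun x => orderOf x.2.2) (Set.toFinite _) ⟨(u0, v0, y0), k0⟩
  replace k : Pr C s μ u v y := k
  have k' := k.toTy
  have yC := k.mem.1
  have yH := k.yH h
  have yo := h.J_odd k' k.mem
  obtain ⟨S, _, _, Y, Yi, t, π, l⟩ := h.exists_ls yH (fun m => k.fpf h) fun m => k.fpf_neg h
  have hY := l.hY
  have iA := h.J_invA k' k.mem
  have iB := h.J_invB k' k.mem
  obtain ⟨At, a, aC, ay, ia, μa, au⟩ := h.eps l yC yo k.u0 k.hu iA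
  obtain ⟨-, b, bC, by', ib, μb, bv⟩ := h.eps l yC yo k.v0 k.hv iB
  have t1 : (1 - Y) * t = 1 := by rw [mul_comm, l.ht]
  have k1 : Ty s (t • u) (t • v) :=
    ⟨LS.ne _ _ t1 k.u0, LS.ne _ _ t1 k.v0, l.fix h yC k.hu t, l.fix h yC k.hv t⟩
  have κH := h.kH k'
  have κy : Commute (μ v * (μ u)⁻¹) y := (mem_JJ.1 k.mem).2.symm
  have κu := h.ku k'
  have κe := k.ke h
  have κv := k.kv h
  have he := h.he k'
  have hz := k.main' h rfl
  have hz2 := (k.smul h k.mem).main' h rfl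
  set A := μ u with hA
  set B := μ v with hB
  set κ := B * A⁻¹ with hκ
  set e := B • u with he'
  clear_value e
  have aH := h.CH aC
  have bH := h.CH bC
  have κ1 : μ (t • v) * (μ (t • u))⁻¹ = b⁻¹ * κ * a := by
    rw [μa, μb, mul_inv_eq_iff_eq_mul.1 ib, mul_inv_eq_iff_eq_mul.1 ia, hκ]; group
  have yJ : y ∈ JJ C μ (t • u) (t • v) := mem_JJ.2 ⟨yC, by
    rw [κ1]; exact (by'.symm.inv_right.mul_right κy.symm).mul_right ay.symm⟩
  obtain ⟨y1, p1⟩ := h.exists_pr k1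
  obtain ⟨n, hn⟩ : y1 ∈ Submonoid.powers y := by
    obtain ⟨u', y', p', hg⟩ := p1.exists_gen h
    have e1 : zpowers y = JJ C μ (t • u) (t • v) := by
      refine eq_of_le_of_card_ge (zpowers_le.2 yJ) ?_
      rw [← hg, Nat.card_zpowers, Nat.card_zpowers]
      exact hmax (u', t • v, y') p'
    rw [mem_powers_iff_mem_zpowers, e1]
    exact p1.mem
  have hY1 : ∀ m : M, y1 • m = (Y ^ n) • m := fun m => by
    rw [← hn]
    clear hn
    induction n with
    | zero => simp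
    | succ n ih => simp only at ih ⊢; rw [pow_succ', pow_succ', mul_smul, mul_smul, ih, hY]
  generalize Y ^ n = Y1 at hY1
  have la := l.lin a aH ay
  have lb := l.lin b bH by'
  have lb' := l.lin b⁻¹ (inv_mem bH) by'.inv_left
  have lκ := l.lin κ κH κy
  have ls := l.lin (s 0) (h.sH 0) (h.cen y yC 0).symm
  have s0v : s 0 • v = -v := h.neg (by decide) v k.hv
  have s0e : s 0 • e = -e := h.neg (by decide) e he
  have AA : A * A = s 0 := h.mu_sq 0 k.u0 k.hu
  have As : A⁻¹ * s 0 = A := by rw [← AA, inv_mul_cancel_left]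
  have sA : s 0 * A⁻¹ = A := by rw [← AA, mul_inv_cancel_right]
  have Ay : A * y = y⁻¹ * A := mul_inv_eq_iff_eq_mul.1 iA
  have κb : κ * b = a * κ := by
    have e1 := h.mu_H 1 k.v0 k.hv κ κH
    have e2 := h.mu_H 1 k1.v0 k1.hv κ κH
    have yu := h.fix_C yC k.hu
    have ytu := h.fix_C yC k1.hu
    rw [κv, h.mu_neg 0 (h.smul_ne y k.u0) yu, h.mu_conj k.u0 k.hu yH iA, ← hA, ← hB] at e1
    rw [lκ, κv, _root_.smul_neg, ← l.lin y yH (Commute.refl y), h.mu_neg 0 (h.smul_ne y k1.u0) ytu,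
      h.mu_conj k1.u0 k1.hu yH (by
        rw [μa, mul_assoc A, ay.eq, mul_inv_rev, ← iA]; group), μa, μb] at e2
    rw [← mul_inv_eq_iff_eq_mul]
    calc κ * b * κ⁻¹ = (κ * B * κ⁻¹)⁻¹ * (κ * (B * b) * κ⁻¹) := by group
      _ = y * y * (A * a * A⁻¹)⁻¹ * (y * y)⁻¹ := by rw [e1, e2]; simp only [mul_inv_rev, inv_inv, mul_assoc]
      _ = a := by rw [ia, inv_inv, ← (ay.mul_right ay).eq, mul_inv_cancel_right]
  have Auv : A • (u + v) = t • (e - v) + -(t • u) := by
    rw [← sA, mul_smul, show A⁻¹ • (u + v) = t • (-u + v - e) by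
      rw [← hz, hY]
      generalize A⁻¹ • (u + v) = x
      linear_combination (norm := module) -congrArg (· • x) l.ht, ls, h.smul_sub (h.sH 0),
      h.add _ (h.sH 0), h.smul_neg (h.sH 0), k.hu, s0v, s0e]
    module
  have c0 : t • (e - v) ≠ 0 := LS.ne _ _ t1 fun e0 => k.v0 (neg_eq_zero.1
    (h.indep (h.zero _) (h.fix_neg k.hv) he (by rw [zero_add, neg_add_eq_sub, e0])).2.1)
  have uv0 : u + v ≠ 0 := fun e => k.u0 (h.indep k.hu k.hv (h.zero _) (by simpa using e)).1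
  have R1 := h.F 0 (neg_ne_zero.2 k1.u0) (h.fix_neg k1.hu) A (h.mu_sw 0 k.u0 k.hu) _ c0
    (by rw [← Auv]; exact h.smul_ne _ uv0)
  rw [← Auv, ← mul_smul A A, AA, neg_neg, At, h.add _ (h.sH 0), k.hu, s0v, smul_eq_iff_eq_inv_smul,
    show u + -v + -((1 - Y) • u) = s 0 • (y • u + v) by
      rw [h.add _ (h.sH 0), h.fix_C yC k.hu, s0v, hY]; module,
    ← mul_smul, As, h.mu_neg 0 k1.u0 k1.hu, μa] at R1
  -- the pair `(y u, v)`
  have hz3 : A • (y • u + v) - Y • Y • A • (y • u + v) = Y • u + v - Yi • e := by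
    have e1 : (μ (y • u))⁻¹ • (y • u + v) = s 0 • y • y • A • (y • u + v) := by
      rw [h.mu_inv (h.smul_ne y k.u0) (h.fix_C yC k.hu), ← (h.mu_comm (h.smul_ne y k.u0)
        (h.fix_C yC k.hu)).symm.eq, h.mu_conj k.u0 k.hu yH iA, mul_smul, mul_smul, mul_smul]
    have e2 : B • y • u = Yi • e := by
      rw [← mul_smul, mul_inv_eq_iff_eq_mul.1 iB, mul_smul, l.inv, he']
    have e3 : (y * (y ^ 3)⁻¹) • s 0 • y • y • A • (y • u + v) = s 0 • A • (y • u + v) := by
      simp only [← mul_smul]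
      congr 1
      have := ((h.cen y yC 0).mul_left (h.cen y yC 0)).eq
      calc y * (y ^ 3)⁻¹ * (s 0 * (y * (y * A))) = y * (y ^ 3)⁻¹ * (s 0 * (y * y)) * A := by group
        _ = s 0 * A := by rw [← this]; group
    rw [e1, e2, e3] at hz2
    have := congrArg (s 0 • ·) hz2
    simp only [h.smul_sub (h.sH 0), ← mul_smul (s 0) (s 0), h.s2, one_smul] at this
    rw [h.add _ (h.sH 0), h.smul_neg (h.sH 0), h.fix_C yC k.hu, s0v, ls, s0e, hY, hY (A • _),
      ] at this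
    generalize A • (y • u + v) = x at this ⊢
    rw [hY] at this
    linear_combination (norm := module) -this
  have hz1 := p1.main h rfl
  set ζ := (μ (t • v))⁻¹ • (t • u + t • v) with hζ
  have e1 : μ (t • v) • t • u = (1 - Y) • b⁻¹ • e := by
    rw [μb, mul_inv_eq_iff_eq_mul.1 ib, mul_smul, show B = κ * A by rw [hκ, inv_mul_cancel_right],
      mul_smul, At, h.smul_neg κH, lκ, κu, _root_.smul_neg, neg_neg, lb']
  have X1 : a • (A * a)⁻¹ • t • (e - v) = Yi • b • ζ := by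
    have e2 : t • (e - v) = κ⁻¹ • y • (t • u + t • v) := by
      rw [eq_inv_smul_iff, lκ, h.smul_sub κH, κe, κv, hY, hY, hY]; module
    rw [e2, hζ, μb, ← l.inv]
    simp only [← mul_smul]
    congr 1
    calc a * ((A * a)⁻¹ * (κ⁻¹ * y)) = B⁻¹ * y := by rw [hκ]; group
      _ = B⁻¹ * (B * y * B⁻¹)⁻¹ := by rw [iB, inv_inv]
      _ = _ := by group
  have ke1 := p1.ke h
  rw [e1, κ1, mul_smul, mul_smul, la, lκ, lb', hY1] at ke1
  rw [e1, hY1, hY1, hY1] at hz1
  clear_value ζ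
  have r1 := congrArg (a • ·) R1
  have r2 := congrArg (a • ·) hz3
  have r3 := congrArg (b • ·) hz1
  simp only [h.smul_sub aH, h.add _ aH, h.smul_neg aH, la, X1, h.smul_sub bH, h.add _ bH,
    h.smul_neg bH, lb, smul_inv_smul] at r1 r2 r3
  have fx : ∀ {i : Fin 3} {m : M}, s i • m = m → ∀ c : S, s i • c • m = c • m :=
    fun hm c => l.fix h yC hm c
  obtain ⟨d0, d1, d2⟩ := h.comp (fx (h.fix_C bC k.hu) (-((1 - Y * Y) * Yi * Y1 * t)))
    (fx (h.fix_C bC k.hv) ((1 - Y * Y) * Yi * Y1 * t)) (fx he (-((1 - Y * Y) * Yi * (1 - Y))))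
    (fx (h.fix_C aC k.hu) ((1 - Y1) * (Y - (1 - Y * Y) * t))) (fx (h.fix_C aC k.hv) (1 - Y1))
    (fx (h.fix_C aC he) (-((1 - Y1) * Yi))) (by
      generalize a • A • (y • u + v) = x1, a • u = x2, a • v = x3, a • e = x4, b • ζ = x5,
        b • u = x6, b • v = x7 at r1 r2 r3 ⊢
      linear_combination (norm := module) ((1 - Y1) * (1 - Y * Y)) • r1 + (1 - Y1) • r2
        - ((1 - Y * Y) * Yi) • r3)
  have I : ((1 + Y) * Y1) • b • u = ((1 - Y1) * Y * ((1 - Y) * (1 - Y))) • u := by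
    rw [au] at d0
    generalize b • u = x at d0 ⊢
    have c1 : (1 + Y) * Y1 = -Y * -((1 - Y * Y) * Yi * Y1 * t) := by
      linear_combination (-(1 + Y) * Y1) * l.ht - (1 - Y * Y) * Y1 * t * l.hi
    have c2 : (1 - Y1) * Y = -Y * ((1 - Y1) * (Y - (1 - Y * Y) * t)) := by
      linear_combination (-(1 - Y1) * Y * (1 + Y)) * l.ht
    rw [c1, c2]
    linear_combination (norm := module) (-Y) • d0
  have II : ((1 - Y1) * Y) • a • v = ((1 + Y) * Y1 * ((1 - Y) * (1 - Y))) • v := by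
    rw [bv] at d1
    generalize a • v = x at d1 ⊢
    have c1 : (1 + Y) * Y1 = Y * ((1 - Y * Y) * Yi * Y1 * t) := by
      linear_combination (-(1 + Y) * Y1) * l.ht - (1 - Y * Y) * Y1 * t * l.hi
    rw [c1]
    linear_combination (norm := module) -Y • d1
  have III : (1 - Y1) • a • e = ((1 + Y) * ((1 - Y) * (1 - Y))) • e := by
    generalize a • e = x at d2 ⊢
    linear_combination (norm := module) Y • d2 - (1 - Y1) • congrArg (· • x) l.hi
      + ((1 - Y * Y) * (1 - Y)) • congrArg (· • e) l.hi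
  have III' : (1 - Y1) • b • u = ((1 + Y) * ((1 - Y) * (1 - Y))) • u := by
    refine smul_left_cancel κ ?_
    rw [lκ, lκ, ← mul_smul κ, κb, mul_smul a, κu, h.smul_neg aH, _root_.smul_neg, III,
      _root_.smul_neg]
  have IV : ((1 + Y) * (1 + Y) * Y1) • u = ((1 - Y1) * (1 - Y1) * Y) • u := by
    have c : ∀ x : S, x • u = (t * t * (x * ((1 - Y) * (1 - Y)))) • u := fun x => by
      congr 1
      linear_combination (-x * (t * (1 - Y) + 1)) * l.ht
    rw [c, c ((1 - Y1) * (1 - Y1) * Y)]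
    generalize b • u = x at I III'
    linear_combination (norm := module) (t * t * (1 - Y1)) • I - (t * t * ((1 + Y) * Y1)) • III'
  have II' : ((1 - Y1) * Y) • b • e = ((1 + Y) * Y1 * ((1 - Y) * (1 - Y))) • e := by
    refine smul_left_cancel κ ?_
    rw [lκ, lκ, ← mul_smul κ, κb, mul_smul a, κe, hY, la, smul_comm _ Y, II, smul_comm]
  have V : Y • e = Y1 • a • b⁻¹ • e := by
    have e2 := congrArg (fun m => a • b⁻¹ • m) II'
    simp only [lb', la, inv_smul_smul] at e2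
    have c : ∀ m : M, m = (π * t * t * ((1 + Y) * ((1 - Y) * (1 - Y)))) • m := fun m => by
      rw [show π * t * t * ((1 + Y) * ((1 - Y) * (1 - Y))) = 1 by
        linear_combination (t * t * (1 - Y) * (1 - Y)) * l.hp + (t * (1 - Y) + 1) * l.ht, one_smul]
    rw [c (Y • e), c (Y1 • _)]
    generalize a • b⁻¹ • e = x, a • e = x' at e2 III ⊢
    linear_combination (norm := module) (π * t * t) • e2 - (π * t * t * Y) • III
  have VI : Y • Y • v = Y1 • Y1 • v := by
    have e2 := congrArg (fun m => b⁻¹ • κ • m) V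
    have e3 := congrArg (b⁻¹ • ·) bv
    simp only [lb', lκ, κe, hY, inv_smul_smul] at e2 e3
    generalize b⁻¹ • κ • a • b⁻¹ • e = x, b⁻¹ • v = x' at e2 e3 ke1
    linear_combination (norm := module) (Y * Y) • e3 + ((1 - Y) * (1 - Y)) • e2
      + ((1 - Y) * Y1) • ke1 + (Y1 * Y1) • congrArg (· • v) l.ht
  have yy : y = y1 := by
    refine h.J_sq_inj k1 yJ p1.mem ?_
    rw [← inv_mul_eq_one]
    refine h.J_fpf k1 (mul_mem (inv_mem (mul_mem yJ yJ)) (mul_mem p1.mem p1.mem)) k.v0 ?_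
    rw [mul_smul, inv_smul_eq_iff, mul_smul, mul_smul, hY, hY, hY1, hY1, VI]
  have E : Y1 • u = Y • u := by rw [← hY1, ← hY, yy]
  refine k.u0 (h.two _ (h.two _ ?_))
  have : (4 * Y * Y) • u = 0 := by
    linear_combination (norm := module) IV - ((1 + Y) * (1 + Y)) • E + (Y * (Y1 + Y - 2)) • E
  linear_combination (norm := module) (Yi * Yi) • this
    - (4 * (Yi * Y + 1)) • congrArg (· • u) l.hi

end Cfsg.Agent.OT
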