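import Mathlib
import Cfsg.Agent.OT.S3
import Cfsg.Agent.OT.S5B

/-!
# The configuration with three involutions is impossible
-/

set_option autoImplicit false
set_option linter.unusedSectionVars false

namespace Cfsg.Agent.OT

open Subgroup MulAction Cfsg.Agent.TT Cfsg.Agent.Perm Cfsg.Agent.Perm.TT Cfsg.Agent.Loc.Mss
open Cfsg.Agent.Perm.TwoCount Cfsg.Agent.Perm.RankOne

universe u v

variable {G : Type u} {X : Type v} [Group G] [Finite G] [MulAction G X] [Finite X]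
  {N R : X → Subgroup G} {x y : X}

namespace S5C

theorem odd_of_mem {D : Subgroup G} (ho : Odd (Nat.card D)) {r : G} (hr : r ∈ D) :
    Odd (orderOf r) := ho.of_dvd_nat (D.orderOf_dvd_natCard hr)

theorem eq_one_of_sq {D : Subgroup G} (ho : Odd (Nat.card D)) {r : G} (hr : r ∈ D)
    (e : r * r = 1) : r = 1 := by
  have h1 : orderOf r ∣ 2 := orderOf_dvd_of_pow_eq_one (by rw [sq, e])
  have h2 := odd_of_mem ho hr
  rcases (Nat.dvd_prime Nat.prime_two).1 h1 with h | h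
  · exact orderOf_eq_one_iff.1 h
  · rw [h] at h2; exact absurd h2 (by decide)

/-- The center of `D` as a subgroup of `G`. -/
abbrev Zn (D : Subgroup G) : Subgroup G := D ⊓ centralizer D

theorem mem_Zn {D : Subgroup G} {z : G} : z ∈ Zn D ↔ z ∈ D ∧ ∀ r ∈ D, Commute r z := Iff.rfl

theorem mem_of_sq {D : Subgroup G} (ho : Odd (Nat.card D)) {r : G} (hr : r ∈ D)
    (e : r * r ∈ Zn D) : r ∈ Zn D :=
  ⟨hr, fun d hd => commute_of_sq (odd_of_mem ho hr) (e.2 d hd)⟩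

theorem conj_Zn (h : Fam R) {g z : G} (gx : g • x = x) (hz : z ∈ Zn (R x)) :
    g * z * g⁻¹ ∈ Zn (R x) :=
  mem_Zn.2 ⟨h.conj' gx hz.1, fun r hr => by
    simpa [mul_assoc] using ((mem_Zn.1 hz).2 _ (h.conj_inv gx hr)).conj g⟩

/-- An involution whose fixed points are central inverts the central quotient. -/
theorem mul_conj_mem {D : Subgroup G} (ho : Odd (Nat.card D)) {s : G} (h2 : s * s = 1)
    (hn : ∀ r ∈ D, s * r * s⁻¹ ∈ D) (hz : ∀ r ∈ D, Commute r s → r ∈ Zn D) {r : G} (hr : r ∈ D) :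
    r * (s * r * s⁻¹) ∈ Zn D := by
  have hs : s⁻¹ = s := inv_eq_of_mul_eq_one_right h2
  have hw : (s * r * s⁻¹)⁻¹ * r ∈ D := mul_mem (inv_mem (hn r hr)) hr
  have iw : s * ((s * r * s⁻¹)⁻¹ * r) * s⁻¹ = ((s * r * s⁻¹)⁻¹ * r)⁻¹ := by
    calc s * ((s * r * s⁻¹)⁻¹ * r) * s⁻¹ = (s * s) * r⁻¹ * s⁻¹ * r * s⁻¹ := by group
      _ = _ := by rw [h2]; nth_rewrite 1 [hs]; group
  obtain ⟨n, hn'⟩ := odd_of_mem ho hw
  have er : s * r * s⁻¹ = r * ((s * r * s⁻¹)⁻¹ * r)⁻¹ := by group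
  generalize (s * r * s⁻¹)⁻¹ * r = w at hw iw hn' er
  have e1 : w ^ (n + 1) * w ^ (n + 1) = w := by
    rw [← pow_add, show n + 1 + (n + 1) = orderOf w + 1 by omega, pow_succ, pow_orderOf_eq_one,
      one_mul]
  have e2 : s * w ^ (n + 1) * s⁻¹ = (w ^ (n + 1))⁻¹ := by rw [← conj_pow, iw, inv_pow]
  have hu : w ^ (n + 1) ∈ D := pow_mem hw _
  generalize w ^ (n + 1) = u at e1 e2 hu
  have hc := hz (r * u⁻¹) (mul_mem hr (inv_mem hu)) (by
    refine (mul_inv_eq_iff_eq_mul.1 ?_ : Commute s _).symm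
    calc s * (r * u⁻¹) * s⁻¹ = (s * r * s⁻¹) * (s * u * s⁻¹)⁻¹ := by group
      _ = r * u⁻¹ := by rw [er, e2, ← e1]; group)
  have e3 := (mem_Zn.1 hc).2 u hu
  have : r * (s * r * s⁻¹) = (r * u⁻¹) * (r * u⁻¹) := by
    calc r * (s * r * s⁻¹) = (r * u⁻¹) * (u * (r * u⁻¹)) * u⁻¹ := by rw [er, ← e1]; group
      _ = _ := by rw [e3.eq]; group
  rw [this]
  exact mul_mem hc hc

theorem oth (i : Fin 3) : ∃ j l, i ≠ j ∧ i ≠ l ∧ j ≠ l := by revert i; decide

theorem oth' {i j : Fin 3} (h : i ≠ j) : ∃ l, i ≠ l ∧ j ≠ l := by revert i j; decide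

variable {C : Subgroup G} {s : Fin 3 → G}

theorem sx (h : T3 R x y C s) (i : Fin 3) : s i • x = x := (h.CH (h.sC i)).1

theorem sy (h : T3 R x y C s) (i : Fin 3) : s i • y = y := (h.CH (h.sC i)).2

theorem comm_D (h : T3 R x y C s) (i : Fin 3) {r r' : G} (hr : r ∈ R x) (hr' : r' ∈ R x)
    (c : Commute r (s i)) (c' : Commute r' (s i)) : Commute r r' := by
  obtain ⟨j, -, h1, -, -⟩ := oth i
  have e := h.inv h1.symm _ (mul_mem (inv_mem hr) (inv_mem hr')) (c.inv_left.mul_left c'.inv_left)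
  show _ = _
  calc r * r' = (s j * r⁻¹ * (s j)⁻¹) * (s j * r'⁻¹ * (s j)⁻¹) := by
        rw [h.inv h1.symm _ (inv_mem hr) c.inv_left, h.inv h1.symm _ (inv_mem hr') c'.inv_left,
          inv_inv, inv_inv]
    _ = s j * (r⁻¹ * r'⁻¹) * (s j)⁻¹ := by group
    _ = r' * r := by rw [e]; group

theorem exists_Z (h : T3 R x y C s) : ∃ i, ∃ z ∈ Zn (R x), z ≠ 1 ∧ Commute z (s i) := by
  by_contra hn
  push Not at hn
  obtain ⟨r, hr, r1, -⟩ := h.D1 0
  have := h.nil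
  have : Nontrivial (R x) := ⟨⟨⟨r, hr⟩, 1, fun e => r1 (congrArg Subtype.val e)⟩⟩
  obtain ⟨z, hz⟩ := (Subgroup.ne_bot_iff_exists_ne_one).1
    (Group.IsNilpotent.center_ne_bot (G := R x))
  have hZ : (z.1 : G) ∈ Zn (R x) :=
    ⟨z.1.2, fun d hd => congrArg Subtype.val (mem_center_iff.1 z.2 ⟨d, hd⟩)⟩
  have iz : ∀ i, ∀ w ∈ Zn (R x), s i * w * (s i)⁻¹ = w⁻¹ := fun i =>
    inverts_of_fpf (h.s2 i) (fun w hw => conj_Zn h.fam (sx h i) hw)
      fun w hw c => by_contra fun e => hn i w hw e c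
  refine hz (Subtype.ext (Subtype.ext (eq_one_of_sq h.odd z.1.2 ?_)))
  rw [mul_eq_one_iff_eq_inv, ← iz 2 _ hZ, ← h.s01]
  calc (z.1 : G) = s 0 * (s 1 * z.1 * (s 1)⁻¹) * (s 0)⁻¹ := by
        rw [iz 1 _ hZ, iz 0 _ (inv_mem hZ), inv_inv]
    _ = _ := by group

theorem forall_Z (h : T3 R x y C s) (j : Fin 3) : ∃ z ∈ Zn (R x), z ≠ 1 ∧ Commute z (s j) := by
  obtain ⟨i, z, hz, z1, c⟩ := exists_Z h
  by_cases hij : i = j
  · exact ⟨z, hz, z1, hij ▸ c⟩
  obtain ⟨l, h1, h2⟩ := oth' hij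
  obtain ⟨b, hb, b1, cb⟩ := h.D1 j
  obtain ⟨b', hb', b1', cb'⟩ := h.D1 l
  obtain ⟨μ, m, e, -⟩ := h.mu j b hb b1 cb
  obtain ⟨μ', m', -, e'⟩ := h.mu l b' hb' b1' cb'
  refine ⟨μ * μ' * z * (μ * μ')⁻¹, conj_Zn h.fam (by rw [mul_smul, m'.sx, m.sy]) hz,
    fun e => z1 (conj_eq_one_iff.1 e), ?_⟩
  have : μ * μ' * s i * (μ * μ')⁻¹ = s j := by
    calc μ * μ' * s i * (μ * μ')⁻¹ = μ * (μ' * s i * μ'⁻¹) * μ⁻¹ := by group
      _ = s j := by rw [e' i j h1.symm h2.symm hij, ← e]; group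
  rw [← this]
  exact c.conj _

theorem D_le (h : T3 R x y C s) (i : Fin 3) {b : G} (hb : b ∈ R x) (cb : Commute b (s i)) :
    b ∈ Zn (R x) := by
  obtain ⟨z, hz, z1, c⟩ := forall_Z h i
  by_cases b1 : b = 1
  · exact b1 ▸ one_mem _
  by_cases bz : b * z = 1
  · rw [mul_eq_one_iff_eq_inv.1 bz]; exact inv_mem hz
  obtain ⟨μ, m, -, -⟩ := h.mu i b hb b1 cb
  obtain ⟨ν, n, en, -⟩ := h.mu i _ (mul_mem hb hz.1) bz (cb.mul_left c)
  obtain ⟨κ, k, -, -⟩ := h.mu i z hz.1 z1 c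
  have hy : ν • b⁻¹ • y ≠ x := fun e => by
    rw [← n.sy, smul_left_cancel_iff] at e
    exact b1 (inv_eq_one.1 (h.sr x _ (inv_mem hb) y h.ne.symm e))
  obtain ⟨e, he, ee⟩ := h.reg x y _ h.ne.symm hy
  have ce : Commute e (s i) := by
    refine (h.toRF.fix_iff h.ne.symm he (sx h i) (sy h i)).1 ?_
    rw [ee]
    exact smul_fix_of_commute (en ▸ (Commute.refl ν).mul_right (Commute.refl ν))
      (smul_fix_of_commute cb.inv_left (sy h i))
  have id := m.ident h.toRF h.ne ((mem_Zn.1 hz).2 b hb).symm n he ee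
    (comm_D h i he (mul_mem hb hz.1) ce (cb.mul_left c))
  have key : ∀ τ : G, τ • x = y → τ • y = x → ∃ w ∈ Zn (R x), τ • z • y = w • y := fun τ tx ty => by
    have gx : (τ * κ⁻¹) • x = x := by rw [mul_smul, k.inv.sx, ty]
    have gy : (τ * κ⁻¹) • y = y := by rw [mul_smul, k.inv.sy, tx]
    refine ⟨_, conj_Zn h.fam gx (inv_mem hz), ?_⟩
    rw [mul_smul, mul_smul, inv_smul_eq_iff.2 gy.symm, ← k.self h.toRF h.ne, mul_smul,
      inv_smul_smul]
  obtain ⟨w, hw, e1⟩ := key μ m.sx m.sy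
  obtain ⟨w', hw', e2⟩ := key ν⁻¹ n.inv.sx n.inv.sy
  rw [e1, e2, ← mul_smul, ← mul_smul] at id
  have e3 := h.toRF.eq_of_smul h.ne.symm (mul_mem (inv_mem hb) hw.1)
    (mul_mem (mul_mem hb hz.1) hw'.1) id
  refine mem_of_sq h.odd hb ?_
  have : b * b = w * (z * w')⁻¹ := by
    calc b * b = b * (b * z * w') * (z * w')⁻¹ := by group
      _ = _ := by rw [← e3]; group
  rw [this]
  exact mul_mem hw (inv_mem (mul_mem hz hw'))

end S5C

open S5C

theorem T3.comm {C : Subgroup G} {s : Fin 3 → G} (h : T3 R x y C s) :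
    ∀ r ∈ R x, ∀ r' ∈ R x, r * r' = r' * r := by
  intro r hr r' hr'
  have key : ∀ i, ∀ r ∈ R x, r * (s i * r * (s i)⁻¹) ∈ Zn (R x) := fun i r hr =>
    mul_conj_mem h.odd (h.s2 i) (fun d hd => h.fam.conj' (sx h i) hd) (fun d hd c => D_le h i hd c) hr
  refine (mem_of_sq h.odd hr' ?_).2 r hr
  have h0 := key 0 r' hr'
  have h1 := conj_Zn h.fam (sx h 0) (key 1 r' hr')
  have h2 := key 2 r' hr'
  rw [← h.s01] at h2
  have e := (mem_Zn.1 h0).2 r' hr'
  have : r' * r' = (r' * (s 0 * s 1 * r' * (s 0 * s 1)⁻¹)) *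
      (s 0 * (r' * (s 1 * r' * (s 1)⁻¹)) * (s 0)⁻¹)⁻¹ * (r' * (s 0 * r' * (s 0)⁻¹)) := by
    calc r' * r' = r' * (s 0 * r' * (s 0)⁻¹)⁻¹ * r'⁻¹ * ((r' * (s 0 * r' * (s 0)⁻¹)) * r') := by
          group
      _ = _ := by rw [← e.eq]; group
  rw [this]
  exact mul_mem (mul_mem h2 (inv_mem h1)) h0

namespace S5C

/-- The stabilizer of the pair `{x, y}`. -/
def pairSt (G : Type u) [Group G] [MulAction G X] (x y : X) : Subgroup G where
  carrier := {g | (g • x = x ∧ g • y = y) ∨ (g • x = y ∧ g • y = x)}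
  one_mem' := Or.inl ⟨one_smul _ _, one_smul _ _⟩
  mul_mem' := by
    rintro g k (⟨a, b⟩ | ⟨a, b⟩) (⟨c, d⟩ | ⟨c, d⟩)
    · exact Or.inl ⟨by rw [mul_smul, c, a], by rw [mul_smul, d, b]⟩
    · exact Or.inr ⟨by rw [mul_smul, c, b], by rw [mul_smul, d, a]⟩
    · exact Or.inr ⟨by rw [mul_smul, c, a], by rw [mul_smul, d, b]⟩
    · exact Or.inl ⟨by rw [mul_smul, c, b], by rw [mul_smul, d, a]⟩
  inv_mem' := by
    rintro g (⟨a, b⟩ | ⟨a, b⟩)
    · exact Or.inl ⟨inv_smul_eq_iff.2 a.symm, inv_smul_eq_iff.2 b.symm⟩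
    · exact Or.inr ⟨inv_smul_eq_iff.2 b.symm, inv_smul_eq_iff.2 a.symm⟩

open Classical in
/-- The action of the stabilizer of the pair on `R x`. -/
noncomputable def act (R : X → Subgroup G) (x y : X) (g : G) (c : R x) : R x :=
  if h : c ≠ 1 ∧ ∃ r : R x, (r : G) • y = g • (c : G) • y then h.2.choose else 1

open Classical in
/-- The element `μ` attached to `b`. -/
noncomputable def muOf (R : X → Subgroup G) (x y : X) (b : R x) : pairSt G x y :=
  if h : ∃ μ, Mu R x y b μ then ⟨h.choose, Or.inr ⟨h.choose_spec.sx, h.choose_spec.sy⟩⟩ else 1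

theorem act_one (g : G) : act R x y g 1 = 1 := dif_neg fun h => h.1 rfl

theorem mu_eq (h : RF R) (hxy : x ≠ y) {b : R x} {μ : G} (m : Mu R x y b μ) :
    (muOf R x y b : G) = μ := by
  have e : ∃ μ, Mu R x y b μ := ⟨μ, m⟩
  rw [muOf, dif_pos e]
  exact m.unique h hxy e.choose_spec

theorem pt_inj (h : RF R) (hxy : x ≠ y) {r r' : R x} (e : (r : G) • y = (r' : G) • y) : r = r' :=
  Subtype.ext (h.eq_of_smul hxy.symm r.2 r'.2 e)

theorem smul_ne (h : RF R) (hxy : x ≠ y) {g : G} (hg : g ∈ pairSt G x y) {c : R x} (hc : c ≠ 1) :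
    g • (c : G) • y ≠ x ∧ g • (c : G) • y ≠ y := by
  have h1 : (c : G) • y ≠ x := h.smul_ne hxy.symm c.2
  have h2 : (c : G) • y ≠ y := fun e => hc (Subtype.ext (h.sr x _ c.2 y hxy.symm e))
  rcases hg with ⟨a, b⟩ | ⟨a, b⟩
  · exact ⟨fun e => h1 ((smul_left_cancel_iff g).1 (e.trans a.symm)),
      fun e => h2 ((smul_left_cancel_iff g).1 (e.trans b.symm))⟩
  · exact ⟨fun e => h2 ((smul_left_cancel_iff g).1 (e.trans b.symm)),
      fun e => h1 ((smul_left_cancel_iff g).1 (e.trans a.symm))⟩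

theorem act_spec (h : RF R) (hxy : x ≠ y) {g : G} (hg : g ∈ pairSt G x y) {c : R x} (hc : c ≠ 1) :
    (act R x y g c : G) • y = g • (c : G) • y := by
  obtain ⟨r, hr, e⟩ := h.reg x y _ hxy.symm (smul_ne h hxy hg hc).1
  have : c ≠ 1 ∧ ∃ r : R x, (r : G) • y = g • (c : G) • y := ⟨hc, ⟨r, hr⟩, e⟩
  rw [act, dif_pos this]
  exact this.2.choose_spec

theorem act_ne (h : RF R) (hxy : x ≠ y) {g : G} (hg : g ∈ pairSt G x y) {c : R x} (hc : c ≠ 1) :
    act R x y g c ≠ 1 := fun e => (smul_ne h hxy hg hc).2 (by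
  rw [← act_spec h hxy hg hc, e, OneMemClass.coe_one, one_smul])

theorem act_H (h : RF R) (hxy : x ≠ y) {g : G} (hg : g ∈ st2 G x y) (c : R x) :
    (act R x y g c : G) = g * c * g⁻¹ := by
  by_cases hc : c = 1
  · simp [hc, act_one]
  refine h.eq_of_smul hxy.symm (act R x y g c).2 (h.fam.conj' hg.1 c.2) ?_
  rw [act_spec h hxy (Or.inl hg) hc, mul_smul, mul_smul, inv_smul_eq_iff.2 (Eq.symm hg.2)]

theorem act_fix (h : RF R) (hxy : x ≠ y) {g : G} (hg : g ∈ st2 G x y) {c : R x} :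
    act R x y g c = c ↔ Commute (c : G) g := by
  rw [Subtype.ext_iff, act_H h hxy hg, mul_inv_eq_iff_eq_mul]
  exact eq_comm

theorem act_mul (h : RF R) (hxy : x ≠ y) {g k : G} (hg : g ∈ pairSt G x y) (hk : k ∈ pairSt G x y)
    (c : R x) : act R x y (g * k) c = act R x y g (act R x y k c) := by
  by_cases hc : c = 1
  · simp [hc, act_one]
  refine pt_inj h hxy ?_
  rw [act_spec h hxy (mul_mem hg hk) hc, act_spec h hxy hg (act_ne h hxy hk hc),
    act_spec h hxy hk hc, mul_smul]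

theorem swap_of {τ : pairSt G x y} (hτ : τ ∉ (st2 G x y).subgroupOf (pairSt G x y)) :
    (τ : G) • x = y ∧ (τ : G) • y = x := τ.2.resolve_left hτ

theorem act_F (h : RF R) (hxy : x ≠ y) (ab : ∀ r ∈ R x, ∀ r' ∈ R x, r * r' = r' * r) {b c : R x}
    {μ τ : G} (m : Mu R x y b μ) (tx : τ • x = y) (ty : τ • y = x) (hc : c ≠ 1) (hcb : c * b ≠ 1) :
    act R x y τ (act R x y μ c / b) = act R x y τ (c * b) * act R x y τ b⁻¹ := by
  have b1 : b⁻¹ ≠ 1 := fun e => m.ne_one h hxy (congrArg Subtype.val (inv_eq_one.1 e))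
  have hτ : τ ∈ pairSt G x y := Or.inr ⟨tx, ty⟩
  have e := m.F h hxy tx ty (act R x y τ b⁻¹).2 (act_spec h hxy hτ b1) ((c : G) • y)
  have e1 : (b : G)⁻¹ • μ • (c : G) • y = ((act R x y μ c / b : R x) : G) • y := by
    rw [← act_spec h hxy (Or.inr ⟨m.sx, m.sy⟩) hc, ← mul_smul, div_eq_mul_inv, coe_mul, coe_inv,
      ab _ (inv_mem b.2) _ (act R x y μ c).2]
  have e2 : (act R x y τ b⁻¹ : G) • τ • (b : G) • (c : G) • y =
      ((act R x y τ (c * b) * act R x y τ b⁻¹ : R x) : G) • y := by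
    rw [coe_mul, ab _ (act R x y τ (c * b)).2 _ (act R x y τ b⁻¹).2, mul_smul,
      act_spec h hxy hτ hcb, coe_mul, ab _ c.2 _ b.2, mul_smul]
  rw [e1, e2] at e
  refine pt_inj h hxy ((act_spec h hxy hτ fun e3 => ?_).trans e)
  rw [e3, OneMemClass.coe_one, one_smul, ty] at e
  exact h.smul_ne hxy.symm (act R x y τ (c * b) * act R x y τ b⁻¹).2 e.symm

end S5C

theorem T3.false {C : Subgroup G} {s : Fin 3 → G} (h : T3 R x y C s) : False := by
  have hR := h.toRF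
  have hxy := h.ne
  have sH : ∀ i, s i ∈ st2 G x y := fun i => h.CH (h.sC i)
  let cg : CommGroup (R x) :=
    { (inferInstance : Group (R x)) with mul_comm := fun a b => Subtype.ext (h.comm _ a.2 _ b.2) }
  let ma : MulAction (pairSt G x y) (Additive (R x)) :=
    { smul := fun g c => Additive.ofMul (act R x y g c.toMul)
      one_smul := fun c => (act_fix hR hxy (one_mem _)).2 (Commute.one_right _)
      mul_smul := fun g k c => act_mul hR hxy g.2 k.2 c.toMul }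
  have fx : ∀ i {d : R x}, act R x y (s i) d = d → Commute (d : G) (s i) := fun i _ e =>
    (act_fix hR hxy (sH i)).1 e
  have n1 : ∀ {d : R x}, d ≠ 1 → (d : G) ≠ 1 := fun e e' => e (Subtype.ext e')
  have mm : ∀ i {b : R x}, b ≠ 1 → act R x y (s i) b = b →
      Mu R x y b (muOf R x y b : G) ∧ (muOf R x y b : G) * muOf R x y b = s i ∧
        ∀ j k, i ≠ j → i ≠ k → j ≠ k → muOf R x y b * s j * (muOf R x y b : G)⁻¹ = s k :=
    fun i {b} b1 e => by
      obtain ⟨μ, m, e1⟩ := h.mu i b b.2 (n1 b1) (fx i e)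
      rw [mu_eq hR hxy m]
      exact ⟨m, e1⟩
  refine MS.false (Γ := pairSt G x y) (M := Additive (R x))
    (H := (st2 G x y).subgroupOf (pairSt G x y)) (C := C.subgroupOf (pairSt G x y))
    (s := fun i => ⟨s i, Or.inl (sH i)⟩) (μ := fun b => muOf R x y b.toMul)
    { sw := fun {τ τ'} h1 h2 => ⟨?_, ?_⟩
      zero := fun g => act_one _
      add := fun g hg c d => Subtype.ext ?_
      two := fun c e => Subtype.ext (eq_one_of_sq h.odd c.toMul.2 (congrArg Subtype.val e))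
      CH := fun c hc => h.CH hc
      Cn := ⟨fun c hc g => g.2.elim (fun e => h.nH g e.1 e.2 c hc) fun e => h.nS g e.1 e.2 c hc⟩
      sC := fun i => h.sC i
      s2 := fun i => Subtype.ext (h.s2 i)
      s01 := Subtype.ext h.s01
      cen := fun c hc i => Subtype.ext (h.cen c hc i).eq
      neg := fun {i j} hij d e =>
        Subtype.ext ((act_H hR hxy (sH i) _).trans (h.inv hij _ d.toMul.2 (fx j e)))
      D1 := fun i => ?_
      tw := fun c hc {i j} hij d d' d1 d1' e1 e2 e3 e4 => Subtype.ext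
        (h.tw c hc hij _ d.toMul.2 _ d'.toMul.2 (n1 d1) (n1 d1') (fx i e1) (fx j e2)
          ((act_fix hR hxy (h.CH hc)).1 e3) ((act_fix hR hxy (h.CH hc)).1 e4))
      mu_sw := fun i {b} b1 e hb => hxy (Eq.trans (Eq.symm hb.1) (mm i b1 e).1.sx)
      mu_sq := fun i {b} b1 e => Subtype.ext (mm i b1 e).2.1
      mu_s := fun {i j k} {b} h1 h2 h3 b1 e => Subtype.ext ((mm i b1 e).2.2 j k h1 h2 h3)
      mu_self := fun i {b} b1 e => pt_inj hR hxy
        ((act_spec hR hxy (muOf R x y b.toMul).2 b1).trans ((mm i b1 e).1.self hR hxy))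
      mu_neg := fun i {b} b1 e => Subtype.ext (mu_eq hR hxy (mm i b1 e).1.inv)
      mu_H := fun i {b} b1 e g hg => Subtype.ext (mu_eq hR hxy ?_).symm
      mu_S := fun i {b} b1 e τ hτ => Subtype.ext (mu_eq hR hxy
        ((mm i b1 e).1.conjS hR hxy (swap_of hτ).1 (swap_of hτ).2 (act R x y τ b.toMul⁻¹).2
          (act_spec hR hxy τ.2 (inv_ne_one.2 b1)))).symm
      F := fun i {b} b1 e τ hτ c c1 cb =>
        act_F hR hxy h.comm (mm i b1 e).1 (swap_of hτ).1 (swap_of hτ).2 c1 cb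
      same := fun i {b b'} b1 b1' e e' => h.same i (fx i e) (fx i e') (mm i b1 e).1 (mm i b1' e').1
      cube := fun i j {b b'} b1 b1' e e' =>
        h.cube i j (fx i e) (fx j e') (mm i b1 e).1 (mm j b1' e').1 }
  · show ((τ : G) * τ') • x = x
    rw [mul_smul, (swap_of h2).1, (swap_of h1).2]
  · show ((τ : G) * τ') • y = y
    rw [mul_smul, (swap_of h2).2, (swap_of h1).1]
  · show (act R x y g (c.toMul * d.toMul) : G) = act R x y g c.toMul * act R x y g d.toMul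
    have hg' : (g : G) ∈ st2 G x y := hg
    rw [act_H hR hxy hg', act_H hR hxy hg', act_H hR hxy hg', coe_mul]
    group
  · obtain ⟨r, hr, r1, c⟩ := h.D1 i
    exact ⟨Additive.ofMul ⟨r, hr⟩, fun e => r1 (congrArg Subtype.val e),
      (act_fix hR hxy (sH i)).2 c⟩
  · show Mu R x y (act R x y g b.toMul : G) _
    rw [act_H hR hxy (g := g) hg]
    exact (mm i b1 e).1.conjH hR hg.1 hg.2

end Cfsg.Agent.OT
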